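import Cfsg.Agent.Lib.LargeFischer.Stab
import Cfsg.Agent.Lib.Classical.OrthOrderStd
import Cfsg.Agent.Lib.Classical.OrthForms

/-!
The stabiliser of the point vector is the isometry group of the elliptic form in dimension six.
-/

set_option autoImplicit false
set_option maxRecDepth 100000
set_option linter.style.haveILetI false

namespace CfsgLib.LargeFischer

open Matrix
open CfsgLib.Fi22USix (V6)

theorem aniso2 : ∀ z₁ z₂ : ZMod 2, z₁ ^ 2 + 1 * z₁ * z₂ + 1 * z₂ ^ 2 = 0 → z₁ = 0 ∧ z₂ = 0 := by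
  decide +kernel

theorem iso_card : Nat.card (Cfsg.isometryGroup (ZMod 2) qm) = 51840 := by
  obtain ⟨B, hB, hBn⟩ := CfsgLib.Orth.exists_quadForm_minus (F := ZMod 2) 2 aniso2
  have h := CfsgLib.Orth.card_orth_minus (F := ZMod 2) 3 (by norm_num) aniso2 (Q := B) hB hBn
  rw [show CfsgLib.Orth.Grp B = ↥(Cfsg.isometryGroup (ZMod 2) qm) by
    rw [CfsgLib.Orth.Grp, hB]] at h
  rw [h, Nat.card_zmod]
  decide +kernel

theorem dec_surj : ∀ v : I6 → ZMod 2, ∃ a : Fin 64, dec6 a = v := by decide +kernel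

theorem line_zero : dec6 0 = 0 := by decide +kernel

theorem line_cover : ∀ v : I6 → ZMod 2, qm v = 0 → v ≠ 0 →
    ∃ i j : Fin 45, lineF i ∩ lineF j = {v} := by decide +kernel

theorem vec_gen : ∀ v : I6 → ZMod 2, ∃ a b c : I6 → ZMod 2,
    qm a = 0 ∧ qm b = 0 ∧ qm c = 0 ∧ v = a + b + c := by decide +kernel

/-- the action of the isometries on the lines -/
theorem exists_lines : ∃ ψ : ↥(Cfsg.isometryGroup (ZMod 2) qm) →* Equiv.Perm (Fin 45),
    Function.Injective ψ ∧
    ∀ g i, lineF (ψ g i) = (lineF i).image (fun v => (g.1 : Matrix I6 I6 (ZMod 2)) *ᵥ v) := by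
  classical
  have hq : ∀ (g : ↥(Cfsg.isometryGroup (ZMod 2) qm)) v, qm ((g.1 : Matrix I6 I6 (ZMod 2)) *ᵥ v) = qm v :=
    fun g v => g.2 v v
  have hinj : ∀ (g : ↥(Cfsg.isometryGroup (ZMod 2) qm)) u v, (g.1 : Matrix I6 I6 (ZMod 2)) *ᵥ u =
      (g.1 : Matrix I6 I6 (ZMod 2)) *ᵥ v → u = v := fun g u v h => by
    have := congrArg (fun w => ((g.1⁻¹ : GL I6 (ZMod 2)) : Matrix I6 I6 (ZMod 2)) *ᵥ w) h
    simpa [mulVec_mulVec] using this
  have hl : ∀ (g : ↥(Cfsg.isometryGroup (ZMod 2) qm)) (i : Fin 45), ∃ j,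
      (lineF i).image (fun v => (g.1 : Matrix I6 I6 (ZMod 2)) *ᵥ v) = lineF j := by
    intro g i
    have hne : ∀ i : Fin 45, ∃ a ∈ lineF i, ∃ b ∈ lineF i, a ≠ b := by decide +kernel
    obtain ⟨a, ha, b, hb, hab⟩ := hne i
    have e := line_pair i a ha b hb hab
    have hab' : qm (a + b) = 0 := (line_spec i _ (by rw [e]; simp)).1
    let M := (g.1 : Matrix I6 I6 (ZMod 2))
    have hM0 : ∀ x ∈ lineF i, M *ᵥ x ≠ 0 := fun x hx h =>
      (line_spec i x hx).2 (hinj g x 0 (h.trans (mulVec_zero M).symm))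
    obtain ⟨a', ha'⟩ := dec_surj (M *ᵥ a)
    obtain ⟨b', hb'⟩ := dec_surj (M *ᵥ b)
    have h0 : ∀ x : Fin 64, ∀ y ∈ lineF i, dec6 x = M *ᵥ y → (x : ℕ) ≠ 0 := fun x y hy e1 h0 =>
      hM0 y hy (by rw [← e1, h0, line_zero])
    obtain ⟨j, hja, hjb⟩ := line_all a' b' (by rw [ha', hq]; exact (line_spec i a ha).1)
      (by rw [hb', hq]; exact (line_spec i b hb).1) (h0 a' a ha ha') (h0 b' b hb hb')
      (fun h => hab (hinj g a b (by
        show M *ᵥ a = M *ᵥ b
        rw [← ha', ← hb', h])))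
      (by rw [ha', hb', ← mulVec_add, hq]; exact hab')
    have m1 := line_mem j _ hja
    have m2 := line_mem j _ hjb
    rw [ha'] at m1
    rw [hb'] at m2
    refine ⟨j, ?_⟩
    rw [line_pair j _ m1 _ m2 (fun h => hab (hinj g a b h)), e]
    simp [Finset.image_insert, mulVec_add, M]
  obtain ⟨ψ, hψ⟩ := CfsgLib.Schur.exists_familyHom
    (fun (g : ↥(Cfsg.isometryGroup (ZMod 2) qm)) (S : Finset (I6 → ZMod 2)) =>
      S.image fun v => (g.1 : Matrix I6 I6 (ZMod 2)) *ᵥ v)
    lineF (fun i j h => line_inj i j h) (fun i => by simp)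
    (fun g g' i => by
      rw [Finset.image_image]
      exact Finset.image_congr fun v _ => (mulVec_mulVec v _ _).symm)
    (S := Set.univ) Subgroup.closure_univ fun g _ i => hl g i
  refine ⟨ψ, (injective_iff_map_eq_one ψ).mpr fun g hg => ?_, hψ⟩
  have hfix : ∀ v, qm v = 0 → (g.1 : Matrix I6 I6 (ZMod 2)) *ᵥ v = v := by
    intro v hv
    by_cases h0 : v = 0
    · rw [h0, mulVec_zero]
    obtain ⟨i, j, hij⟩ := line_cover v hv h0
    have hi := hψ g i
    have hj := hψ g j
    rw [hg, Equiv.Perm.one_apply] at hi hj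
    have h1 : (lineF i ∩ lineF j).image (fun v => (g.1 : Matrix I6 I6 (ZMod 2)) *ᵥ v) = lineF i ∩ lineF j := by
      rw [Finset.image_inter _ _ fun u v h => hinj g u v h, ← hi, ← hj]
    rw [hij, Finset.image_singleton, Finset.singleton_inj] at h1
    exact h1
  refine Subtype.ext (Units.ext (Matrix.toLin'.injective (LinearMap.ext fun v => ?_)))
  rw [Matrix.toLin'_apply, Matrix.toLin'_apply]
  obtain ⟨a, b, c, ha, hb, hc, rfl⟩ := vec_gen v
  simp only [mulVec_add, hfix a ha, hfix b hb, hfix c hc]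
  simp

/-- the generators with the conjugation after the swap -/
noncomputable def sGen (k : Fin 4) : Equiv.Perm V6 := if h : (k : ℕ) < 3 then rGen ⟨k, h⟩ else oP 2

/-- the point stabiliser is the isometry group -/
theorem point_structure {Γ : Subgroup (Equiv.Perm V6)} (h : Shape 2 Γ) :
    Nonempty (↥(fixIn Γ v0) ≃* ↥(Cfsg.isometryGroup (ZMod 2) qm)) := by
  classical
  obtain ⟨φ, hφ, hφt⟩ := exists_fam fam45 fam45_inj sGen s45Perm fun k => by
    fin_cases k
    · show agrees fam45 (rGen 0) s45Perm 0 = true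
      rw [rGen_coe]; exact s45_agree.1 0
    · show agrees fam45 (rGen 1) s45Perm 1 = true
      rw [rGen_coe]; exact s45_agree.1 1
    · show agrees fam45 (rGen 2) s45Perm 2 = true
      rw [rGen_coe]; exact s45_agree.1 2
    · exact s45_agree.2
  have hge := range_ge φ hφt s45_ok
  have hle : Subgroup.closure (Set.range sGen) ≤ fixIn Γ v0 := by
    refine (Subgroup.closure_le _).mpr ?_
    rintro _ ⟨k, rfl⟩
    unfold sGen
    split
    · exact h.fix_mem (rGen_mem _)
    · exact ⟨h.oP_mem, (oF_fix 2).1⟩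
  have hc : Nat.card (fixIn Γ v0) ≤ 51840 := by
    have := h.fix_card (oF_fix 2).1
    have := coreFix_point
    omega
  have h1 := Subgroup.card_le_of_le hle
  have h3 := Nat.le_of_dvd Nat.card_pos (Subgroup.card_range_dvd φ)
  have heq : Subgroup.closure (Set.range sGen) = fixIn Γ v0 := Subgroup.eq_of_le_of_card_ge hle (by omega)
  have hinj : Function.Injective φ := (MonoidHom.rangeRestrict_injective_iff).mp
    ((Nat.bijective_iff_surjective_and_card φ.rangeRestrict).mpr ⟨φ.rangeRestrict_surjective, by omega⟩).1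
  obtain ⟨ψ, hψi, hψ⟩ := exists_lines
  have hgen : ∀ k : Fin 4, ∃ g, ∀ i : Fin 45, (ψ g i : ℕ) = entry s45Perm k i := by
    intro k
    obtain ⟨h12, h21, hiso, hag⟩ := orth_ok k
    let g : ↥(Cfsg.isometryGroup (ZMod 2) qm) := ⟨⟨_, _, h12, h21⟩, fun u _ => hiso u⟩
    refine ⟨g, fun i => ?_⟩
    have h1 := List.all_eq_true.mp hag i (List.mem_finRange i)
    by_cases hlt : entry s45Perm k i < 45
    · rw [dif_pos hlt, decide_eq_true_eq] at h1
      exact congrArg Fin.val (line_inj (ψ g i) ⟨_, hlt⟩ ((hψ g i).trans h1))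
    · rw [dif_neg hlt] at h1; exact absurd h1 Bool.false_ne_true
  have hrle : φ.range ≤ ψ.range := by
    rintro _ ⟨⟨g, hg⟩, rfl⟩
    induction hg using Subgroup.closure_induction with
    | mem y hy =>
      obtain ⟨k, rfl⟩ := hy
      obtain ⟨g, hg⟩ := hgen k
      exact ⟨g, Equiv.ext fun i => Fin.ext ((hg i).trans (hφt k i).symm)⟩
    | one => exact (congrArg (· ∈ _) (map_one φ)).mpr (one_mem _)
    | mul a b ha hb iha ihb =>
      have := mul_mem iha ihb
      rwa [← map_mul] at this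
    | inv a ha iha =>
      have := inv_mem iha
      rwa [← map_inv] at this
  have hreq : φ.range = ψ.range := Subgroup.eq_of_le_of_card_ge hrle (by
    rw [← Nat.card_congr (MonoidHom.ofInjective hψi).toEquiv, iso_card]; omega)
  exact ⟨(MulEquiv.subgroupCongr heq.symm).trans ((MonoidHom.ofInjective hinj).trans
    ((MulEquiv.subgroupCongr hreq).trans (MonoidHom.ofInjective hψi).symm))⟩

end CfsgLib.LargeFischer
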