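import Cfsg.Agent.Lib.LargeFischer.Main
import Cfsg.Agent.Lib.LargeFischer.Iso

/-!
The stabilisers in the quotient by the extraspecial group.
-/

set_option autoImplicit false
set_option maxRecDepth 100000
set_option linter.style.haveILetI false

namespace CfsgLib.LargeFischer

open CfsgLib.Extraspecial
open CfsgLib.Fi22USix (V6 code)
open CfsgLib.USixUFour (InP isOff)

variable {G : Type*} [Group G] [Finite G] {z : G} {Q : Subgroup (CZ z)} [Q.Normal]
  {v : CZ z → V6} {ρ : CZ z →* Equiv.Perm V6} {o : Fin 3}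

theorem exists_conjugate (hF : Cfsg.IsOfLargeFischerTypeAt z Q) :
    ∃ g : G, g * z * g⁻¹ ∈ QG Q ∧ g * z * g⁻¹ ≠ z := by
  obtain ⟨⟨-, -, -, -, g, ⟨hq, hQ⟩, hne⟩, -⟩ := hF
  exact ⟨g, ⟨_, hQ, rfl⟩, hne⟩

theorem mem_of_pair {s : G} (h : ∃ hsc : s ∈ Subgroup.centralizer ({z} : Set G),
    (⟨s, hsc⟩ : Subgroup.centralizer ({z} : Set G)) ∈ Q) : ∃ x : CZ z, x ∈ Q ∧ (x : G) = s :=
  ⟨⟨s, h.1⟩, h.2, rfl⟩

namespace Co

variable (C : Co z Q v ρ o)
include C

theorem off_of_isConj {x : CZ z} (hx : x ∈ Q) (hc : IsConj z (x : G)) (hne : (x : G) ≠ z) :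
    isOff (code (v x)) = true := by
  obtain ⟨g, hg⟩ := isConj_iff.mp hc
  exact C.off_of_conj hx hg.symm hne

theorem ne_zero_of_off {a : V6} (h : isOff (code a) = true) : a ≠ 0 := fun e => by
  subst e
  rw [USixUFour.isOff, decide_eq_true_eq] at h
  exact h.1 (by decide +kernel)

theorem one_orbit {x y : CZ z} (hx : x ∈ Q) (hy : y ∈ Q) (h1 : isOff (code (v x)) = true)
    (h2 : isOff (code (v y)) = true) : ∃ h : CZ z, h * x * h⁻¹ = y := by
  obtain ⟨f, hf, ef⟩ := C.to_off h1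
  obtain ⟨f', hf', ef'⟩ := C.to_off h2
  refine C.conj_of hx hy (C.ne_zero_of_off h1) (mul_mem (inv_mem hf') hf) ?_
  rw [Equiv.Perm.mul_apply, ef, ← ef', Equiv.Perm.coe_inv, Equiv.symm_apply_apply]

theorem point_of_not_conj (hex : ∃ g : G, g * z * g⁻¹ ∈ QG Q ∧ g * z * g⁻¹ ≠ z) {t : CZ z} (ht : t ∈ Q)
    (ht2 : orderOf t = 2) (hnc : ¬ IsConj z (t : G)) : InP 0 (v t) := by
  have htt : (t : G) * t = 1 := by
    have := congrArg Subtype.val (show t ^ 2 = 1 by rw [← ht2]; exact pow_orderOf_eq_one t)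
    rwa [pow_two] at this
  have ht1 : (t : G) ≠ 1 := fun e => by
    rw [show t = 1 from Subtype.ext e, orderOf_one] at ht2
    omega
  refine (C.kinds ht htt ht1 fun e => hnc (isConj_iff.mpr ⟨1, by rw [one_mul, inv_one, mul_one, e]⟩)).resolve_right fun hoff => hnc ?_
  obtain ⟨g, ⟨x, hx, ex⟩, hne⟩ := hex
  have hox := C.off_of_conj (x := x) hx ex fun e => hne (ex.symm.trans e)
  obtain ⟨h, eh⟩ := C.one_orbit hx ht hox hoff
  refine isConj_iff.mpr ⟨(h : G) * g, ?_⟩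
  have e1 : (h : G) * x * (h : G)⁻¹ = t := congrArg Subtype.val eh
  rw [← e1, show (x : G) = g * z * g⁻¹ from ex]; group

/-- the action of the quotient -/
theorem exists_lift : ∃ r : CZ z ⧸ Q →* Equiv.Perm V6, Function.Injective r ∧ ∀ h : CZ z, r h = ρ h := by
  refine ⟨QuotientGroup.lift Q ρ fun h hh => (C.ker h).mpr hh, (injective_iff_map_eq_one _).mpr fun a => ?_,
    fun h => rfl⟩
  induction a using QuotientGroup.induction_on with
  | H h => exact fun e => (QuotientGroup.eq_one_iff h).mpr ((C.ker h).mp e)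

theorem fix_lift {x : CZ z} (hx : x ∈ Q) (hne : v x ≠ 0) {f : Equiv.Perm V6}
    (hf : f ∈ fixIn ρ.range (v x)) : ∃ h : CZ z, ρ h = f ∧ h * x * h⁻¹ = x := by
  obtain ⟨⟨h, rfl⟩, hfix⟩ := hf
  have he : v (h * x * h⁻¹) = v x := (C.vconj h x hx).trans hfix
  obtain ⟨w, hw, ew⟩ := C.conj_same ((inferInstance : Q.Normal).conj_mem x hx h) hx he (he ▸ hne)
  refine ⟨w * h, by rw [map_mul, (C.ker w).mpr hw, one_mul], ?_⟩
  calc _ = w * (h * x * h⁻¹) * w⁻¹ := by group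
    _ = x := ew

theorem fix_congr {w w' : V6} {f : Equiv.Perm V6} (hf : f ∈ ρ.range) (e : f w = w') {a : Equiv.Perm V6} :
    f * a * f⁻¹ ∈ fixIn ρ.range w' ↔ a ∈ fixIn ρ.range w := by
  subst e
  constructor
  · rintro ⟨h1, h2⟩
    refine ⟨?_, f.injective ?_⟩
    · have := mul_mem (mul_mem (inv_mem hf) h1) hf
      rwa [show f⁻¹ * (f * a * f⁻¹) * f = a by group] at this
    · have h3 : f (a (f⁻¹ (f w))) = f w := h2
      rwa [Equiv.Perm.coe_inv, Equiv.symm_apply_apply] at h3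
  · rintro ⟨h1, h2⟩
    refine ⟨ρ.range.mul_mem (ρ.range.mul_mem hf h1) (ρ.range.inv_mem hf), ?_⟩
    show f (a (f⁻¹ (f w))) = f w
    rw [Equiv.Perm.coe_inv, Equiv.symm_apply_apply]
    exact congrArg f h2

/-- the stabiliser of a point vector in the quotient -/
theorem point_group (hex : ∃ g : G, g * z * g⁻¹ ∈ QG Q ∧ g * z * g⁻¹ ≠ z) {t : CZ z} (ht : t ∈ Q)
    (ht2 : orderOf t = 2) (hnc : ¬ IsConj z (t : G)) (S : Subgroup (CZ z))
    (hS : ∀ h : CZ z, h ∈ S ↔ (h * t * h⁻¹ = t ∨ ((h * t * h⁻¹ : CZ z) : G) = t * z)) :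
    Nonempty (↥(S.map (QuotientGroup.mk' Q)) ≃*
      Cfsg.isometryGroup (ZMod 2) (Cfsg.quadFormMinus 2 (ZMod 2) 1 1)) := by
  obtain rfl := C.outer_two hex
  obtain ⟨r, hr, hrρ⟩ := C.exists_lift
  have hP := C.point_of_not_conj hex ht ht2 hnc
  have hne : v t ≠ 0 := (inP_iso hP).2
  have hS' : ∀ h : CZ z, h ∈ S ↔ ρ h (v t) = v t := by
    intro h
    have hc := (inferInstance : Q.Normal).conj_mem t ht h
    rw [hS, ← C.vconj h t ht]
    constructor
    · rintro (e | e)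
      · rw [e]
      · have hq : t⁻¹ * (h * t * h⁻¹) ∈ Q := mul_mem (inv_mem ht) hc
        have h0 : v (t⁻¹ * (h * t * h⁻¹)) = 0 := (C.vzero _ hq).mpr (Or.inr (by
          show (t : G)⁻¹ * ((h * t * h⁻¹ : CZ z) : G) = z
          rw [e, inv_mul_cancel_left]))
        rw [← mul_inv_cancel_left t (h * t * h⁻¹), C.vmul t ht _ hq, h0, add_zero]
    · intro e
      rcases C.eq_cases ht hc e.symm with e1 | e1
      · exact Or.inl (Subtype.ext e1)
      · exact Or.inr (e1.trans (C.st.z_comm (mem_QG ht)).symm)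
  obtain ⟨f, hf, ef⟩ := C.to_point hP
  have hrange : ∀ a : ↥(S.map (QuotientGroup.mk' Q)), f * r a * f⁻¹ ∈ fixIn ρ.range v0 := by
    rintro ⟨_, h, hh, rfl⟩
    refine (C.fix_congr hf ef).mpr ?_
    show r (h : CZ z ⧸ Q) ∈ _
    rw [hrρ]
    exact ⟨⟨h, rfl⟩, (hS' h).mp hh⟩
  let ω : ↥(S.map (QuotientGroup.mk' Q)) →* ↥(fixIn ρ.range v0) :=
    MonoidHom.mk' (fun a => ⟨f * r a * f⁻¹, hrange a⟩) fun a b => Subtype.ext (by
      show f * r ((a : CZ z ⧸ Q) * b) * f⁻¹ = f * r a * f⁻¹ * (f * r b * f⁻¹)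
      rw [map_mul]; group)
  have hω : Function.Bijective ω := by
    refine ⟨fun a b e => ?_, fun b => ?_⟩
    · have h1 : f * r a * f⁻¹ = f * r b * f⁻¹ := congrArg Subtype.val e
      exact Subtype.ext (hr (mul_left_cancel (mul_right_cancel h1)))
    · obtain ⟨b, hb⟩ := b
      have hb' : f * (f⁻¹ * b * f) * f⁻¹ ∈ fixIn ρ.range v0 := by
        rwa [show f * (f⁻¹ * b * f) * f⁻¹ = b by group]
      obtain ⟨⟨h, eh⟩, hfix⟩ := (C.fix_congr hf ef).mp hb'
      rw [← eh] at hfix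
      refine ⟨⟨QuotientGroup.mk' Q h, h, (hS' h).mpr hfix, rfl⟩, Subtype.ext ?_⟩
      show f * r (h : CZ z ⧸ Q) * f⁻¹ = b
      rw [hrρ, eh]; group
  obtain ⟨e⟩ := point_structure C.shape
  exact ⟨(MulEquiv.ofBijective ω hω).trans e⟩

/-- the trace of a conjugate and the stabiliser on top -/
theorem conjugate_group {g : G} (c : Pair (QG Q) z g) {t : CZ z} (ht : t ∈ Q)
    (et : (t : G) = g * z * g⁻¹) (X E : Subgroup (CZ z ⧸ Q))
    (hX : X = ((CZ z ⊓ Subgroup.centralizer ({g * z * g⁻¹} : Set G)).subgroupOf (CZ z)).map (QuotientGroup.mk' Q))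
    (hE : E = (PH Q g).map (QuotientGroup.mk' Q)) :
    Cfsg.IsElementaryAbelian 2 (QG Q ⊓ (QG Q).map (MulAut.conj g).toMonoidHom) ∧
    Nat.card ↥(QG Q ⊓ (QG Q).map (MulAut.conj g).toMonoidHom) = 2 ^ 7 ∧ E ≤ X ∧
    (∀ x ∈ X, ∀ y ∈ E, x * y * x⁻¹ ∈ E) ∧ Cfsg.IsElementaryAbelian 2 E ∧ Nat.card E = 32 ∧
    ∃ _ : (E.subgroupOf X).Normal, Nonempty (↥X ⧸ E.subgroupOf X ≃* alternatingGroup (Fin 6)) := by
  obtain ⟨hle, hn, hp, hel, h7, h12⟩ := C.trace_spec c ht et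
  have h32 := C.trace_ge c ht et
  obtain ⟨r, hr, hrρ⟩ := C.exists_lift
  have hcomp : r.comp (QuotientGroup.mk' Q) = ρ := MonoidHom.ext hrρ
  have hEr : E.map r = (PH Q g).map ρ := by
    rw [hE, Subgroup.map_map, hcomp]
  have hne : v t ≠ 0 := fun e =>
    ((C.vzero t ht).mp e).elim (fun e1 => c.ne_one' (et ▸ e1)) fun e1 => c.ne (et ▸ e1)
  have hXr : X.map r = fixIn ρ.range (v t) := by
    rw [hX, Subgroup.map_map, hcomp]
    ext f
    constructor
    · rintro ⟨h, hh, rfl⟩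
      refine ⟨⟨h, rfl⟩, ?_⟩
      show ρ h (v t) = v t
      rw [← C.vconj h t ht]
      congr 1
      refine Subtype.ext ?_
      show (h : G) * t * (h : G)⁻¹ = t
      rw [et, mul_inv_eq_iff_eq_mul]
      exact Subgroup.mem_centralizer_singleton_iff.mp hh.2
    · intro hf
      obtain ⟨h, eh, hfix⟩ := C.fix_lift ht hne hf
      refine ⟨h, ⟨h.2, ?_⟩, eh⟩
      refine Subgroup.mem_centralizer_singleton_iff.mpr ?_
      rw [← et, ← mul_inv_eq_iff_eq_mul]
      exact congrArg Subtype.val hfix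
  have hoff : isOff (code (v t)) = true := C.off_of_conj ht et (fun e => c.ne (et ▸ e))
  obtain ⟨f, hf, ef⟩ := C.to_off hoff
  let E' : Subgroup (Equiv.Perm V6) := ((PH Q g).map ρ).map (MulAut.conj f).toMonoidHom
  have hE'c : Nat.card E' = Nat.card ↥((PH Q g).map ρ) :=
    Subgroup.card_map_of_injective (MulAut.conj f).injective
  have hle' : E' ≤ fixIn ρ.range s0 := by
    rintro _ ⟨a, ha, rfl⟩
    exact (C.fix_congr hf ef).mpr (hle ha)
  have hn' : ∀ b ∈ fixIn ρ.range s0, ∀ a ∈ E', b * a * b⁻¹ ∈ E' := by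
    rintro b hb _ ⟨a, ha, rfl⟩
    have hb' : f * (f⁻¹ * b * f) * f⁻¹ ∈ fixIn ρ.range s0 := by
      rwa [show f * (f⁻¹ * b * f) * f⁻¹ = b by group]
    refine ⟨_, hn _ ((C.fix_congr hf ef).mp hb') a ha, ?_⟩
    show f * _ * f⁻¹ = b * (f * a * f⁻¹) * b⁻¹
    group
  obtain ⟨-, hcE, π, hπ, hπk, -⟩ := off_structure C.shape E' hle' hn' (hp.map _) (by rw [hE'c]; exact h32)
  have hEc : Nat.card E = 32 := by
    rw [← Subgroup.card_map_of_injective hr, hEr, ← hE'c, hcE]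
  have h32' : Nat.card ↥((PH Q g).map ρ) = 32 := hE'c ▸ hcE
  have hEX : E ≤ X := (Subgroup.map_le_map_iff_of_injective hr).mp (by rw [hEr, hXr]; exact hle)
  have hnorm : ∀ x ∈ X, ∀ y ∈ E, x * y * x⁻¹ ∈ E := by
    intro x hx y hy
    have hx' : r x ∈ fixIn ρ.range (v t) := hXr ▸ ⟨x, hx, rfl⟩
    have h2 : r (x * y * x⁻¹) ∈ (PH Q g).map ρ := by
      rw [map_mul, map_mul, map_inv]
      exact hn _ hx' _ (hEr ▸ ⟨y, hy, rfl⟩)
    rw [← hEr] at h2
    obtain ⟨y', hy', e⟩ := h2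
    rw [← hr e]; exact hy'
  refine ⟨hel, ?_, hEX, hnorm, ?_, hEc, ?_⟩
  · rw [h32'] at h12
    omega
  · -- squares and commutators of the conjugate lie in `⟨t⟩`
    subst hE
    have hz' : ∀ a : CZ z, (a : G) = g * z * g⁻¹ ∨ (a : G) = 1 → (a : CZ z ⧸ Q) = 1 := by
      rintro a (e | e) <;> refine (QuotientGroup.eq_one_iff a).mpr ?_
      · rw [show a = t from Subtype.ext (e.trans et.symm)]; exact ht
      · rw [show a = 1 from Subtype.ext e]; exact one_mem Q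
    refine ⟨⟨⟨?_⟩⟩, ?_⟩
    · rintro ⟨_, a, ha, rfl⟩ ⟨_, b, hb, rfl⟩
      refine Subtype.ext ?_
      show (a : CZ z ⧸ Q) * b = b * a
      rw [← QuotientGroup.mk_mul, ← QuotientGroup.mk_mul, QuotientGroup.eq]
      refine (QuotientGroup.eq_one_iff _).mp (hz' _ ?_)
      have hq := c.s'.comm_cases (Subgroup.inv_mem _ hb.1) (Subgroup.inv_mem _ ha.1)
      rcases hq with e | e
      · refine Or.inr ?_
        show ((a : G) * b)⁻¹ * ((b : G) * a) = 1
        calc ((a : G) * b)⁻¹ * ((b : G) * a) = (b : G)⁻¹ * (a : G)⁻¹ * ((b : G)⁻¹)⁻¹ * a := by group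
          _ = (a : G)⁻¹ * a := congrArg (· * (a : G)) e
          _ = 1 := inv_mul_cancel _
      · refine Or.inl ?_
        show ((a : G) * b)⁻¹ * ((b : G) * a) = g * z * g⁻¹
        calc ((a : G) * b)⁻¹ * ((b : G) * a) = (b : G)⁻¹ * (a : G)⁻¹ * ((b : G)⁻¹)⁻¹ * a := by group
          _ = g * z * g⁻¹ * (a : G)⁻¹ * a := congrArg (· * (a : G)) e
          _ = _ := inv_mul_cancel_right _ _
    · rintro _ ⟨a, ha, rfl⟩
      rw [← map_pow]
      refine hz' _ ?_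
      show ((a ^ 2 : CZ z) : G) = _ ∨ ((a ^ 2 : CZ z) : G) = 1
      rw [pow_two]
      exact (c.s'.sq_cases ha.1).symm
  · have hnX : (E.subgroupOf X).Normal := ⟨fun a ha x => hnorm _ x.2 _ ha⟩
    refine ⟨hnX, ?_⟩
    have hrange : ∀ a : X, f * r a * f⁻¹ ∈ fixIn ρ.range s0 := fun a =>
      (C.fix_congr hf ef).mpr (hXr ▸ ⟨a, a.2, rfl⟩)
    let ω : X →* ↥(fixIn ρ.range s0) :=
      MonoidHom.mk' (fun a => ⟨f * r a * f⁻¹, hrange a⟩) fun a b => Subtype.ext (by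
        show f * r ((a : CZ z ⧸ Q) * b) * f⁻¹ = f * r a * f⁻¹ * (f * r b * f⁻¹)
        rw [map_mul]; group)
    have hω : Function.Surjective ω := fun b => by
      obtain ⟨b, hb⟩ := b
      have hb' : f * (f⁻¹ * b * f) * f⁻¹ ∈ fixIn ρ.range s0 := by
        rwa [show f * (f⁻¹ * b * f) * f⁻¹ = b by group]
      have h1 := (C.fix_congr hf ef).mp hb'
      rw [← hXr] at h1
      obtain ⟨a, ha, ea⟩ := h1
      refine ⟨⟨a, ha⟩, Subtype.ext ?_⟩
      show f * r a * f⁻¹ = b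
      rw [ea]; group
    have hk : (π.comp ω).ker = E.subgroupOf X := by
      ext a
      rw [← MonoidHom.comap_ker, Subgroup.mem_comap, hπk, Subgroup.mem_subgroupOf, Subgroup.mem_subgroupOf]
      constructor
      · rintro ⟨y, hy, e⟩
        have e' : f * y * f⁻¹ = f * r a * f⁻¹ := e
        rw [mul_left_cancel (mul_right_cancel e'), ← hEr] at hy
        obtain ⟨w, hw, ew⟩ := hy
        rw [← hr ew]; exact hw
      · intro ha
        exact ⟨r a, hEr ▸ ⟨a, ha, rfl⟩, rfl⟩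
    exact ⟨(QuotientGroup.quotientMulEquivOfEq hk.symm).trans
      (QuotientGroup.quotientKerEquivOfSurjective (π.comp ω) (hπ.comp hω))⟩

end Co

end CfsgLib.LargeFischer
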