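import Mathlib

/-!
Conjugating the largest elementary abelian group into the extraspecial one (generated).
-/

set_option autoImplicit false
set_option maxRecDepth 100000

namespace CfsgLib.LargeFischer

/-- words in the normalising elements after a generator of the stabiliser -/
def yWords : List (List ℕ) := [[], [1, 0], [1, 0, 1, 0]]

/-- for each vector of the singular subspace: word, vector of the trace, vector moved -/
def uWit : List (ℕ × ℕ × ℕ) :=
  [(0, 0, 0), (0, 0, 17), (0, 0, 34), (0, 0, 51), (0, 1297, 49), (0, 1297, 32), (0, 1297, 19), (0, 1297, 2), (2,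
    1297, 48), (2, 1297, 33), (2, 1297, 18), (2, 1297, 3), (1, 1297, 32), (1, 1297, 49), (1, 1297, 2), (1, 1297,
    19), (0, 1297, 33), (0, 1297, 48), (0, 1297, 3), (0, 1297, 18), (0, 0, 16), (0, 0, 1), (0, 0, 50), (0, 0, 35),
    (1, 1297, 48), (1, 1297, 33), (1, 1297, 18), (1, 1297, 3), (2, 1297, 32), (2, 1297, 49), (2, 1297, 2), (2,
    1297, 19), (2, 1297, 16), (2, 1297, 1), (2, 1297, 50), (2, 1297, 35), (1, 1297, 0), (1, 1297, 17), (1, 1297,
    34), (1, 1297, 51), (0, 0, 32), (0, 0, 49), (0, 0, 2), (0, 0, 19), (0, 1297, 17), (0, 1297, 0), (0, 1297, 51),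
    (0, 1297, 34), (1, 1297, 16), (1, 1297, 1), (1, 1297, 50), (1, 1297, 35), (2, 1297, 0), (2, 1297, 17), (2,
    1297, 34), (2, 1297, 51), (0, 1297, 1), (0, 1297, 16), (0, 1297, 35), (0, 1297, 50), (0, 0, 48), (0, 0, 33),
    (0, 0, 18), (0, 0, 3)]

end CfsgLib.LargeFischer
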