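import Cfsg.Agent.Lib.LargeFischer.SylowChecks
import Cfsg.Agent.Lib.LargeFischer.FusionData

/-!
Kernel checks for the conjugation of the largest elementary abelian group.
-/

set_option autoImplicit false
set_option Elab.async false
set_option maxRecDepth 100000

namespace CfsgLib.LargeFischer

open Matrix CfsgLib.CosetEnum
open CfsgLib.HePres (K4)
open CfsgLib.Fi22USix (V6 el code vec hval nrm)
open CfsgLib.USixUFour (pV InP)

/-- the columns of a conjugating element: a word in the normalising elements after a generator -/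
noncomputable def yC (i : ℕ) : List ℕ :=
  List.rec (motive := fun _ => List ℕ) (wCols [1]) (fun k _ ih => bComp (nC k) ih) (yWords.getD i [])

theorem y_ok : ∀ i : Fin 3, (yWords.getD i []).all (fun k => Nat.blt k 2) = true ∧
    bComp (yC i) (wCols (eWords.getD 0 [])) = bComp (invC (eIdx.getD 0 0)) (yC i) := by
  decide +kernel

theorem wit_ok : (List.range 64).all (fun j =>
    Nat.blt (uWit.getD j (0, 0, 0)).1 3 && Nat.blt (uWit.getD j (0, 0, 0)).2.1 4096 &&
      Nat.blt (uWit.getD j (0, 0, 0)).2.2 4096 && inW (vec (uWit.getD j (0, 0, 0)).2.1) &&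
      Nat.beq (bMap (yC (uWit.getD j (0, 0, 0)).1) (uWit.getD j (0, 0, 0)).2.1 ^^^
        (bMap (invC (eIdx.getD 0 0)) (uWit.getD j (0, 0, 0)).2.2 ^^^ (uWit.getD j (0, 0, 0)).2.2))
        (uList.getD j 0)) = true := by
  decide +kernel

theorem u_point : uList.any (fun u => decide (InP 0 (vec u))) = true := by decide +kernel

end CfsgLib.LargeFischer
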