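import Cfsg.Agent.Lib.LargeFischer.SylowGroup
import Cfsg.Prelude.Def_Transfer

/-!
The largest elementary abelian subgroup of a Sylow group of the centraliser.
-/

set_option autoImplicit false
set_option maxRecDepth 100000
set_option linter.style.haveILetI false

namespace CfsgLib.LargeFischer

open CfsgLib.Extraspecial
open CfsgLib.HePres (K4)
open CfsgLib.Fi22USix (V6 SU62 el code vec vec_code hval nrm)
open CfsgLib.USixUFour (mv act coreK scalSub)

theorem e1_sq {f : Equiv.Perm V6} (hf : f ∈ e1Sub) : f * f = 1 := by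
  by_cases h1 : f = 1
  · rw [h1, mul_one]
  obtain ⟨i, hi, e⟩ := e1_cases hf h1
  have h : eIdx.all (fun i => decide (bComp (invC i) (invC i) = bId)) = true := by decide +kernel
  have h2 := of_decide_eq_true (List.all_eq_true.mp h i hi)
  have hA := (sylP_listed (e1_le hf)).1
  exact cols_inj (add_mul' hA hA) (fun _ _ => rfl) (by rw [cols_mul hA, e, h2, cols_one])

theorem uList_el {u : V6} (hu : code u ∈ uList) : code (el 2 • u) ∈ uList := by
  have h := List.all_eq_true.mp u_ok.2.2.1 _ hu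
  simp only [Bool.and_eq_true, List.any_eq_true, vec_code] at h
  obtain ⟨e, he, hue⟩ := h.1.2
  exact Nat.eq_of_beq_eq_true hue ▸ he

theorem uList_add {u w : V6} (hu : code u ∈ uList) (hw : code w ∈ uList) : code (u + w) ∈ uList := by
  have h := List.all_eq_true.mp u_ok.2.2.1 _ hu
  simp only [Bool.and_eq_true] at h
  have h2 := List.all_eq_true.mp h.2 _ hw
  rw [List.any_eq_true] at h2
  obtain ⟨e, he, hue⟩ := h2
  rw [code_xor]
  exact Nat.eq_of_beq_eq_true hue ▸ he

theorem uList_zero : code (0 : V6) ∈ uList := by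
  have h := u_ok.2.2.2.1
  rw [List.any_eq_true] at h
  obtain ⟨e, he, hue⟩ := h
  rw [show code (0 : V6) = 0 by decide +kernel]
  exact Nat.eq_of_beq_eq_true hue ▸ he

theorem uList_nrm {u : V6} (hu : code u ∈ uList) : nrm u = 0 := by
  have h := List.all_eq_true.mp u_ok.2.2.1 _ hu
  simp only [Bool.and_eq_true, decide_eq_true_eq, vec_code] at h
  exact h.1.1.2

theorem uList_card : Nat.card {u : V6 // code u ∈ uList} = 64 := by
  have hlt : ∀ n ∈ uList, n < 4096 := fun n hn => by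
    have h := List.all_eq_true.mp u_ok.2.2.1 n hn
    simp only [Bool.and_eq_true, Nat.blt_eq] at h
    exact h.1.1.1
  rw [← u_ok.1, ← List.toFinset_card_of_nodup u_ok.2.1, ← Nat.card_eq_finsetCard]
  exact Nat.card_congr
    { toFun := fun u => ⟨code u.1, List.mem_toFinset.mpr u.2⟩
      invFun := fun n => ⟨vec n.1, by
        rw [show code (vec n.1) = n.1 from USixUFour.code_vec ⟨n.1, hlt _ (List.mem_toFinset.mp n.2)⟩]
        exact List.mem_toFinset.mp n.2⟩
      left_inv := fun u => Subtype.ext (vec_code _)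
      right_inv := fun n => Subtype.ext (USixUFour.code_vec ⟨n.1, hlt _ (List.mem_toFinset.mp n.2)⟩) }

theorem el_two_pow : el 2 * el 2 * el 2 * el 2 = el 2 ∧ el 2 * el 2 + el 2 = 1 ∧ el 2 * el 2 ≠ el 2 := by
  decide +kernel

namespace Co

variable {G : Type*} [Group G] [Finite G] {z : G} {Q : Subgroup (CZ z)} {v : CZ z → V6}
  {ρ : CZ z →* Equiv.Perm V6} {o : Fin 3} (C : Co z Q v ρ o)
include C

/-- the coordinates after conjugation -/
theorem conj [Q.Normal] (h0 : CZ z) : Co z Q (fun q => v (h0⁻¹ * q * h0))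
    (ρ.comp (MulAut.conj h0⁻¹).toMonoidHom) o := by
  have hmem : ∀ q ∈ Q, h0⁻¹ * q * h0 ∈ Q := fun q hq => by
    have := (inferInstance : Q.Normal).conj_mem q hq h0⁻¹
    rwa [inv_inv] at this
  have hz : ∀ q : CZ z, ((h0⁻¹ * q * h0 : CZ z) : G) = (h0 : G)⁻¹ * q * h0 := fun q => rfl
  have hc : (h0 : G) * z = z * h0 := Subgroup.mem_centralizer_singleton_iff.mp h0.2
  have hρ : ∀ h, (ρ.comp (MulAut.conj h0⁻¹).toMonoidHom) h = ρ (h0⁻¹ * h * h0) := fun h => by
    show ρ (h0⁻¹ * h * h0⁻¹⁻¹) = _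
    rw [inv_inv]
  refine ⟨C.st, C.card, fun x hx y hy => ?_, fun x hx => ?_, fun x hx => ?_, fun a => ?_, fun h x hx => ?_,
    fun h => ?_, fun f => ?_⟩
  · rw [show h0⁻¹ * (x * y) * h0 = (h0⁻¹ * x * h0) * (h0⁻¹ * y * h0) by group,
      C.vmul _ (hmem x hx) _ (hmem y hy)]
  · rw [C.vzero _ (hmem x hx), hz]
    refine or_congr ⟨fun e => ?_, fun e => by rw [e]; group⟩ ⟨fun e => ?_, fun e => ?_⟩
    · calc (x : G) = h0 * ((h0 : G)⁻¹ * x * h0) * (h0 : G)⁻¹ := by group
        _ = 1 := by rw [e]; group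
    · calc (x : G) = h0 * ((h0 : G)⁻¹ * x * h0) * (h0 : G)⁻¹ := by group
        _ = z := by rw [e, hc, mul_inv_cancel_right]
    · rw [e, mul_assoc, ← hc, inv_mul_cancel_left]
  · rw [← C.vsq _ (hmem x hx), hz]
    refine ⟨fun e => ?_, fun e => ?_⟩
    · calc (h0 : G)⁻¹ * x * h0 * ((h0 : G)⁻¹ * x * h0) = (h0 : G)⁻¹ * ((x : G) * x) * h0 := by group
        _ = 1 := by rw [e]; group
    · calc (x : G) * x = h0 * ((h0 : G)⁻¹ * x * h0 * ((h0 : G)⁻¹ * x * h0)) * (h0 : G)⁻¹ := by group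
        _ = 1 := by rw [e]; group
  · obtain ⟨q, hq, e⟩ := C.vsurj a
    refine ⟨h0 * q * h0⁻¹, (inferInstance : Q.Normal).conj_mem q hq h0, ?_⟩
    show v (h0⁻¹ * (h0 * q * h0⁻¹) * h0) = a
    rw [show h0⁻¹ * (h0 * q * h0⁻¹) * h0 = q by group, e]
  · rw [hρ, ← C.vconj _ _ (hmem x hx)]
    congr 1; group
  · rw [hρ, C.ker]
    refine ⟨fun hq => ?_, hmem h⟩
    have := (inferInstance : Q.Normal).conj_mem _ hq h0
    rwa [show h0 * (h0⁻¹ * h * h0) * h0⁻¹ = h by group] at this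
  · rw [← C.range f]
    refine ⟨fun ⟨h, e⟩ => ⟨h0⁻¹ * h * h0, (hρ h).symm.trans e⟩, fun ⟨h, e⟩ => ⟨h0 * h * h0⁻¹, ?_⟩⟩
    rw [hρ, show h0⁻¹ * (h0 * h * h0⁻¹) * h0 = h by group, e]

theorem comm_iff {p q : CZ z} (hp : p ∈ Q) (hq : q ∈ Q) (h2 : (p : G) * p = 1) :
    (hval (v p) (v q) + hval (v p) (v q) * hval (v p) (v q) = 0) ↔ (p : G) * q = q * p := by
  have hn : nrm (v p) = 0 := (C.vsq p hp).mp h2
  have hsum : nrm (v (p * q)) = nrm (v q) + (hval (v p) (v q) + hval (v p) (v q) * hval (v p) (v q)) := by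
    rw [C.vmul p hp q hq, nrm_add, hn, zero_add]
  have key : (p : G) * q = q * p ↔ ((q : G) * q = 1 ↔ ((p : G) * q) * (p * q) = 1) := by
    have htinv : (p : G)⁻¹ = p := inv_eq_of_mul_eq_one_right h2
    have e : ((p : G) * q) * (p * q) = ((p : G) * q * (p : G)⁻¹) * q := by rw [htinv]; simp only [mul_assoc]
    rcases C.st.comm_cases (mem_QG hp) (mem_QG hq) with h | h
    · rw [e, h]
      exact ⟨fun _ => Iff.rfl, fun _ => mul_inv_eq_iff_eq_mul.mp h⟩
    · rw [e, h, mul_assoc]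
      refine ⟨fun h' => ?_, fun h' => ?_⟩
      · rw [h', mul_inv_cancel_right] at h
        exact absurd (mul_eq_right.mp h.symm) C.st.ne_one
      · exfalso
        rcases C.st.sq_cases (mem_QG hq) with hs | hs
        · have h1 := h'.mp hs
          rw [hs, mul_one] at h1
          exact C.st.ne_one h1
        · refine C.st.ne_one ?_
          have h1 := h'.mpr (by rw [hs]; exact C.st.zz)
          rwa [hs] at h1
  rw [key, C.vsq q hq, show ((p : G) * q) * (p * q) = 1 ↔ nrm (v (p * q)) = 0 from C.vsq _ (mul_mem hp hq), hsum]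
  constructor
  · intro h; rw [h, add_zero]
  · intro h
    have hb := nrm_bool (v q)
    have hb' := nrm_bool (v (p * q))
    rw [hsum] at hb'
    revert h hb hb'
    generalize nrm (v q) = A
    generalize (hval (v p) (v q) + hval (v p) (v q) * hval (v p) (v q)) = B
    revert A B
    decide +kernel

theorem rank_bound {B : Subgroup (CZ z)} (hB : B ≤ Q) (hsq : ∀ a ∈ B, a * a = 1) : Nat.card B ≤ 2 ^ 7 := by
  obtain ⟨m, -, hm, hcases⟩ := invariants _ (QG Q) C.st.ex rfl
  rw [C.card] at hm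
  have hm6 : m = 6 := by
    have := Nat.pow_right_injective le_rfl hm
    omega
  subst hm6
  let f : B →* QG Q := MonoidHom.mk' (fun b => ⟨((b : CZ z) : G), mem_QG (hB b.2)⟩) fun _ _ => rfl
  have hf : Function.Injective f := fun a b e => Subtype.ext (Subtype.ext (congrArg Subtype.val e :))
  have hsq' : ∀ a : f.range, (a : QG Q) * a = 1 := by
    rintro ⟨_, b, rfl⟩
    show f b * f b = 1
    rw [← map_mul, show b * b = 1 from Subtype.ext (hsq b b.2), map_one]
  have hA : Cfsg.IsElementaryAbelian 2 f.range := by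
    refine ⟨⟨⟨fun a b => ?_⟩⟩, fun a ha => by rw [pow_two]; exact hsq' ⟨a, ha⟩⟩
    have h := hsq' (a * b)
    have hinv : ∀ c : f.range, c⁻¹ = c := fun c => inv_eq_of_mul_eq_one_right (Subtype.ext (hsq' c))
    calc a * b = (a * b)⁻¹ := (hinv _).symm
      _ = b * a := by rw [mul_inv_rev, hinv, hinv]
  rw [← Nat.card_congr (MonoidHom.ofInjective hf).toEquiv.symm]
  rcases hcases with ⟨-, h⟩ | ⟨-, h⟩
  · exact h.1 f.range hA
  · exact (h.1 f.range hA).trans (Nat.pow_le_pow_right two_pos (by omega))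

/-- the order of the centraliser -/
theorem centraliser_card [Q.Normal] (ho : o = 2) : Nat.card (CZ z) = 2 ^ 14 * 9797760 := by
  subst ho
  classical
  have hs := Subgroup.card_eq_card_quotient_mul_card_subgroup ρ.ker
  rw [Nat.card_congr (QuotientGroup.quotientKerEquivRange ρ).toEquiv,
    show ρ.ker = Q from Subgroup.ext fun h => (MonoidHom.mem_ker).trans (C.ker h)] at hs
  have hQc : Nat.card Q = 2 ^ 13 :=
    (Subgroup.card_map_of_injective (Subgroup.subtype_injective (CZ z))).symm.trans C.card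
  have hor : oP 2 ∈ ρ.range := C.shape.oP_mem
  let F : KKp × Bool → ρ.range := fun p => ⟨cond p.2 (oP 2) 1 * p.1, mul_mem (by
    cases p.2 <;> [exact one_mem _; exact hor]) (C.kkp_le p.1.2)⟩
  have hb : Function.Bijective F := by
    constructor
    · rintro ⟨a, s⟩ ⟨b, t⟩ e
      have e' : cond s (oP 2) 1 * (a : Equiv.Perm V6) = cond t (oP 2) 1 * b := congrArg Subtype.val e
      cases s <;> cases t <;> simp only [cond_true, cond_false, one_mul] at e'
      · rw [Subtype.ext e']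
      · exact absurd (by rw [← mul_inv_cancel_right (oP 2) (b : Equiv.Perm V6), ← e']; exact mul_mem a.2 (inv_mem b.2)) o2_not
      · exact absurd (by rw [← mul_inv_cancel_right (oP 2) (a : Equiv.Perm V6), e']; exact mul_mem b.2 (inv_mem a.2)) o2_not
      · rw [Subtype.ext (mul_left_cancel e')]
    · rintro ⟨_, h, rfl⟩
      rcases C.kkp_or rfl h with h1 | h1
      · exact ⟨(⟨_, h1⟩, false), Subtype.ext (one_mul _)⟩
      · exact ⟨(⟨_, h1⟩, true), Subtype.ext (by
          show oP 2 * (oP 2 * ρ h) = ρ h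
          rw [← mul_assoc, oP_sq, one_mul])⟩
  rw [hs, hQc, ← Nat.card_eq_of_bijective F hb, Nat.card_prod, kkp_card, Nat.card_eq_fintype_card (α := Bool),
    Fintype.card_bool]
  ring

theorem syl_card [Q.Normal] (ho : o = 2) : Nat.card ↥(sylP.comap ρ) = 2 ^ 21 := by
  subst ho
  let f : ↥(sylP.comap ρ) →* sylP := MonoidHom.mk' (fun h => ⟨ρ h.1, h.2⟩) fun a b => Subtype.ext (map_mul ρ _ _)
  have hf : Function.Surjective f := by
    rintro ⟨s, hs⟩
    obtain ⟨h, rfl⟩ := sylP_le C.shape hs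
    exact ⟨⟨h, hs⟩, rfl⟩
  have hk : f.ker = Q.subgroupOf (sylP.comap ρ) := by
    ext h
    rw [MonoidHom.mem_ker, Subgroup.mem_subgroupOf, ← C.ker]
    exact ⟨fun e => congrArg Subtype.val e, fun e => Subtype.ext e⟩
  have hQle : Q ≤ sylP.comap ρ := fun q hq => by
    rw [Subgroup.mem_comap, (C.ker q).mpr hq]; exact one_mem _
  have hs := Subgroup.card_eq_card_quotient_mul_card_subgroup f.ker
  rw [Nat.card_congr (QuotientGroup.quotientKerEquivOfSurjective f hf).toEquiv, sylP_card, hk,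
    Nat.card_congr (Subgroup.subgroupOfEquivOfLe hQle).toEquiv,
    show Nat.card Q = 2 ^ 13 from
      (Subgroup.card_map_of_injective (Subgroup.subtype_injective (CZ z))).symm.trans C.card] at hs
  rw [hs]; norm_num

/-- every Sylow group of the centraliser is the preimage of the listed one in suitable coordinates -/
theorem sylow_coords [Q.Normal] (ho : o = 2) (T : Sylow 2 (CZ z)) :
    ∃ (v' : CZ z → V6) (ρ' : CZ z →* Equiv.Perm V6), Co z Q v' ρ' 2 ∧ (T : Subgroup (CZ z)) = sylP.comap ρ' := by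
  haveI := Fact.mk Nat.prime_two
  have hc : Nat.card ↥(sylP.comap ρ) = 2 ^ (Nat.card (CZ z)).factorization 2 := by
    rw [C.syl_card ho]
    congr 1
    rw [C.centraliser_card ho, show 2 ^ 14 * 9797760 = 2 ^ 21 * 76545 by norm_num,
      Nat.factorization_mul (by norm_num) (by norm_num), Finsupp.add_apply, Nat.prime_two.factorization_pow,
      Finsupp.single_eq_same, Nat.factorization_eq_zero_of_not_dvd (by norm_num : ¬ 2 ∣ 76545)]
  obtain ⟨h, hh⟩ := MulAction.exists_smul_eq (CZ z) (Sylow.ofCard _ hc) T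
  subst ho
  refine ⟨_, _, C.conj h, ?_⟩
  ext y
  rw [← hh, Sylow.coe_subgroup_smul, Sylow.coe_ofCard, Subgroup.mem_pointwise_smul_iff_inv_smul_mem,
    Subgroup.mem_comap, Subgroup.mem_comap]
  show ρ ((MulAut.conj h)⁻¹ • y) ∈ sylP ↔ ρ (MulAut.conj h⁻¹ y) ∈ sylP
  rw [map_inv]
  rfl

/-- the elements over the singular subspace -/
def uSub : Subgroup (CZ z) where
  carrier := {q | q ∈ Q ∧ code (v q) ∈ uList}
  mul_mem' := fun {a b} ha hb => ⟨mul_mem ha.1 hb.1, by rw [C.vmul a ha.1 b hb.1]; exact uList_add ha.2 hb.2⟩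
  one_mem' := ⟨one_mem _, by rw [C.v_one]; exact uList_zero⟩
  inv_mem' := fun {a} ha => ⟨inv_mem ha.1, by rw [C.v_inv ha.1]; exact ha.2⟩

theorem uSub_sq {q : CZ z} (hq : q ∈ C.uSub) : q * q = 1 :=
  Subtype.ext ((C.vsq q hq.1).mpr (uList_nrm hq.2))

theorem uSub_card : Nat.card C.uSub = 128 := by
  classical
  obtain ⟨zc, hzc, ezc⟩ : ∃ w ∈ Q, (w : G) = z := C.st.z_mem
  have hvz : v zc = 0 := (C.vzero _ hzc).mpr (Or.inr ezc)
  choose s hs hsv using C.vsurj
  let F : {u : V6 // code u ∈ uList} × Bool → C.uSub := fun p => ⟨s p.1 * cond p.2 zc 1,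
    mul_mem (hs _) (by cases p.2 <;> [exact one_mem _; exact hzc]), by
      cases p.2
      · rw [cond_false, mul_one, hsv]; exact p.1.2
      · rw [cond_true, C.vmul _ (hs _) _ hzc, hsv, hvz, add_zero]; exact p.1.2⟩
  have hb : Function.Bijective F := by
    constructor
    · rintro ⟨a, b⟩ ⟨a', b'⟩ e
      have e' : s a * cond b zc 1 = s a' * cond b' zc 1 := congrArg Subtype.val e
      have hc0 : ∀ b : Bool, cond b zc 1 ∈ Q ∧ v (cond b zc 1) = 0 := fun b => by
        cases b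
        · exact ⟨one_mem _, C.v_one⟩
        · exact ⟨hzc, hvz⟩
      have h1 := congrArg v e'
      rw [C.vmul _ (hs _) _ (hc0 b).1, C.vmul _ (hs _) _ (hc0 b').1, (hc0 b).2, (hc0 b').2, hsv, hsv, add_zero,
        add_zero] at h1
      obtain rfl := Subtype.ext h1
      have h2 := congrArg Subtype.val (mul_left_cancel e')
      cases b <;> cases b' <;> first
        | rfl
        | exact absurd ((h2.symm.trans ezc)) (fun h => C.st.ne_one h.symm)
        | exact absurd ((h2.trans ezc)) (fun h => C.st.ne_one h.symm)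
        | exact absurd ((ezc.symm.trans h2)) C.st.ne_one
        | exact absurd ((ezc.symm.trans h2.symm)) C.st.ne_one
    · rintro ⟨q, hq, hu⟩
      rcases C.eq_cases (hs (v q)) hq (hsv (v q)) with e | e
      · exact ⟨(⟨v q, hu⟩, false), Subtype.ext (Subtype.ext (by
          show (s (v q) : G) * ((1 : CZ z) : G) = q
          rw [Subgroup.coe_one, mul_one, e]))⟩
      · exact ⟨(⟨v q, hu⟩, true), Subtype.ext (Subtype.ext (by
          show (s (v q) : G) * (zc : G) = q
          rw [ezc, e, C.st.z_comm (mem_QG (hs (v q)))]))⟩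
  rw [← Nat.card_eq_of_bijective F hb, Nat.card_prod, uList_card, Nat.card_eq_fintype_card (α := Bool),
    Fintype.card_bool]

theorem e1_kkp (ho : o = 2) {e : Equiv.Perm V6} (he : e ∈ e1Sub) : e ∈ KKp := by
  subst ho
  obtain ⟨h, rfl⟩ := sylP_le C.shape (e1_le he)
  refine (C.kkp_or rfl h).resolve_right fun h2 => ?_
  have e1 : ∀ w, oP 2 ((oP 2 * ρ h) w) = ρ h w := fun w => oF_inv 2 _
  have h3 : ρ h (el 2 • vec 1) = (el 2 * el 2) • ρ h (vec 1) := by
    rw [← e1, kkp_smul h2, o2_turn, e1]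
  rw [e1_turn he] at h3
  have h4 : (el 2 * el 2 + el 2) • ρ h (vec 1) = 0 := by rw [add_smul, h3, v6_self]
  rw [el_two_pow.2.1, one_smul] at h4
  have h0 : ρ h 0 = 0 := by
    have := (sylP_listed (e1_le he)).1 0 0
    rw [add_zero] at this
    exact left_eq_add.mp this
  exact absurd ((ρ h).injective (h4.trans h0.symm)) (by decide +kernel)

/-- an element of order three over the scalar -/
theorem exists_scalar : ∃ x : CZ z, x ^ 3 = 1 ∧ ∀ u, ρ x u = el 2 • u := by
  obtain ⟨s, hs⟩ := USixUFour.exists_scal (a := el 2) (by decide +kernel)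
  obtain ⟨h, hh⟩ := C.kkp_le ⟨s, (le_sup_right : scalSub ≤ coreK) ⟨el 2, by decide +kernel, hs⟩, rfl⟩
  have hu : ∀ u, ρ h u = el 2 • u := fun u => by rw [hh]; exact hs u
  refine ⟨h ^ 4, ?_, fun u => ?_⟩
  · have h3 : h ^ 3 ∈ Q := (C.ker _).mp (by
      rw [map_pow]
      refine Equiv.ext fun u => ?_
      rw [pow_succ, pow_two, Equiv.Perm.mul_apply, Equiv.Perm.mul_apply, hu, hu, hu, smul_smul, smul_smul,
        Equiv.Perm.one_apply, show el 2 * el 2 * el 2 = 1 by decide +kernel, one_smul])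
    rw [← pow_mul, show 4 * 3 = 3 * 4 from rfl, pow_mul]
    refine Subtype.ext ?_
    rw [Subgroup.coe_pow, show (4 : ℕ) = 2 * 2 from rfl, pow_mul, pow_two, pow_two, Subgroup.coe_one]
    rcases C.st.sq_cases (mem_QG h3) with e | e <;> rw [e]
    · exact mul_one 1
    · exact C.st.zz
  · rw [map_pow, pow_succ, pow_succ, pow_two]
    simp only [Equiv.Perm.mul_apply, hu, smul_smul]
    rw [show el 2 * (el 2 * (el 2 * el 2)) = el 2 by decide +kernel]

/-- lifts commuting with the scalar centralise the subspace -/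
theorem lift_fixU [Q.Normal] {x : CZ z} (hx : ∀ u, ρ x u = el 2 • u) {k : CZ z} (hk : x * k = k * x)
    (hke : ρ k ∈ e1Sub) {q : CZ z} (hq : q ∈ C.uSub) : k * q * k⁻¹ = q := by
  obtain ⟨zc, hzc, ezc⟩ : ∃ w ∈ Q, (w : G) = z := C.st.z_mem
  have hzz : zc * zc = 1 := Subtype.ext (by rw [Subgroup.coe_mul, ezc, C.st.zz]; rfl)
  have hzcc : ∀ h : CZ z, h * zc = zc * h := fun h => Subtype.ext (by
    show (h : G) * zc = zc * h
    rw [ezc]; exact Subgroup.mem_centralizer_singleton_iff.mp h.2)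
  have hone : ∀ q ∈ C.uSub, k * q * k⁻¹ = q ∨ k * q * k⁻¹ = zc * q := fun q hq => by
    have hv : v q = v (k * q * k⁻¹) := by rw [C.vconj k q hq.1, e1_fix hke hq.2]
    rcases C.eq_cases hq.1 ((inferInstance : Q.Normal).conj_mem q hq.1 k) hv with e | e
    · exact Or.inl (Subtype.ext e)
    · exact Or.inr (Subtype.ext (e.trans (congrArg (· * (q : G)) ezc.symm)))
  obtain ⟨w, hw, ew⟩ := C.vsurj (el 2 • v q)
  have hwU : w ∈ C.uSub := ⟨hw, by rw [ew]; exact uList_el hq.2⟩
  have hxw := (inferInstance : Q.Normal).conj_mem w hw x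
  set q' := x * w * x⁻¹ * w with hq'
  have hq'Q : q' ∈ Q := mul_mem hxw hw
  have hvq : v q = v q' := by
    rw [hq', C.vmul _ hxw _ hw, C.vconj x w hw, hx, ew, smul_smul, ← add_smul, el_two_pow.2.1, one_smul]
  have hkx : k * (x * w * x⁻¹) * k⁻¹ = x * (k * w * k⁻¹) * x⁻¹ := by
    calc k * (x * w * x⁻¹) * k⁻¹ = (k * x) * w * (k * x)⁻¹ := by group
      _ = (x * k) * w * (x * k)⁻¹ := by rw [hk]
      _ = _ := by group
  have hkq : k * q' * k⁻¹ = q' := by
    rw [hq', show k * (x * w * x⁻¹ * w) * k⁻¹ = (k * (x * w * x⁻¹) * k⁻¹) * (k * w * k⁻¹) by group, hkx]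
    rcases hone w hwU with e | e <;> rw [e]
    rw [show x * (zc * w) * x⁻¹ = zc * (x * w * x⁻¹) by rw [← mul_assoc x, hzcc x]; simp only [mul_assoc]]
    calc zc * (x * w * x⁻¹) * (zc * w) = zc * ((x * w * x⁻¹) * zc) * w := by simp only [mul_assoc]
      _ = (zc * zc) * (x * w * x⁻¹) * w := by rw [hzcc]; simp only [mul_assoc]
      _ = _ := by rw [hzz, one_mul]
  rcases C.eq_cases hq.1 hq'Q hvq with e | e
  · rwa [show q' = q from Subtype.ext e] at hkq
  · rw [show q' = zc * q from Subtype.ext (e.trans (congrArg (· * (q : G)) ezc.symm))] at hkq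
    refine mul_left_cancel (a := zc) ?_
    calc zc * (k * q * k⁻¹) = (zc * k) * q * k⁻¹ := by simp only [mul_assoc]
      _ = k * (zc * q) * k⁻¹ := by rw [← hzcc k]; simp only [mul_assoc]
      _ = _ := hkq

/-- an element of the extraspecial group centralising the subspace lies in it -/
theorem perp_uSub {q : CZ z} (hq : q ∈ Q) (hqU : ∀ p ∈ C.uSub, p * q = q * p) : q ∈ C.uSub := by
  refine ⟨hq, ?_⟩
  have h := List.all_eq_true.mp u_perp (code (v q)) (List.mem_range.mpr (code_lt' _))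
  rw [show uBase.all (fun u => decide (hval (vec u) (vec (code (v q))) +
      hval (vec u) (vec (code (v q))) * hval (vec u) (vec (code (v q))) = 0)) = true from
    List.all_eq_true.mpr fun u hu => decide_eq_true (by
      have hu' := List.all_eq_true.mp u_ok.2.2.2.2.1 u hu
      rw [List.any_eq_true] at hu'
      obtain ⟨u', hu', hue⟩ := hu'
      obtain rfl := Nat.eq_of_beq_eq_true hue
      obtain ⟨p, hp, ep⟩ := C.vsurj (vec u)
      have hlt : u < 4096 := by
        have h' := List.all_eq_true.mp u_ok.2.2.1 u hu'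
        simp only [Bool.and_eq_true, Nat.blt_eq] at h'
        exact h'.1.1.1
      have hpU : p ∈ C.uSub := ⟨hp, by
        rw [ep, show code (vec u) = u from USixUFour.code_vec ⟨u, hlt⟩]; exact hu'⟩
      rw [vec_code, ← ep]
      exact (C.comm_iff hp hq (congrArg Subtype.val (C.uSub_sq hpU))).mpr
        (congrArg Subtype.val (hqU p hpU))), cond_true,
    List.any_eq_true] at h
  obtain ⟨e, he, hqe⟩ := h
  exact Nat.eq_of_beq_eq_true hqe ▸ he

/-- the elements over the elementary group that centralise the subspace -/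
noncomputable def aSub : Subgroup (CZ z) := e1Sub.comap ρ ⊓ Subgroup.centralizer (C.uSub : Set (CZ z))

/-- the largest elementary abelian subgroup -/
theorem exists_largest [Q.Normal] (ho : o = 2) {T : Subgroup (CZ z)} (hT : T = sylP.comap ρ) :
    ∃ A : Subgroup (CZ z), A = C.aSub ∧ A ≤ T ∧ (∀ a ∈ A, a * a = 1) ∧ Nat.card A = 2 ^ 11 ∧
      Nat.card ↥(A ⊓ Q) = 2 ^ 7 ∧ Nat.card ↥(A.map ρ) = 16 ∧
      ∀ B ≤ T, (∀ a ∈ B, a * a = 1) → Nat.card B ≤ 2 ^ 11 ∧ (Nat.card B = 2 ^ 11 → B = A) := by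
  classical
  subst hT
  obtain ⟨zc, hzc, ezc⟩ : ∃ w ∈ Q, (w : G) = z := C.st.z_mem
  have hzz : zc * zc = 1 := Subtype.ext (by rw [Subgroup.coe_mul, ezc, C.st.zz]; rfl)
  have hzcc : ∀ h : CZ z, h * zc = zc * h := fun h => Subtype.ext (by
    show (h : G) * zc = zc * h
    rw [ezc]; exact Subgroup.mem_centralizer_singleton_iff.mp h.2)
  -- an element of order three over the scalar
  obtain ⟨x, hx3, hx⟩ := C.exists_scalar
  have ha0 : el 2 ≠ 0 := by decide +kernel
  have ha1 : el 2 ≠ 1 := by decide +kernel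
  have hlift : ∀ f ∈ KKp, ∃ k : CZ z, x * k = k * x ∧ ρ k = f := fun f hf => by
    obtain ⟨h, rfl⟩ := C.kkp_le hf
    obtain ⟨q, hq, e⟩ := C.lift_comm ha0 ha1 hx3 hx h hf
    exact ⟨q * h, e, by rw [map_mul, (C.ker q).mpr hq, one_mul]⟩
  have hmeet : ∀ k : CZ z, x * k = k * x → k ∈ Q → k = 1 ∨ k = zc := fun k hk hq => by
    rcases C.q_meet ha1 hx hq hk with e | e
    · exact Or.inl (Subtype.ext e)
    · exact Or.inr (Subtype.ext (e.trans ezc.symm))
  -- the lifts centralise the subspace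
  have hfixU : ∀ k : CZ z, x * k = k * x → ρ k ∈ e1Sub → ∀ q ∈ C.uSub, k * q * k⁻¹ = q :=
    fun k hk hke q hq => C.lift_fixU hx hk hke hq
  -- the lifts are involutions
  have hsq : ∀ k : CZ z, x * k = k * x → ρ k ∈ e1Sub → k * k = 1 := by
    have hor : ∀ k : CZ z, x * k = k * x → ρ k ∈ e1Sub → k * k = 1 ∨ k * k = zc := fun k hk hke =>
      hmeet _ (by rw [← mul_assoc, hk, mul_assoc, hk, ← mul_assoc]) ((C.ker _).mp (by rw [map_mul, e1_sq hke]))
    intro k hk hke
    refine (hor k hk hke).resolve_right fun hkz => ?_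
    by_cases hk1 : ρ k = 1
    · rcases hmeet k hk ((C.ker k).mp hk1) with e | e
      · rw [e, one_mul] at hkz
        exact C.st.ne_one (ezc.symm.trans (congrArg Subtype.val hkz.symm))
      · rw [e, hzz] at hkz
        exact C.st.ne_one (ezc.symm.trans (congrArg Subtype.val hkz.symm))
    -- then every lift of a nontrivial element squares to the central involution
    obtain ⟨f0, hf0, -, hf01, hmove⟩ := e1_move
    have hall : ∀ k' : CZ z, x * k' = k' * x → ρ k' ∈ e1Sub → ρ k' ≠ 1 → k' * k' = zc := by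
      have hto : ∀ (l : CZ z) (k₀ : CZ z), x * l = l * x → ρ l ∈ e1Sub → ρ l ≠ 1 → x * k₀ = k₀ * x → ρ k₀ = f0 →
          l * l = k₀ * k₀ := by
        intro l k₀ hl hle hl1 hk₀ ek₀
        obtain ⟨c, hc, ec, -⟩ := hmove _ hle hl1
        obtain ⟨m, hm, em⟩ := hlift c hc
        have hmk : x * (m * k₀ * m⁻¹) = m * k₀ * m⁻¹ * x :=
          ((show Commute x m from hm).mul_right (show Commute x k₀ from hk₀)).mul_right
            (show Commute x m from hm).inv_right
        have hq : (m * k₀ * m⁻¹)⁻¹ * l ∈ Q := (C.ker _).mp (by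
          rw [map_mul, map_inv, map_mul, map_mul, map_inv, em, ek₀, ec, inv_mul_cancel])
        have hm0 : m * k₀ * m⁻¹ * (m * k₀ * m⁻¹) = k₀ * k₀ := by
          have hz' : k₀ * k₀ = 1 ∨ k₀ * k₀ = zc := hor k₀ hk₀ (ek₀ ▸ hf0)
          rw [show m * k₀ * m⁻¹ * (m * k₀ * m⁻¹) = m * (k₀ * k₀) * m⁻¹ by group]
          rcases hz' with e | e <;> rw [e]
          · group
          · rw [hzcc m, mul_inv_cancel_right]
        rcases hmeet _ ((show Commute x _ from hmk).inv_right.mul_right hl) hq with e | e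
        · rw [← inv_mul_eq_one.mp e, hm0]
        · rw [← mul_inv_cancel_left (m * k₀ * m⁻¹) l, e]
          calc m * k₀ * m⁻¹ * zc * (m * k₀ * m⁻¹ * zc) = m * k₀ * m⁻¹ * (zc * (m * k₀ * m⁻¹)) * zc := by
                simp only [mul_assoc]
            _ = m * k₀ * m⁻¹ * (m * k₀ * m⁻¹) * (zc * zc) := by rw [← hzcc]; simp only [mul_assoc]
            _ = _ := by rw [hzz, mul_one, hm0]
      obtain ⟨k₀, hk₀, ek₀⟩ := hlift f0 (C.e1_kkp ho hf0)
      intro k' hk' hk'e hk'1
      rw [hto k' k₀ hk' hk'e hk'1 hk₀ ek₀, ← hto k k₀ hk hke hk1 hk₀ ek₀, hkz]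
    -- three independent ones cannot anticommute in pairs and triples
    have hanti : ∀ a b : CZ z, x * a = a * x → x * b = b * x → ρ a ∈ e1Sub → ρ b ∈ e1Sub → ρ a ≠ 1 → ρ b ≠ 1 →
        ρ a ≠ ρ b → b * a = a * b * zc := by
      intro a b ha hb hae hbe ha1 hb1 hab
      have h1 := hall a ha hae ha1
      have h2 := hall b hb hbe hb1
      have h3 := hall (a * b) ((show Commute x a from ha).mul_right hb) (by rw [map_mul]; exact mul_mem hae hbe) (by
        rw [map_mul]
        intro e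
        exact hab ((eq_inv_of_mul_eq_one_left e).trans (inv_eq_of_mul_eq_one_right (e1_sq hbe))))
      have h4 : b * a = a⁻¹ * zc * b⁻¹ := by
        rw [← h3]; group
      rw [h4, show a⁻¹ = a * zc by
          refine inv_eq_of_mul_eq_one_right ?_
          rw [← mul_assoc, h1, hzz],
        show b⁻¹ = b * zc by
          refine inv_eq_of_mul_eq_one_right ?_
          rw [← mul_assoc, h2, hzz],
        mul_assoc a zc zc, hzz, mul_one, ← mul_assoc]
    haveI : Fintype e1Sub := Fintype.ofFinite _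
    obtain ⟨k₁, hk₁, ek₁⟩ : ∃ k₁ : CZ z, k₁ = k ∧ ρ k₁ = ρ k := ⟨k, rfl, rfl⟩
    obtain ⟨f2, hf2, hf2'⟩ : ∃ f2 ∈ e1Sub, f2 ∉ ({1, ρ k} : Finset (Equiv.Perm V6)) := by
      by_contra hh
      push Not at hh
      have h16 := Nat.card_le_card_of_injective (fun a : e1Sub =>
        (⟨a, hh a a.2⟩ : {f // f ∈ ({1, ρ k} : Finset (Equiv.Perm V6))})) fun a b e => Subtype.ext (congrArg Subtype.val e :)
      rw [e1_card, Nat.card_eq_finsetCard] at h16
      have := Finset.card_le_two (a := (1 : Equiv.Perm V6)) (b := ρ k)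
      omega
    obtain ⟨f3, hf3, hf3'⟩ : ∃ f3 ∈ e1Sub, f3 ∉ ({1, ρ k, f2, ρ k * f2} : Finset (Equiv.Perm V6)) := by
      by_contra hh
      push Not at hh
      have h16 := Nat.card_le_card_of_injective (fun a : e1Sub =>
        (⟨a, hh a a.2⟩ : {f // f ∈ ({1, ρ k, f2, ρ k * f2} : Finset (Equiv.Perm V6))})) fun a b e => Subtype.ext (congrArg Subtype.val e :)
      rw [e1_card, Nat.card_eq_finsetCard] at h16
      have := Finset.card_le_four (a := (1 : Equiv.Perm V6)) (b := ρ k) (c := f2) (d := ρ k * f2)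
      omega
    simp only [Finset.mem_insert, Finset.mem_singleton, not_or] at hf2' hf3'
    obtain ⟨k2, hk2, ek2⟩ := hlift f2 (C.e1_kkp ho hf2)
    obtain ⟨k3, hk3, ek3⟩ := hlift f3 (C.e1_kkp ho hf3)
    have a1 := hanti k k3 hk hk3 hke (ek3 ▸ hf3) hk1 (ek3 ▸ hf3'.1) (ek3 ▸ Ne.symm hf3'.2.1)
    have a2 := hanti k2 k3 hk2 hk3 (ek2 ▸ hf2) (ek3 ▸ hf3) (ek2 ▸ hf2'.1) (ek3 ▸ hf3'.1)
      (by rw [ek2, ek3]; exact Ne.symm hf3'.2.2.1)
    have hne : ρ (k * k2) ≠ 1 := by
      rw [map_mul, ek2]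
      intro e
      exact hf2'.2 ((inv_eq_of_mul_eq_one_right e).symm.trans (inv_eq_of_mul_eq_one_right (e1_sq hke)))
    have a3 := hanti (k * k2) k3 ((show Commute x k from hk).mul_right hk2) hk3
      (by rw [map_mul, ek2]; exact mul_mem hke hf2) (ek3 ▸ hf3) hne (ek3 ▸ hf3'.1)
      (by rw [map_mul, ek2, ek3]; exact Ne.symm hf3'.2.2.2)
    have a4 : k3 * (k * k2) = k * k2 * k3 := by
      calc k3 * (k * k2) = (k3 * k) * k2 := (mul_assoc _ _ _).symm
        _ = k * k3 * zc * k2 := by rw [a1]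
        _ = k * (k3 * k2) * zc := by rw [mul_assoc (k * k3), ← hzcc k2]; simp only [mul_assoc]
        _ = k * k2 * k3 * (zc * zc) := by rw [a2]; simp only [mul_assoc]
        _ = _ := by rw [hzz, mul_one]
    rw [a4] at a3
    exact C.st.ne_one (ezc.symm.trans (congrArg Subtype.val (mul_eq_left.mp a3.symm)))
  -- the group
  let A : Subgroup (CZ z) := e1Sub.comap ρ ⊓ Subgroup.centralizer (C.uSub : Set (CZ z))
  have hUc : ∀ p ∈ C.uSub, ∀ q ∈ C.uSub, p * q = q * p := fun p hp q hq => by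
    have hinv : ∀ r ∈ C.uSub, r⁻¹ = r := fun r hr => inv_eq_of_mul_eq_one_right (C.uSub_sq hr)
    calc p * q = (p * q)⁻¹ := (hinv _ (mul_mem hp hq)).symm
      _ = q * p := by rw [mul_inv_rev, hinv p hp, hinv q hq]
  have hAQ : A ⊓ Q = C.uSub := by
    refine le_antisymm ?_ ?_
    · intro q hq
      exact C.perp_uSub hq.2 (Subgroup.mem_centralizer_iff.mp hq.1.2)
    · intro q hq
      refine ⟨⟨?_, Subgroup.mem_centralizer_iff.mpr fun p hp => hUc p hp q hq⟩, hq.1⟩
      show ρ q ∈ e1Sub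
      rw [(C.ker q).mpr hq.1]; exact one_mem _
  have hsplit : ∀ h ∈ A, ∃ k : CZ z, x * k = k * x ∧ ρ k = ρ h ∧ k⁻¹ * h ∈ C.uSub := fun h hh => by
    obtain ⟨k, hk, ek⟩ := hlift _ (C.e1_kkp ho hh.1)
    refine ⟨k, hk, ek, ?_⟩
    rw [← hAQ]
    have hkA : k ∈ A := ⟨show ρ k ∈ e1Sub from ek.symm ▸ hh.1, Subgroup.mem_centralizer_iff.mpr fun p hp =>
      (mul_inv_eq_iff_eq_mul.mp (hfixU k hk (ek.symm ▸ hh.1) p hp)).symm⟩
    exact ⟨A.mul_mem (A.inv_mem hkA) hh, (C.ker _).mp (by rw [map_mul, map_inv, ek, inv_mul_cancel])⟩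
  have hA2 : ∀ a ∈ A, a * a = 1 := fun a ha => by
    obtain ⟨k, hk, ek, hq⟩ := hsplit a ha
    have hkq : k * (k⁻¹ * a) = (k⁻¹ * a) * k :=
      mul_inv_eq_iff_eq_mul.mp (hfixU k hk (ek.symm ▸ ha.1) _ hq)
    calc a * a = k * ((k⁻¹ * a) * k) * (k⁻¹ * a) := by group
      _ = k * k * ((k⁻¹ * a) * (k⁻¹ * a)) := by rw [← hkq]; simp only [mul_assoc]
      _ = 1 := by rw [hsq k hk (ek.symm ▸ ha.1), C.uSub_sq hq, one_mul]
  have hAmap : A.map ρ = e1Sub := by
    refine le_antisymm (by rintro _ ⟨a, ha, rfl⟩; exact ha.1) fun e he => ?_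
    obtain ⟨k, hk, rfl⟩ := hlift e (C.e1_kkp ho he)
    exact ⟨k, ⟨he, Subgroup.mem_centralizer_iff.mpr fun p hp =>
      (mul_inv_eq_iff_eq_mul.mp (hfixU k hk he p hp)).symm⟩, rfl⟩
  have hsize : ∀ B : Subgroup (CZ z), Nat.card B = Nat.card ↥(B.map ρ) * Nat.card ↥(B ⊓ Q) := by
    intro B
    let r := ρ.comp B.subtype
    have hs := Subgroup.card_eq_card_quotient_mul_card_subgroup r.ker
    rw [Nat.card_congr (QuotientGroup.quotientKerEquivRange r).toEquiv,
      show r.range = B.map ρ from by rw [MonoidHom.range_comp, Subgroup.range_subtype]] at hs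
    have e : r.ker = (B ⊓ Q).subgroupOf B := by
      ext a
      rw [MonoidHom.mem_ker, Subgroup.mem_subgroupOf]
      exact ⟨fun h => ⟨a.2, (C.ker _).mp h⟩, fun h => (C.ker _).mpr h.2⟩
    rwa [e, Nat.card_congr (Subgroup.subgroupOfEquivOfLe (inf_le_left : B ⊓ Q ≤ B)).toEquiv] at hs
  have hAc : Nat.card A = 2 ^ 11 := by rw [hsize, hAmap, hAQ, e1_card, C.uSub_card]; norm_num
  refine ⟨A, rfl, fun a ha => e1_le ha.1, hA2, hAc, by rw [hAQ, C.uSub_card]; norm_num, by rw [hAmap, e1_card],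
    fun B hB hB2 => ?_⟩
  rw [hsize B]
  have hbar : B.map ρ ≤ sylP := Subgroup.map_le_iff_le_comap.mpr hB
  by_cases hbot : B.map ρ = ⊥
  · have h7 := C.rank_bound (B := B ⊓ Q) inf_le_right fun a ha => hB2 a ha.1
    rw [hbot, Subgroup.card_bot, one_mul]
    exact ⟨h7.trans (by norm_num), fun e => by omega⟩
  haveI : Fintype V6 := Fintype.ofFinite _
  let S : Finset V6 := Finset.univ.filter fun u => ∃ q ∈ B ⊓ Q, v q = u
  have hS2 : Nat.card ↥(B ⊓ Q) ≤ 2 * S.card := by
    have hmem : ∀ q : ↥(B ⊓ Q), v q ∈ S := fun q => Finset.mem_filter.mpr ⟨Finset.mem_univ _, q, q.2, rfl⟩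
    choose s hs hsv using C.vsurj
    let F : ↥(B ⊓ Q) → S × Bool := fun q => (⟨v q, hmem q⟩, decide (((q : CZ z) : G) = s (v q)))
    have hF : Function.Injective F := by
      intro a b e
      have e1 : v a = v b := congrArg (fun p : S × Bool => (p.1 : V6)) e
      have e2 : decide (((a : CZ z) : G) = s (v a)) = decide (((b : CZ z) : G) = s (v b)) :=
        congrArg Prod.snd e
      rw [← e1, decide_eq_decide] at e2
      rcases C.eq_cases (hs (v a)) a.2.2 (hsv (v a)) with h | h <;>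
        rcases C.eq_cases (hs (v a)) b.2.2 ((hsv (v a)).trans e1) with h' | h'
      · exact Subtype.ext (Subtype.ext (h.trans h'.symm))
      · exact Subtype.ext (Subtype.ext (h.trans (e2.mp h).symm))
      · exact Subtype.ext (Subtype.ext ((e2.mpr h').trans h'.symm))
      · exact Subtype.ext (Subtype.ext (h.trans h'.symm))
    have := Nat.card_le_card_of_injective F hF
    rw [Nat.card_prod, Nat.card_eq_finsetCard, Nat.card_eq_fintype_card (α := Bool), Fintype.card_bool] at this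
    omega
  have hcomm : ∀ a ∈ B, ∀ b ∈ B, a * b = b * a := fun a ha b hb => by
    have hinv : ∀ r ∈ B, r⁻¹ = r := fun r hr => inv_eq_of_mul_eq_one_right (hB2 r hr)
    calc a * b = (a * b)⁻¹ := (hinv _ (mul_mem ha hb)).symm
      _ = b * a := by rw [mul_inv_rev, hinv a ha, hinv b hb]
  have hS : ∀ u ∈ S, nrm u = 0 ∧ ∀ a ∈ B.map ρ, a u = u := by
    intro u hu
    obtain ⟨-, q, hq, rfl⟩ := Finset.mem_filter.mp hu
    refine ⟨(C.vsq q hq.2).mp (congrArg Subtype.val (hB2 q hq.1)), ?_⟩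
    rintro _ ⟨b, hb, rfl⟩
    rw [← C.vconj b q hq.2, hcomm b hb q hq.1, mul_inv_cancel_right]
  have hsq' : ∀ a ∈ B.map ρ, a * a = 1 := by
    rintro _ ⟨b, hb, rfl⟩
    rw [← map_mul, hB2 b hb, map_one]
  rcases elem_bound hbar hsq' hbot S hS with hlt | ⟨hbe, h64, hU⟩
  · have hlt' := lt_of_le_of_lt (Nat.mul_le_mul_left _ hS2) hlt
    exact ⟨hlt'.le, fun e => absurd e hlt'.ne⟩
  · have h128 : Nat.card ↥(B ⊓ Q) ≤ 128 := hS2.trans (by omega)
    rw [hbe, e1_card]
    refine ⟨le_trans (Nat.mul_le_mul_left _ h128) (by norm_num), fun e => ?_⟩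
    have hBQ : B ⊓ Q = C.uSub := by
      refine Subgroup.eq_of_le_of_card_ge (fun q hq => ⟨hq.2, ?_⟩) (by rw [C.uSub_card]; omega)
      exact hU _ (Finset.mem_filter.mpr ⟨Finset.mem_univ _, q, hq, rfl⟩)
    refine Subgroup.eq_of_le_of_card_ge (fun b hb => ⟨?_, ?_⟩) ?_
    · show ρ b ∈ e1Sub
      rw [← hbe]; exact ⟨b, hb, rfl⟩
    · exact Subgroup.mem_centralizer_iff.mpr fun p hp => hcomm p (hBQ.ge hp).1 b hb
    · rw [hAc, hsize B, hbe, e1_card, e]

end Co

end CfsgLib.LargeFischer
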