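import Cfsg.Agent.Lib.LargeFischer.LiftPair
import Cfsg.Agent.Lib.LargeFischer.SylowMax
import Cfsg.Agent.Lib.LargeFischer.Finish
import Cfsg.Agent.Lib.LargeFischer.FusionChecks

/-!
The two classes meeting the largest elementary abelian group.
-/

set_option autoImplicit false
set_option maxRecDepth 100000
set_option linter.style.haveILetI false

namespace CfsgLib.LargeFischer

open CfsgLib.Extraspecial
open CfsgLib.HePres (K4)
open CfsgLib.Fi22USix (V6 el code vec vec_code hval nrm)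
open CfsgLib.USixUFour (InP isOff act)

theorem nC_lift (k : Fin 2) : ∃ c ∈ KKp, colsOf c = nC k := by
  obtain ⟨g, hg, hgv⟩ := exists_core (nCols.getD k []) (norm_ok k).1 (norm_ok k).2.1 (norm_ok k).2.2
  exact ⟨act g, ⟨g, hg, rfl⟩, List.map_congr_left fun i _ => by rw [act_apply, hgv]⟩

/-- the conjugating elements exist -/
theorem yC_lift (i : Fin 3) : ∃ y ∈ KKp, colsOf y = yC i ∧
    ∀ f : Equiv.Perm V6, AddPerm f → colsOf f = invC (eIdx.getD 0 0) → y * eGen 0 = f * y := by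
  suffices h : ∀ w : List ℕ, w.all (fun k => Nat.blt k 2) = true → ∃ y ∈ KKp, colsOf y =
      List.rec (motive := fun _ => List ℕ) (wCols [1]) (fun k _ ih => bComp (nC k) ih) w by
    obtain ⟨y, hy, ey⟩ := h _ (y_ok i).1
    refine ⟨y, hy, ey, fun f hf ef => cols_inj (add_mul' (kkp_addPerm hy) (wordP_addPerm _))
      (add_mul' hf (kkp_addPerm hy)) ?_⟩
    rw [cols_mul (kkp_addPerm hy), cols_mul hf, ef, ey,
      show colsOf (eGen 0) = wCols (eWords.getD 0 []) from wCols_spec _]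
    exact (y_ok i).2
  intro w
  induction w with
  | nil => exact fun _ => ⟨wordP [1], low_kkp (wordP_low rfl), wCols_spec _⟩
  | cons k w ih =>
    intro hw
    simp only [List.all_cons, Bool.and_eq_true, Nat.blt_eq] at hw
    obtain ⟨y, hy, ey⟩ := ih hw.2
    obtain ⟨c, hc, ec⟩ := nC_lift ⟨k, hw.1⟩
    exact ⟨c * y, mul_mem hc hy, by rw [cols_mul (kkp_addPerm hc), ec, ey]⟩

namespace Co

variable {G : Type*} [Group G] [Finite G] {z : G} {Q : Subgroup (CZ z)} {v : CZ z → V6}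
  {ρ : CZ z →* Equiv.Perm V6} (C : Co z Q v ρ 2)
include C

theorem uSub_le_aSub : C.uSub ≤ C.aSub := fun q hq => by
  refine ⟨?_, Subgroup.mem_centralizer_iff.mpr fun p hp => ?_⟩
  · show ρ q ∈ e1Sub
    rw [(C.ker q).mpr hq.1]; exact one_mem _
  · have hinv : ∀ r ∈ C.uSub, r⁻¹ = r := fun r hr => inv_eq_of_mul_eq_one_right (C.uSub_sq hr)
    calc p * q = (p * q)⁻¹ := (hinv _ (mul_mem hp hq)).symm
      _ = q * p := by rw [mul_inv_rev, hinv p hp, hinv q hq]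

/-- an element outside is conjugate to one in a trace over the off vector -/
theorem aSub_form [Q.Normal] (hex : ∃ g : G, g * z * g⁻¹ ∈ QG Q ∧ g * z * g⁻¹ ≠ z) {a : CZ z} (ha : a ∈ C.aSub)
    (haQ : a ∉ Q) : ∃ (g : G) (t b h : CZ z), t ∈ Q ∧ (t : G) = g * z * g⁻¹ ∧ v t = s0 ∧ Pair (QG Q) z g ∧
      b ∈ PH Q g ∧ b ∉ Q ∧ a = h * b * h⁻¹ := by
  obtain ⟨zc, hzc, ezc⟩ : ∃ w ∈ Q, (w : G) = z := C.st.z_mem
  have hvzc : v zc = 0 := (C.vzero _ hzc).mpr (Or.inr ezc)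
  obtain ⟨f0, hf0, ef0, -, hmove⟩ := e1_move
  obtain ⟨c, hc, ec, hcU⟩ := hmove (ρ a) ha.1 fun e => haQ ((C.ker a).mp e)
  obtain ⟨m, em⟩ := C.kkp_le hc
  -- the element over the fixed involution
  set a1 := m⁻¹ * a * m with ha1
  have ea1 : ρ a1 = f0 := by
    rw [ha1, map_mul, map_mul, map_inv, em, ← ec]; group
  have ha1U : ∀ p ∈ C.uSub, p * a1 = a1 * p := by
    intro p hp
    have hmp : m * p * m⁻¹ ∈ C.uSub := by
      refine ⟨(inferInstance : Q.Normal).conj_mem p hp.1 m, ?_⟩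
      rw [C.vconj m p hp.1, em]; exact hcU _ hp.2
    have h := Subgroup.mem_centralizer_iff.mp ha.2 _ hmp
    calc p * a1 = m⁻¹ * ((m * p * m⁻¹) * a) * m := by rw [ha1]; group
      _ = _ := by rw [h, ha1]; group
  obtain ⟨x, hx3, hx⟩ := C.exists_scalar
  have ha0' : el 2 ≠ 0 := by decide +kernel
  have ha1' : el 2 ≠ 1 := by decide +kernel
  have hlift : ∀ f ∈ KKp, ∃ k : CZ z, x * k = k * x ∧ ρ k = f := fun f hf => by
    obtain ⟨h, rfl⟩ := C.kkp_le hf
    obtain ⟨q, hq, e⟩ := C.lift_comm ha0' ha1' hx3 hx h hf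
    exact ⟨q * h, e, by rw [map_mul, (C.ker q).mpr hq, one_mul]⟩
  obtain ⟨g, t, ht, et, hvt, pr, k, hkx, hkP, ek⟩ := C.lift_pair hex ha0' ha1' hx3 hx
  obtain ⟨k0, hk0x, ek0⟩ := hlift f0 (C.e1_kkp rfl hf0)
  -- the part in the singular subspace
  set u := k0⁻¹ * a1 with hu
  have huQ : u ∈ Q := (C.ker u).mp (by rw [hu, map_mul, map_inv, ek0, ea1, inv_mul_cancel])
  have huU : u ∈ C.uSub := C.perp_uSub huQ fun p hp => by
    have h1 : Commute k0 p := mul_inv_eq_iff_eq_mul.mp (C.lift_fixU hx hk0x (ek0 ▸ hf0) hp)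
    exact (h1.symm.inv_right.mul_right (show Commute p a1 from ha1U p hp))
  obtain ⟨j, hj, ej⟩ := List.mem_iff_getElem.mp huU.2
  rw [u_ok.1] at hj
  have hw := List.all_eq_true.mp wit_ok j (List.mem_range.mpr hj)
  rw [show uList.getD j 0 = code (v u) by rw [List.getD_eq_getElem _ _ (by rw [u_ok.1]; exact hj), ej]] at hw
  generalize uWit.getD j (0, 0, 0) = e at hw
  obtain ⟨i, w, p⟩ := e
  simp only [Bool.and_eq_true, Nat.blt_eq] at hw
  obtain ⟨⟨⟨⟨hi, hwlt⟩, hplt⟩, hW⟩, heq⟩ := hw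
  obtain ⟨y, hy, ey, hconj⟩ := yC_lift ⟨i, hi⟩
  have hye : y * eGen 0 = f0 * y := hconj f0 (sylP_listed (e1_le hf0)).1 ef0
  obtain ⟨l, hlx, el'⟩ := hlift y hy
  set k1 := l * k * l⁻¹ with hk1
  have ek1 : ρ k1 = f0 := by rw [hk1, map_mul, map_mul, map_inv, el', ek, hye, mul_inv_cancel_right]
  have hk1x : Commute x k1 :=
    ((show Commute x l from hlx).mul_right hkx).mul_right (show Commute x l from hlx).inv_right
  have hdQ : k1⁻¹ * k0 ∈ Q := (C.ker _).mp (by rw [map_mul, map_inv, ek1, ek0, inv_mul_cancel])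
  have hdv : v (k1⁻¹ * k0) = 0 :=
    (C.vzero _ hdQ).mpr (C.q_meet ha1' hx hdQ (hk1x.inv_right.mul_right (show Commute x k0 from hk0x)))
  obtain ⟨b, hb, hbP, eb⟩ := (C.trace_inW pr ht et hvt _).mp hW
  obtain ⟨r, hr, er⟩ := C.vsurj (vec p)
  set q' := (k1⁻¹ * r * k1) * (l * b * l⁻¹) * r⁻¹ with hq'
  have hrk : k1⁻¹ * r * k1 ∈ Q := by
    have := (inferInstance : Q.Normal).conj_mem r hr k1⁻¹
    rwa [inv_inv] at this
  have hlb := (inferInstance : Q.Normal).conj_mem b hb l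
  have hq'Q : q' ∈ Q := mul_mem (mul_mem hrk hlb) (inv_mem hr)
  have hvr : v (k1⁻¹ * r * k1) = f0 (vec p) := by
    have := C.vconj k1⁻¹ r hr
    rwa [inv_inv, map_inv, ek1, inv_eq_of_mul_eq_one_right (e1_sq hf0), er] at this
  set u1 := k1⁻¹ * a1 with hu1
  have hu1e : u1 = (k1⁻¹ * k0) * u := by rw [hu1, hu]; group
  have hu1Q : u1 ∈ Q := hu1e ▸ mul_mem hdQ huQ
  have hvq : v q' = v u1 := by
    rw [hu1e, C.vmul _ hdQ u huQ, hdv, zero_add, hq', C.vmul _ (mul_mem hrk hlb) _ (inv_mem hr),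
      C.vmul _ hrk _ hlb, hvr, C.vconj l b hb, el', eb, C.v_inv hr, er, ← vec_code (v u),
      ← Nat.eq_of_beq_eq_true heq, vec_xor, vec_xor]
    have hc1 : vec (bMap (yC i) w) = y (vec w) := by
      rw [← ey]
      refine (congrArg vec ?_).trans (vec_code _)
      rw [cols_apply (kkp_addPerm hy), USixUFour.code_vec ⟨w, hwlt⟩]
    have hc2 : vec (bMap (invC (eIdx.getD 0 0)) p) = f0 (vec p) := by
      rw [← ef0]
      refine (congrArg vec ?_).trans (vec_code _)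
      rw [cols_apply (sylP_listed (e1_le hf0)).1, USixUFour.code_vec ⟨p, hplt⟩]
    rw [hc1, hc2]; abel
  have hzcc : ∀ h : CZ z, h * zc = zc * h := fun h => Subtype.ext (by
    show (h : G) * zc = zc * h
    rw [ezc]; exact Subgroup.mem_centralizer_singleton_iff.mp h.2)
  obtain ⟨b', hb', hab⟩ : ∃ b', b' ∈ PH Q g ∧ a1 = (r * l) * (k * b') * (r * l)⁻¹ := by
    have hform : ∀ d : CZ z, (∀ h : CZ z, h * d = d * h) →
        (r * l) * (k * (b * d)) * (r * l)⁻¹ = k1 * (d * q') := by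
      intro d hd
      rw [← hd q', hq', hk1]
      calc (r * l) * (k * (b * d)) * (r * l)⁻¹ = r * l * k * b * (d * (l⁻¹ * r⁻¹)) := by group
        _ = r * l * k * b * (l⁻¹ * r⁻¹ * d) := by rw [hd (l⁻¹ * r⁻¹)]
        _ = _ := by group
    have ha1e : a1 = k1 * u1 := by rw [hu1, mul_inv_cancel_left]
    rcases C.eq_cases hq'Q hu1Q hvq with e | e
    · refine ⟨b * 1, by rw [mul_one]; exact ⟨hbP, b.2⟩, ?_⟩
      rw [hform 1 (fun h => by rw [mul_one, one_mul]), one_mul, ha1e]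
      exact congrArg (k1 * ·) (Subtype.ext e)
    · refine ⟨b * zc, ⟨?_, (b * zc).2⟩, ?_⟩
      · show (b : G) * zc ∈ _
        rw [ezc]; exact Subgroup.mul_mem _ hbP pr.mem'
      · rw [hform zc hzcc, ha1e]
        exact congrArg (k1 * ·) (Subtype.ext (e.trans (congrArg (· * (q' : G)) ezc.symm)))
  have e : a = (m * (r * l)) * (k * b') * (m * (r * l))⁻¹ := by
    calc a = m * a1 * m⁻¹ := by rw [ha1]; group
      _ = _ := by rw [hab]; group
  exact ⟨g, t, k * b', m * (r * l), ht, et, hvt, pr, mul_mem hkP hb',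
    fun h => haQ (e ▸ (inferInstance : Q.Normal).conj_mem _ h _), e⟩

/-- elements of the largest group are conjugate into the extraspecial group -/
theorem aSub_into_Q [Q.Normal] (hex : ∃ g : G, g * z * g⁻¹ ∈ QG Q ∧ g * z * g⁻¹ ≠ z) {a : CZ z} (ha : a ∈ C.aSub) :
    ∃ n : G, n * (a : G) * n⁻¹ ∈ QG Q := by
  by_cases haQ : a ∈ Q
  · exact ⟨1, by rw [one_mul, inv_one, mul_one]; exact mem_QG haQ⟩
  obtain ⟨g, t, b, h, -, -, -, pr, hb, -, e⟩ := C.aSub_form hex ha haQ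
  obtain ⟨n, hn⟩ := ph_into_Q pr hb
  refine ⟨n * ((h : CZ z) : G)⁻¹, ?_⟩
  rw [e]
  simp only [Subgroup.coe_mul, Subgroup.coe_inv] at hn ⊢
  convert hn using 1
  group

/-- the involutions of the extraspecial group -/
theorem q_class [Q.Normal] (hex : ∃ g : G, g * z * g⁻¹ ∈ QG Q ∧ g * z * g⁻¹ ≠ z) {p0 : CZ z} (hp0 : p0 ∈ Q)
    (hP : InP 0 (v p0)) {q : CZ z} (hq : q ∈ Q) (h2 : (q : G) * q = 1) (h1 : (q : G) ≠ 1) :
    IsConj z (q : G) ∨ IsConj (p0 : G) (q : G) := by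
  by_cases hz : (q : G) = z
  · exact Or.inl ((by rw [hz]))
  rcases C.kinds hq h2 h1 hz with h | h
  · right
    obtain ⟨f, hf, ef⟩ := C.to_point hP
    obtain ⟨f', hf', ef'⟩ := C.to_point h
    obtain ⟨h, eh⟩ := C.conj_of hp0 hq (inP_iso hP).2 (mul_mem (inv_mem hf') hf) (by
      rw [Equiv.Perm.mul_apply, ef, ← ef', Equiv.Perm.coe_inv, Equiv.symm_apply_apply])
    exact isConj_iff.mpr ⟨h, congrArg Subtype.val eh⟩
  · left
    obtain ⟨g, ⟨x, hx, ex⟩, hne⟩ := hex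
    have hox := C.off_of_conj (x := x) hx ex fun e => hne (ex.symm.trans e)
    obtain ⟨h, eh⟩ := C.one_orbit hx hq hox h
    refine isConj_iff.mpr ⟨(h : G) * g, ?_⟩
    rw [← show (h : G) * x * (h : G)⁻¹ = q from congrArg Subtype.val eh, show (x : G) = g * z * g⁻¹ from ex]
    group

/-- a representative of the second class -/
theorem exists_other [Q.Normal] : ∃ p0 : CZ z, p0 ∈ C.aSub ∧ p0 ∈ Q ∧ InP 0 (v p0) ∧ ¬ IsConj z (p0 : G) ∧
    (p0 : G) ≠ 1 := by
  obtain ⟨n, hn, hP⟩ := List.any_eq_true.mp u_point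
  have hlt : n < 4096 := by
    have h := List.all_eq_true.mp u_ok.2.2.1 n hn
    simp only [Bool.and_eq_true, Nat.blt_eq] at h
    exact h.1.1.1
  obtain ⟨p, hp, ep⟩ := C.vsurj (vec n)
  have hP' : InP 0 (v p) := ep ▸ of_decide_eq_true hP
  refine ⟨p, C.uSub_le_aSub ⟨hp, by rw [ep, USixUFour.code_vec ⟨n, hlt⟩]; exact hn⟩, hp, hP', fun hc => ?_,
    fun e => (inP_iso hP').2 ((C.vzero p hp).mpr (Or.inl e))⟩
  have h := C.off_of_isConj hp hc fun e => (inP_iso hP').2 ((C.vzero p hp).mpr (Or.inr e))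
  rw [USixUFour.isOff, decide_eq_true_eq, vec_code] at h
  exact h.2.2 hP'

/-- only two classes meet the largest group -/
theorem aSub_class [Q.Normal] (hex : ∃ g : G, g * z * g⁻¹ ∈ QG Q ∧ g * z * g⁻¹ ≠ z) {p0 : CZ z} (hp0 : p0 ∈ Q)
    (hP : InP 0 (v p0)) {a : CZ z} (ha : a ∈ C.aSub) (h2 : (a : G) * a = 1) (h1 : (a : G) ≠ 1) :
    IsConj z (a : G) ∨ IsConj (p0 : G) (a : G) := by
  obtain ⟨n, hn⟩ := C.aSub_into_Q hex ha
  obtain ⟨q, hq, eq⟩ := hn
  have hc : IsConj (q : G) (a : G) := isConj_iff.mpr ⟨n⁻¹, by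
    rw [show (q : G) = n * a * n⁻¹ from eq]; group⟩
  refine (C.q_class hex hp0 hP hq ?_ ?_).imp (·.trans hc) (·.trans hc)
  · rw [show (q : G) = n * a * n⁻¹ from eq]
    calc n * (a : G) * n⁻¹ * (n * a * n⁻¹) = n * ((a : G) * a) * n⁻¹ := by group
      _ = 1 := by rw [h2]; group
  · rw [show (q : G) = n * a * n⁻¹ from eq]
    exact fun e => h1 (conj_eq_one_iff.mp e)

/-- a Sylow group of the centraliser is one of the whole group -/
theorem sylow_top [Q.Normal] (T : Sylow 2 (CZ z)) (hQT : Q ≤ T) :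
    ∃ S : Sylow 2 G, (S : Subgroup G) = (T : Subgroup (CZ z)).map (CZ z).subtype := by
  haveI := Fact.mk Nat.prime_two
  set S0 := (T : Subgroup (CZ z)).map (CZ z).subtype with hS0
  obtain ⟨P, hP⟩ := (T.isPGroup'.map (CZ z).subtype).exists_le_sylow
  refine ⟨P, le_antisymm ?_ hP⟩
  by_contra hne
  have hlt : S0.subgroupOf (P : Subgroup G) < ⊤ := lt_top_iff_ne_top.mpr fun e => hne fun x hx => by
    have : (⟨x, hx⟩ : (P : Subgroup G)) ∈ S0.subgroupOf (P : Subgroup G) := e ▸ Subgroup.mem_top _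
    exact this
  haveI : Group.IsNilpotent (P : Subgroup G) := P.isPGroup'.isNilpotent
  obtain ⟨⟨n, hnP⟩, hn, hnS⟩ := SetLike.exists_of_lt (Group.normalizerCondition_of_isNilpotent _ hlt)
  have hnorm : ∀ s ∈ S0, n⁻¹ * s * n ∈ S0 := by
    intro s hs
    have h := (Subgroup.mem_normalizer_iff.mp (Subgroup.inv_mem _ hn) ⟨s, hP hs⟩).mp hs
    rw [inv_inv] at h
    exact h
  have hzS : z ∈ S0 := by
    obtain ⟨w, hw, ew⟩ := C.st.z_mem
    exact ⟨w, hQT hw, ew⟩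
  have hcz : n⁻¹ * z * n ∈ Subgroup.centralizer (QG Q : Set G) := by
    refine Subgroup.mem_centralizer_iff.mpr fun q hq => ?_
    obtain ⟨q', hq', rfl⟩ := hq
    have hq0 : (q' : G) ∈ S0 := ⟨q', hQT hq', rfl⟩
    have hs : n * q' * n⁻¹ ∈ S0 := (Subgroup.mem_normalizer_iff.mp hn ⟨q', hP hq0⟩).mp hq0
    obtain ⟨h, -, eh⟩ := hs
    have hcomm : Commute (n * q' * n⁻¹) z := eh ▸ Subgroup.mem_centralizer_singleton_iff.mp h.2
    have := (Commute.conj_iff n⁻¹).mpr hcomm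
    rw [inv_inv, show n⁻¹ * (n * (q' : G) * n⁻¹) * n = q' by group] at this
    exact this
  rw [C.st.cQ] at hcz
  have hnz : n⁻¹ * z * n = z := (C.st.mem_zpowers hcz).resolve_left fun e => by
    have := congrArg (fun w => n * w * n⁻¹) e
    simp [mul_assoc] at this
    exact C.st.ne_one this
  have hnH : n ∈ CZ z := Subgroup.mem_centralizer_singleton_iff.mpr (by
    calc n * z = n * (n⁻¹ * z * n) := by rw [hnz]
      _ = z * n := by group)
  have hTe : (T : Subgroup (CZ z)) = (P : Subgroup G).comap (CZ z).subtype :=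
    (T.3 (P.isPGroup'.comap_of_injective _ (CZ z).subtype_injective) fun h hh => hP ⟨h, hh, rfl⟩).symm
  refine hnS ?_
  show n ∈ S0
  exact ⟨⟨n, hnH⟩, hTe.ge hnP, rfl⟩

end Co

end CfsgLib.LargeFischer
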