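import Cfsg.Agent.Lib.LargeFischer.Main

/-!
The linear part of the image, lifts centralising an element of order three over a scalar, and pairs over
the off vector.
-/

set_option autoImplicit false
set_option maxRecDepth 100000
set_option linter.style.haveILetI false

namespace CfsgLib.LargeFischer

open CfsgLib.Extraspecial
open scoped commutatorElement
open CfsgLib.HePres (K4)
open CfsgLib.Fi22USix (V6 SU62 el code vec vec_code hval nrm)
open CfsgLib.USixUFour (mv act coreK scalSub monoSub IsMono monoEl)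

theorem kkp_smul {f : Equiv.Perm V6} (hf : f ∈ KKp) (a : K4) (u : V6) : f (a • u) = a • f u := by
  obtain ⟨c, -, rfl⟩ := hf
  exact USixUFour.mv_smul c a u

theorem kkp_add {f : Equiv.Perm V6} (hf : f ∈ KKp) (u w : V6) : f (u + w) = f u + f w := by
  obtain ⟨c, -, rfl⟩ := hf
  exact USixUFour.mv_add c u w

/-- linear permutations are determined by a basis -/
theorem kkp_ext {f g : Equiv.Perm V6} (hf : f ∈ KKp) (hg : g ∈ KKp) (h : ∀ i, f (bas i) = g (bas i)) : f = g := by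
  refine Equiv.ext fun u => ?_
  rw [← bas_sum u, Fin.sum_univ_six]
  simp only [kkp_add hf, kkp_add hg, kkp_smul hf, kkp_smul hg, h]

theorem o2_turn (a : K4) (u : V6) : oP 2 (a • u) = (a * a) • oP 2 u := funext fun i => by
  show a * u (Equiv.swap 0 1 i) * (a * u (Equiv.swap 0 1 i)) = a * a * (u (Equiv.swap 0 1 i) * u (Equiv.swap 0 1 i))
  ring

theorem o2_not : oP 2 ∉ KKp := fun h => by
  have h1 := kkp_smul h (el 2) (bas 0)
  rw [o2_turn] at h1
  exact absurd h1 (by simp only [oP_apply]; decide +kernel)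

theorem nrm_bool (u : V6) : nrm u = 0 ∨ nrm u = 1 := by
  have h3 : ∀ a : K4, a * (a * a) = 0 ∨ a * (a * a) = 1 := by decide +kernel
  have hs : ∀ a b : K4, (a = 0 ∨ a = 1) → (b = 0 ∨ b = 1) → a + b = 0 ∨ a + b = 1 := by decide +kernel
  exact hs _ _ (hs _ _ (hs _ _ (hs _ _ (hs _ _ (h3 _) (h3 _)) (h3 _)) (h3 _)) (h3 _)) (h3 _)

theorem k4_units : ∀ a : K4, a ≠ 0 → a ≠ 1 → a * a + a = 1 ∧ a * a * a = 1 ∧ a * a ≠ a ∧ a * a ≠ 1 := by
  decide +kernel

/-- scalars of the core are commutators -/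
theorem scal_le_commutator : scalSub ≤ ⁅coreK, coreK⁆ := by
  rintro s ⟨a, ha, hs⟩
  have hπ : ∃ π : Equiv.Perm (Fin 6), π ∈ alternatingGroup (Fin 6) ∧
      ∀ b : K4, b ≠ 0 → (∏ i, ![1, b, b * b, 1, b, b * b] i) = 1 ∧
        ∀ i, ![1, b, b * b, 1, b, b * b] (π i) = b * ![1, b, b * b, 1, b, b * b] i := by
    refine ⟨Equiv.swap 0 1 * Equiv.swap 1 2 * (Equiv.swap 3 4 * Equiv.swap 4 5), ?_, ?_⟩
    · rw [Equiv.Perm.mem_alternatingGroup]; decide +kernel
    · decide +kernel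
  obtain ⟨π, hπ, hdata⟩ := hπ
  obtain ⟨hprod, hrel⟩ := hdata a ha
  set c : Fin 6 → K4 := ![1, a, a * a, 1, a, a * a] with hc
  have hP : IsMono (monoEl π fun _ => 1) π (fun _ => 1) := USixUFour.monoEl_spec (by simp)
  have hD : IsMono (monoEl 1 c) 1 c := USixUFour.monoEl_spec hprod
  have hPm : monoEl π (fun _ => 1) ∈ coreK := USixUFour.alt_core ⟨π, hπ, _, hP⟩
  have hDm : monoEl 1 c ∈ coreK := USixUFour.alt_core ⟨1, one_mem _, _, hD⟩
  have e : monoEl 1 c * monoEl π (fun _ => 1) = s * (monoEl π (fun _ => 1) * monoEl 1 c) :=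
    (hD.mul hP).unique (by
      have h := (USixUFour.scal_mono hs).mul (hP.mul hD)
      simp only [one_mul, mul_one] at h ⊢
      simp only [hrel]
      exact h)
  have es : s = ⁅monoEl 1 c, monoEl π fun _ => 1⁆ := by
    rw [commutatorElement_def, e]; group
  rw [es]
  exact Subgroup.commutator_mem_commutator hDm hPm

/-- the core is perfect -/
theorem coreK_perfect {K : Type} [Field K] [Fintype K] (hK : Fintype.card K = 9) : ⁅coreK, coreK⁆ = coreK := by
  refine le_antisymm (Subgroup.commutator_le.mpr fun a ha b hb => ?_) fun k hk => ?_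
  · rw [commutatorElement_def]
    exact mul_mem (mul_mem (mul_mem ha hb) (inv_mem ha)) (inv_mem hb)
  obtain ⟨-, π, hsur, hker, hcen⟩ := USixUFour.core_structure (K := K) hK
  have htop : (commutator ↥coreK).map π = ⊤ := by
    rw [commutator_def, Subgroup.map_commutator, Subgroup.map_top_of_surjective _ hsur, ← commutator_def,
      psu_perfect hK]
  obtain ⟨d, hd, ed⟩ := (htop.ge (Subgroup.mem_top (π ⟨k, hk⟩)) : π ⟨k, hk⟩ ∈ (commutator ↥coreK).map π)
  have hz : d⁻¹ * ⟨k, hk⟩ ∈ π.ker := by rw [MonoidHom.mem_ker, map_mul, map_inv, ed, inv_mul_cancel]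
  rw [hker, hcen] at hz
  have hd' : (d : SU62) ∈ ⁅coreK, coreK⁆ := by
    have h := Subgroup.map_commutator (⊤ : Subgroup ↥coreK) ⊤ coreK.subtype
    rw [← MonoidHom.range_eq_map, Subgroup.range_subtype] at h
    exact h ▸ ⟨d, hd, rfl⟩
  have := mul_mem hd' (scal_le_commutator hz)
  simpa using this

theorem kkp_perfect {K : Type} [Field K] [Fintype K] (hK : Fintype.card K = 9) : ⁅KKp, KKp⁆ = KKp := by
  rw [KKp, ← Subgroup.map_commutator, coreK_perfect hK]

namespace Co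

variable {G : Type*} [Group G] [Finite G] {z : G} {Q : Subgroup (CZ z)} {v : CZ z → V6}
  {ρ : CZ z →* Equiv.Perm V6} {o : Fin 3} (C : Co z Q v ρ o)
include C

theorem kkp_le : KKp ≤ ρ.range := C.shape.core_le

theorem kkp_or (ho : o = 2) (h : CZ z) : ρ h ∈ KKp ∨ oP 2 * ρ h ∈ KKp := by
  subst ho
  obtain ⟨c, hc, e | e⟩ := (C.range _).mp ⟨h, rfl⟩
  · exact Or.inl ⟨c, hc, e.symm⟩
  · exact Or.inr ⟨c, hc, by rw [e, ← mul_assoc, oP_sq, one_mul]⟩

theorem kkp_sq (ho : o = 2) (h : CZ z) : ρ h * ρ h ∈ KKp := by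
  rcases C.kkp_or ho h with h1 | h1
  · exact mul_mem h1 h1
  subst ho
  obtain ⟨a, ha⟩ : oP 2 ∈ ρ.range := C.shape.oP_mem
  obtain ⟨b, hb⟩ : oP 2 * ρ h ∈ ρ.range := C.kkp_le h1
  have hconj : oP 2 * (oP 2 * ρ h) * oP 2 ∈ KKp := by
    rcases C.kkp_or rfl (a * b * a) with h2 | h2
    · rwa [map_mul, map_mul, ha, hb] at h2
    · exfalso
      rw [map_mul, map_mul, ha, hb, ← mul_assoc, ← mul_assoc, oP_sq, one_mul] at h2
      refine o2_not ?_
      have := mul_mem (inv_mem h1) h2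
      rwa [inv_mul_cancel_left] at this
  have := mul_mem hconj h1
  rwa [← mul_assoc (oP 2) (oP 2), oP_sq, one_mul, mul_assoc, ← mul_assoc (oP 2) (oP 2), oP_sq, one_mul] at this

/-- an element of order three mapping to a scalar -/
theorem scalar_of [Q.Normal] {K : Type} [Field K] [Fintype K] (hK : Fintype.card K = 9) (ho : o = 2) {x : CZ z}
    (hx : orderOf x = 3) (hn : (Subgroup.zpowers x ⊔ Q).Normal) :
    ∃ a : K4, a ≠ 0 ∧ a ≠ 1 ∧ ∀ u, ρ x u = a • u := by
  haveI := Fact.mk Nat.prime_three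
  have hx3 : x ^ 3 = 1 := hx ▸ pow_orderOf_eq_one x
  have hxQ : x ∉ Q := fun h => by
    have h1 : orderOf (⟨x, h⟩ : Q) ∣ Nat.card Q := orderOf_dvd_natCard _
    have hQc : Nat.card Q = 2 ^ 13 :=
      (Subgroup.card_map_of_injective (Subgroup.subtype_injective (CZ z))).symm.trans C.card
    rw [Subgroup.orderOf_mk, hx, hQc] at h1
    norm_num at h1
  set l := ρ x with hl
  have hl1 : l ≠ 1 := fun e => hxQ ((C.ker x).mp e)
  have hl3 : l * l * l = 1 := by
    rw [hl, ← map_mul, ← map_mul, show x * x * x = x ^ 3 by rw [pow_succ, pow_two], hx3, map_one]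
  have hlK : l ∈ KKp := by
    have := C.kkp_sq ho (x * x)
    rwa [map_mul, ← hl, show l * l * (l * l) = l * l * l * l by simp only [mul_assoc], hl3, one_mul] at this
  have hmove : ∀ h : CZ z, ρ h * l * (ρ h)⁻¹ = l ∨ ρ h * l * (ρ h)⁻¹ = l * l := by
    intro h
    have h1 := hn.conj_mem x (Subgroup.mem_sup_left (Subgroup.mem_zpowers x)) h
    have hm : (Subgroup.zpowers x ⊔ Q).map ρ ≤ Subgroup.zpowers l := by
      rw [Subgroup.map_sup, MonoidHom.map_zpowers, sup_le_iff]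
      refine ⟨le_rfl, ?_⟩
      rintro _ ⟨q, hq, rfl⟩
      rw [(C.ker q).mpr hq]
      exact one_mem _
    obtain ⟨n, hn'⟩ := Subgroup.mem_zpowers_iff.mp (hm ⟨_, h1, rfl⟩)
    rw [map_mul, map_mul, map_inv, ← hl] at hn'
    have ho3 : orderOf l = 3 := orderOf_eq_prime (by rw [pow_succ, pow_two]; exact hl3) hl1
    rw [← hn', ← zpow_mod_orderOf, ho3]
    have h0 : 0 ≤ n % (3 : ℕ) := Int.emod_nonneg _ (by norm_num)
    have h3 : n % (3 : ℕ) < 3 := Int.emod_lt_of_pos _ (by norm_num)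
    rcases (show n % (3 : ℕ) = 0 ∨ n % (3 : ℕ) = 1 ∨ n % (3 : ℕ) = 2 by omega) with e | e | e <;> rw [e]
    · exfalso
      rw [← zpow_mod_orderOf, ho3, e, zpow_zero] at hn'
      exact hl1 (conj_eq_one_iff.mp hn'.symm)
    · exact Or.inl (zpow_one l)
    · exact Or.inr (by rw [show (2 : ℤ) = ((2 : ℕ) : ℤ) from rfl, zpow_natCast, pow_two])
  have hcomm : ∀ f ∈ KKp, f * l = l * f := by
    have hle : ⁅KKp, KKp⁆ ≤ Subgroup.centralizer ({l} : Set (Equiv.Perm V6)) := Subgroup.commutator_le.mpr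
      fun f hf f' hf' => by
        obtain ⟨a, rfl⟩ := C.kkp_le hf
        obtain ⟨b, rfl⟩ := C.kkp_le hf'
        rw [Subgroup.mem_centralizer_singleton_iff, commutatorElement_def]
        exact mul_inv_eq_iff_eq_mul.mp (comm_fix hl3 (hmove a) (hmove b))
    rw [kkp_perfect hK] at hle
    exact fun f hf => Subgroup.mem_centralizer_singleton_iff.mp (hle hf)
  obtain ⟨c, hc, ec⟩ := hlK
  obtain ⟨-, -, -, -, hcen⟩ := USixUFour.core_structure (K := K) hK
  have hcs : (⟨c, hc⟩ : coreK) ∈ Subgroup.center coreK := by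
    rw [Subgroup.mem_center_iff]
    intro d
    refine Subtype.ext (act_inj ?_)
    rw [Subgroup.coe_mul, Subgroup.coe_mul, map_mul, map_mul]
    have := hcomm _ ⟨d, d.2, rfl⟩
    rwa [← ec] at this
  rw [hcen] at hcs
  obtain ⟨a, ha, hs⟩ := hcs
  refine ⟨a, ha, fun e => hl1 ?_, fun u => ?_⟩
  · rw [← ec]
    exact Equiv.ext fun u => by
      rw [act_apply, Equiv.Perm.one_apply, show mv c u = a • u from hs u, e, one_smul]
  · rw [← ec]; exact hs u

variable {x : CZ z} {a : K4}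

theorem q_meet (ha1 : a ≠ 1) (hx : ∀ u, ρ x u = a • u) {q : CZ z} (hq : q ∈ Q) (h : x * q = q * x) :
    (q : G) = 1 ∨ (q : G) = z := by
  refine (C.vzero q hq).mp ?_
  have h1 := C.vconj x q hq
  rw [h, mul_inv_cancel_right, hx] at h1
  have h2 : (a + 1) • v q = 0 := by rw [add_smul, one_smul, ← h1, v6_self]
  exact (smul_eq_zero.mp h2).resolve_left ((by decide +kernel : ∀ b : K4, b ≠ 1 → b + 1 ≠ 0) a ha1)

/-- an element of the linear part is centralised after a change by the kernel -/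
theorem lift_comm [Q.Normal] (ha0 : a ≠ 0) (ha1 : a ≠ 1) (hx3 : x ^ 3 = 1) (hx : ∀ u, ρ x u = a • u) (h : CZ z)
    (hh : ρ h ∈ KKp) : ∃ q ∈ Q, x * (q * h) = q * h * x := by
  obtain ⟨hr1, hr3, -, -⟩ := k4_units a ha0 ha1
  set p := x⁻¹ * (h * x * h⁻¹) with hp
  have hcomm : ρ h * ρ x = ρ x * ρ h := Equiv.ext fun u => by
    simp only [Equiv.Perm.mul_apply, hx, kkp_smul hh]
  have hpQ : p ∈ Q := (C.ker p).mp (by
    rw [hp, map_mul, map_inv, map_mul, map_mul, map_inv, hcomm, mul_inv_cancel_right, inv_mul_cancel])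
  obtain ⟨q, hq, eq⟩ := C.vsurj ((a * a) • v p)
  have hxinv : ρ x⁻¹ (v q) = (a * a) • v q := by
    refine (ρ x).injective ?_
    rw [map_inv, Equiv.Perm.coe_inv, Equiv.apply_symm_apply, hx, smul_smul, ← mul_assoc, hr3, one_smul]
  set p' := x⁻¹ * (q * x * q⁻¹) with hp'
  have hcj : x⁻¹ * q * x⁻¹⁻¹ ∈ Q := (inferInstance : Q.Normal).conj_mem q hq x⁻¹
  have e' : p' = x⁻¹ * q * x⁻¹⁻¹ * q⁻¹ := by rw [hp']; group
  have hp'Q : p' ∈ Q := e' ▸ mul_mem hcj (inv_mem hq)
  have hv : v p = v p' := by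
    rw [e', C.vmul _ hcj _ (inv_mem hq), C.v_inv hq, C.vconj _ q hq, hxinv, eq, smul_smul, ← add_smul,
      show a * a * (a * a) + a * a = 1 by linear_combination (a : K4) * hr3 + hr1, one_smul]
  have hcube : ∀ w : CZ z, (w * x * w⁻¹) ^ 3 = 1 := fun w => by rw [conj_pow, hx3, mul_one, mul_inv_cancel]
  have hpp : p' = p := by
    rcases C.eq_cases hpQ hp'Q hv with e | e
    · exact Subtype.ext e
    · exfalso
      have hz : ∀ w : CZ z, (w : G) * z = z * w := fun w => Subgroup.mem_centralizer_singleton_iff.mp w.2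
      have h1 := congrArg Subtype.val (hcube q)
      rw [show q * x * q⁻¹ = x * p' by rw [hp', mul_inv_cancel_left], Subgroup.coe_pow, Subgroup.coe_mul, e,
        Subgroup.coe_one] at h1
      have h2 := congrArg Subtype.val (hcube h)
      rw [show h * x * h⁻¹ = x * p by rw [hp, mul_inv_cancel_left], Subgroup.coe_pow, Subgroup.coe_mul,
        Subgroup.coe_one] at h2
      have hc : Commute ((x : G) * p) z := hz (x * p)
      rw [show (x : G) * (z * p) = (x : G) * p * z by rw [← hz p, mul_assoc], hc.mul_pow, h2, one_mul,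
        pow_succ, pow_two, C.st.zz, one_mul] at h1
      exact C.st.ne_one h1
  have hqq : q * x * q⁻¹ = h * x * h⁻¹ := mul_left_cancel (hp'.symm.trans (hpp.trans hp))
  refine ⟨q⁻¹, inv_mem hq, ?_⟩
  calc x * (q⁻¹ * h) = q⁻¹ * (q * x * q⁻¹) * h := by group
    _ = _ := by rw [hqq]; group

theorem comm_linear (ho : o = 2) (ha0 : a ≠ 0) (ha1 : a ≠ 1) (hx : ∀ u, ρ x u = a • u) {h : CZ z}
    (hh : x * h = h * x) : ρ h ∈ KKp := by
  refine (C.kkp_or ho h).resolve_right fun h2 => (k4_units a ha0 ha1).2.2.1 ?_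
  have hl : ∀ u, a • oP 2 ((oP 2 * ρ h) u) = oP 2 ((oP 2 * ρ h) (a • u)) := fun u => by
    have e1 : ∀ w, oP 2 ((oP 2 * ρ h) w) = ρ h w := fun w => (oF_inv 2 _)
    rw [e1, e1, ← hx, ← hx, ← Equiv.Perm.mul_apply, ← map_mul, hh, map_mul]; rfl
  have h1 := hl ((oP 2 * ρ h).symm (oP 2 (bas 0)))
  rw [kkp_smul h2, Equiv.apply_symm_apply, o2_turn,
    show oP 2 (oP 2 (bas 0)) = bas 0 from oF_inv 2 _] at h1
  have := congrFun h1 0
  simpa [bas] using this.symm

theorem perp_iff {t q : CZ z} (ht : t ∈ Q) (hq : q ∈ Q) (ht2 : (t : G) * t = 1) (hvt : v t = s0) :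
    (hval s0 (v q) + hval s0 (v q) * hval s0 (v q) = 0) ↔ (t : G) * q = q * t := by
  have hn : nrm (v t) = 0 := (C.vsq t ht).mp ht2
  have hsum : nrm (v (t * q)) = nrm (v q) + (hval s0 (v q) + hval s0 (v q) * hval s0 (v q)) := by
    rw [C.vmul t ht q hq, nrm_add, hn, zero_add, hvt]
  have key : (t : G) * q = q * t ↔ ((q : G) * q = 1 ↔ ((t : G) * q) * (t * q) = 1) := by
    have htinv : (t : G)⁻¹ = t := inv_eq_of_mul_eq_one_right ht2
    have e : ((t : G) * q) * (t * q) = ((t : G) * q * (t : G)⁻¹) * q := by rw [htinv]; simp only [mul_assoc]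
    rcases C.st.comm_cases (mem_QG ht) (mem_QG hq) with h | h
    · rw [e, h]
      exact ⟨fun _ => Iff.rfl, fun _ => mul_inv_eq_iff_eq_mul.mp h⟩
    · rw [e, h, mul_assoc]
      refine ⟨fun h' => ?_, fun h' => ?_⟩
      · rw [h', mul_inv_cancel_right] at h
        exact absurd (mul_eq_right.mp h.symm) C.st.ne_one
      · exfalso
        rcases C.st.sq_cases (mem_QG hq) with hs | hs
        · have h1 := h'.mp hs
          rw [hs, mul_one] at h1
          exact C.st.ne_one h1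
        · refine C.st.ne_one ?_
          have h1 := h'.mpr (by rw [hs]; exact C.st.zz)
          rwa [hs] at h1
  rw [key, C.vsq q hq, show ((t : G) * q) * (t * q) = 1 ↔ nrm (v (t * q)) = 0 from C.vsq _ (mul_mem ht hq), hsum]
  constructor
  · intro h; rw [h, add_zero]
  · intro h
    have hb := nrm_bool (v q)
    have hb' := nrm_bool (v (t * q))
    rw [hsum] at hb'
    revert h hb hb'
    generalize nrm (v q) = A
    generalize (hval s0 (v q) + hval s0 (v q) * hval s0 (v q)) = B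
    revert A B
    decide +kernel

/-- a pair over the standard off vector -/
theorem exists_std [Q.Normal] (hex : ∃ g : G, g * z * g⁻¹ ∈ QG Q ∧ g * z * g⁻¹ ≠ z) :
    ∃ (g : G) (t : CZ z), t ∈ Q ∧ (t : G) = g * z * g⁻¹ ∧ v t = s0 ∧ Pair (QG Q) z g := by
  obtain ⟨g, ⟨x, hx, ex⟩, hne⟩ := hex
  have ex0 : (x : G) = g * z * g⁻¹ := ex
  have hoff := C.off_of_conj hx ex0 (fun e => hne (ex0.symm.trans e))
  obtain ⟨f, ⟨h, rfl⟩, ef⟩ := C.to_off hoff
  have hx' := (inferInstance : Q.Normal).conj_mem x hx h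
  have hv : v (h * x * h⁻¹) = s0 := (C.vconj h x hx).trans ef
  have ex' : ((h * x * h⁻¹ : CZ z) : G) = ((h : G) * g) * z * ((h : G) * g)⁻¹ := by
    show (h : G) * x * (h : G)⁻¹ = _
    rw [ex0]; group
  have hne' : ((h : G) * g) * z * ((h : G) * g)⁻¹ ≠ z := fun e => by
    have h0 := (C.vzero _ hx').mpr (Or.inr (ex'.trans e))
    rw [hv] at h0
    exact v0_spec.2.2.2.2.1 h0
  exact ⟨(h : G) * g, _, hx', ex', hv, C.pair (ex' ▸ mem_QG hx') hne'⟩

end Co

end CfsgLib.LargeFischer
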