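import Cfsg.Agent.Lib.LargeFischer.Defs
import Cfsg.Agent.Lib.LargeFischer.SplitData

/-!
Kernel checks for the trace.
-/

set_option autoImplicit false
set_option Elab.async false
set_option maxRecDepth 100000

namespace CfsgLib.LargeFischer

open Matrix CfsgLib.CosetEnum
open CfsgLib.HePres (K4)
open CfsgLib.Fi22USix (V6 el code vec hval nrm)

/-- a letter as a map -/
def letF (i : ℕ) : V6 → V6 := if i = 0 then xF 0 else if i = 1 then xF 1 else oF 2

/-- a word on codes -/
noncomputable def wordN (w : List ℕ) (n : ℕ) : ℕ :=
  List.rec (fun n => n) (fun i _ ih n => strict (ih n) fun m => code (letF i (vec m))) w n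

/-- a word as a map -/
noncomputable def wordF (w : List ℕ) (v : V6) : V6 := vec (wordN w (code v))

theorem wordF_nil (v : V6) : wordF [] v = v := Fi22USix.vec_code v

theorem wordF_cons (i : ℕ) (w : List ℕ) (v : V6) : wordF (i :: w) v = letF i (wordF w v) := by
  show vec (strict (wordN w (code v)) fun m => code (letF i (vec m))) = _
  rw [strict_eq, Fi22USix.vec_code]
  rfl

/-- membership in the subspace -/
def inW (v : V6) : Bool := Nat.testBit wMask (code v)

/-- orthogonal to the off vector -/
def perpS (v : V6) : Prop := hval s0 v + hval s0 v * hval s0 v = 0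

instance (v : V6) : Decidable (perpS v) := by unfold perpS; infer_instance

/-- a kernel generator -/
noncomputable def eF (i : ℕ) : V6 → V6 := wordF (eWords.getD i [])

/-- a product of kernel generators -/
noncomputable def eProd (m : ℕ) (v : V6) : V6 :=
  wordF (((List.range 5).filter fun i => m.testBit i).flatMap fun i => eWords.getD i []) v

theorem el_xor : ∀ a b : Fin 4, el (a : ℕ) + el (b : ℕ) = el ((a : ℕ) ^^^ (b : ℕ)) := by decide +kernel

theorem vec_xor (a b : ℕ) : vec (a ^^^ b) = vec a + vec b := by
  funext i
  show el ((a ^^^ b) / 4 ^ (i : ℕ)) = el (a / 4 ^ (i : ℕ)) + el (b / 4 ^ (i : ℕ))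
  have hel : ∀ n, el n = el (n % 4) := fun n => by simp [Fi22USix.el]
  have e : (4 : ℕ) ^ (i : ℕ) = 2 ^ (2 * (i : ℕ)) := by rw [pow_mul]; norm_num
  rw [e, ← Nat.shiftRight_eq_div_pow, ← Nat.shiftRight_eq_div_pow, ← Nat.shiftRight_eq_div_pow,
    Nat.shiftRight_xor_distrib, hel, hel (a >>> _), hel (b >>> _),
    el_xor ⟨(a >>> (2 * (i : ℕ))) % 4, Nat.mod_lt _ (by norm_num)⟩ ⟨(b >>> (2 * (i : ℕ))) % 4, Nat.mod_lt _ (by norm_num)⟩]
  exact congrArg el (Nat.xor_mod_two_pow (n := 2))

theorem eWord_data : (∀ i : Fin 5, (eWords.getD i []).all (fun a => Nat.blt a 3) = true ∧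
      agrees fam15 (eF i) [List.range 15] 0 = true) ∧
    ((List.range 32).map fun m => (List.finRange 6).map fun j => code (eProd m (bas j))).Nodup ∧
    ∀ j : Fin 6, ∀ k : Fin 2, eF 0 (wordF (stWords.getD k []) (bas j)) = wordF (stWords.getD k []) (eF 0 (bas j)) := by
  decide +kernel

theorem word_low : (stWords ++ badWords ++ lineWords.flatten ++ (spans.flatMap Prod.snd) ++
    [eWords.getD 0 []]).all (fun w => w.all fun a => Nat.blt a 2) = true := by decide +kernel

theorem wList_add : wList.length = 64 ∧ wMask.testBit 0 = true ∧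
    wList.all (fun a => decide (a < 4096) && wList.all fun b => wMask.testBit (a ^^^ b)) = true := by decide +kernel

/-- the sum of chosen basis vectors -/
def imgSum (m : ℕ) : ℕ :=
  ((List.range 6).filter fun i => m.testBit i).foldr (fun i s => wImgs.getD i 0 ^^^ s) 0

theorem wBase_ok : (∀ i : Fin 6, (wBase.getD i (0, 0)).1 < 5 ∧ perpS (vec (wBase.getD i (0, 0)).2) ∧
      eF (wBase.getD i (0, 0)).1 (vec (wBase.getD i (0, 0)).2) + vec (wBase.getD i (0, 0)).2 =
        vec (wImgs.getD i 0)) ∧
    wList.all (fun a => (List.range 64).any fun m => Nat.beq a (imgSum m)) = true := by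
  decide +kernel

/-- a list as a bit set -/
def maskOf (l : List ℕ) : ℕ := l.foldr (fun a s => 2 ^ a ||| s) 0

theorem maskOf_spec (l : List ℕ) (n : ℕ) : (maskOf l).testBit n = true ↔ n ∈ l := by
  induction l with
  | nil => simp [maskOf]
  | cons a l ih =>
    show (2 ^ a ||| maskOf l).testBit n = true ↔ _
    rw [Nat.testBit_or, Bool.or_eq_true, ih, Nat.testBit_two_pow, decide_eq_true_eq, List.mem_cons, eq_comm]

theorem masks_ok : maskOf wList = wMask ∧ ∀ i : Fin 5, maskOf (parts.getD i []) = partMasks.getD i 0 := by
  decide +kernel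

theorem wList_inv : ∀ k : Fin 3, wList.all (fun a => inW (letF k (vec a))) = true := by decide +kernel

theorem reps_cover : (List.range 4096).all (fun n => wReps.any fun r => wMask.testBit (n ^^^ r)) = true := by
  decide +kernel

theorem fixed_classes : wReps.all (fun n =>
    bif inW (wordF (stWords.getD 0 []) (vec n) + vec n) then
      (bif inW (wordF (stWords.getD 1 []) (vec n) + vec n) then
        (inW (vec n) || inW (vec n + (eF 0 (vec 2) + vec 2))) else true)
    else true) = true := by decide +kernel

theorem base_class : wList.all (fun a => bif decide (nrm (vec 10 + vec a) = 0) then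
    (List.range 5).any (fun i => Nat.testBit (partMasks.getD i 0) (code (vec 10 + vec a))) else true) = true := by
  decide +kernel

theorem parts_inv : ∀ i : Fin 5, ∀ j : Fin 5,
    (parts.getD i []).all (fun a => Nat.testBit (partMasks.getD i 0) (code (eF j (vec a)))) = true := by
  decide +kernel

theorem bad_ok : ∀ i : Fin 3, inW (wordF (badWords.getD i []) (vec 10) + vec 10) = true ∧
    (parts.getD (2 + i) []).all (fun a =>
      !Nat.testBit (partMasks.getD (2 + i) 0) (code (wordF (badWords.getD i []) (vec a)))) = true := by decide +kernel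

/-- a word of a line -/
def lw (i j : ℕ) : List ℕ := (lineWords.getD i []).getD j []

theorem line_ok : ∀ i : Fin 2,
    inW (wordF (lw i 0) (vec 10) + wordF (lw i 1) (vec 10) + wordF (lw i 2) (vec 10)) = true ∧
    (parts.getD i []).all (fun a => (parts.getD i []).all fun b => (parts.getD i []).all fun c =>
      !decide (wordF (lw i 0) (vec a) + wordF (lw i 1) (vec b) = wordF (lw i 2) (vec c))) = true := by
  decide +kernel

theorem spans_ok : spans.all (fun p =>
      inW (p.2.foldr (fun w s => wordF w (vec p.1) + s) 0 + vec 10)) = true ∧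
    (List.range 4096).all (fun n => bif decide (perpS (vec n)) then
      (wMask.testBit n || spans.any fun p => wMask.testBit (n ^^^ p.1)) else true) = true := by decide +kernel

end CfsgLib.LargeFischer
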