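import Cfsg.Agent.Lib.LargeFischer.Stab
import Cfsg.Agent.Lib.LargeFischer.SplitChecks

/-!
No complement of the trace is invariant.
-/

set_option autoImplicit false
set_option maxRecDepth 100000

namespace CfsgLib.LargeFischer

open Matrix
open CfsgLib.HePres (K4)
open CfsgLib.Fi22USix (V6 el code vec vec_code hval nrm)

theorem code_lt' (v : V6) : code v < 4096 := Fi22USix.code_lt v

theorem code_xor (u v : V6) : code (u + v) = code u ^^^ code v := by
  have hlt : code u ^^^ code v < 4096 := Nat.xor_lt_two_pow (n := 12) (code_lt' u) (code_lt' v)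
  have h := USixUFour.code_vec ⟨_, hlt⟩
  simp only [vec_xor, vec_code] at h
  exact h

theorem inW_iff {v : V6} : inW v = true ↔ code v ∈ wList := by
  rw [inW, ← masks_ok.1, maskOf_spec]

theorem inW_zero : inW 0 = true := by decide +kernel

theorem inW_add {u v : V6} (hu : inW u = true) (hv : inW v = true) : inW (u + v) = true := by
  have h := List.all_eq_true.mp wList_add.2.2 _ (inW_iff.mp hu)
  rw [Bool.and_eq_true, List.all_eq_true] at h
  rw [inW, code_xor]
  exact h.2 _ (inW_iff.mp hv)

theorem v6_two (a : V6) : a + a = 0 := funext fun i => by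
  have h2 : (2 : K4) = 0 := K4.two_eq_zero
  show a i + a i = 0
  linear_combination a i * h2

theorem inW_trans {a b c : V6} (h : inW (a + b) = true) (h' : inW (b + c) = true) : inW (a + c) = true := by
  have := inW_add h h'
  rwa [show a + b + (b + c) = a + c + (b + b) by abel, v6_two, add_zero] at this

theorem mem_part {i : Fin 5} {v : V6} :
    Nat.testBit (partMasks.getD i 0) (code v) = true ↔ code v ∈ parts.getD i [] := by
  rw [← masks_ok.2 i, maskOf_spec]

/-- a letter as a permutation -/
noncomputable def letP (i : ℕ) : Equiv.Perm V6 := if i = 0 then xGen 0 else if i = 1 then xGen 1 else oP 2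

/-- a word as a permutation -/
noncomputable def wordP (w : List ℕ) : Equiv.Perm V6 := (w.map letP).prod

theorem letP_apply (i : ℕ) (v : V6) : letP i v = letF i v := by
  unfold letP letF
  split_ifs
  · exact congrFun (xGen_coe 0) v
  · exact congrFun (xGen_coe 1) v
  · rfl

theorem wordP_apply (w : List ℕ) (v : V6) : wordP w v = wordF w v := by
  induction w with
  | nil => rw [wordF_nil]; rfl
  | cons i w ih =>
    rw [wordF_cons, ← ih, ← letP_apply]
    show ((List.map letP (i :: w)).prod) v = letP i (wordP w v)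
    rw [List.map_cons, List.prod_cons]; rfl

theorem wordP_cons (i : ℕ) (w : List ℕ) : wordP (i :: w) = letP i * wordP w := by
  rw [wordP, List.map_cons, List.prod_cons]; rfl

theorem wordP_append (w w' : List ℕ) : wordP (w ++ w') = wordP w * wordP w' := by
  simp [wordP, List.prod_append]

theorem wordP_low {w : List ℕ} (h : w.all (fun a => Nat.blt a 2) = true) :
    wordP w ∈ Subgroup.closure (Set.range xGen) := by
  induction w with
  | nil => exact one_mem _
  | cons i w ih =>
    simp only [List.all_cons, Bool.and_eq_true, Nat.blt_eq] at h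
    rw [wordP_cons]
    refine mul_mem (Subgroup.subset_closure ?_) (ih h.2)
    rcases (show i = 0 ∨ i = 1 by omega) with rfl | rfl
    · exact ⟨0, by simp [letP]⟩
    · exact ⟨1, by simp [letP]⟩

theorem low_mem {w : List ℕ}
    (h : w ∈ stWords ++ badWords ++ lineWords.flatten ++ (spans.flatMap Prod.snd) ++ [eWords.getD 0 []]) :
    w.all (fun a => Nat.blt a 2) = true := List.all_eq_true.mp word_low w h

/-- a kernel generator as a permutation -/
noncomputable def eGen (i : Fin 5) : Equiv.Perm V6 := wordP (eWords.getD i [])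

theorem eGen_apply (i : Fin 5) (v : V6) : eGen i v = eF i v := wordP_apply _ v

theorem xGen_add (k : Fin 2) (u v : V6) : xGen k (u + v) = xGen k u + xGen k v := USixUFour.mv_add _ _ _

theorem low_add {f : Equiv.Perm V6} (hf : f ∈ Subgroup.closure (Set.range xGen)) (u v : V6) :
    f (u + v) = f u + f v := by
  induction hf using Subgroup.closure_induction generalizing u v with
  | mem y hy => obtain ⟨k, rfl⟩ := hy; exact xGen_add k u v
  | one => rfl
  | mul a b _ _ ha hb => rw [Equiv.Perm.mul_apply, Equiv.Perm.mul_apply, Equiv.Perm.mul_apply, hb, ha]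
  | inv a _ ha =>
    refine a.injective ?_
    rw [ha, Equiv.Perm.coe_inv, Equiv.apply_symm_apply, Equiv.apply_symm_apply, Equiv.apply_symm_apply]

theorem wordP_inW {w : List ℕ} (h : w.all (fun a => Nat.blt a 2) = true) {v : V6} (hv : inW v = true) :
    inW (wordP w v) = true := by
  induction w with
  | nil => exact hv
  | cons i w ih =>
    simp only [List.all_cons, Bool.and_eq_true, Nat.blt_eq] at h
    rw [wordP_cons, Equiv.Perm.mul_apply, letP_apply]
    have h1 := List.all_eq_true.mp (wList_inv ⟨i, by omega⟩) _ (inW_iff.mp (ih h.2))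
    rwa [vec_code] at h1

/-- the generated kernel permutes each part -/
theorem part_keep {f : Equiv.Perm V6} (hf : f ∈ Subgroup.closure (Set.range eGen)) (i : Fin 5) {v : V6}
    (hv : code v ∈ parts.getD i []) : code (f v) ∈ parts.getD i [] := by
  have hf' : f ∈ Submonoid.closure (Set.range eGen) := by
    rw [← Subgroup.closure_toSubmonoid_of_finite]; exact hf
  clear hf
  induction hf' using Submonoid.closure_induction generalizing v with
  | mem y hy =>
    obtain ⟨j, rfl⟩ := hy
    rw [eGen_apply]
    have h1 := List.all_eq_true.mp (parts_inv i j) _ hv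
    rw [vec_code] at h1
    exact mem_part.mp h1
  | one => exact hv
  | mul a b _ _ ha hb => rw [Equiv.Perm.mul_apply]; exact ha (hb hv)

/-- no subgroup of singular vectors orthogonal to the off vector, meeting the trace trivially, is invariant
modulo the kernel -/
theorem no_complement {E : Subgroup (Equiv.Perm V6)} (hgen : E ≤ Subgroup.closure (Set.range eGen))
    (hnorm : ∀ f ∈ Subgroup.closure (Set.range xGen), ∀ a ∈ E, f * a * f⁻¹ ∈ E)
    (hEW : ∀ a ∈ E, ∀ v, perpS v → inW (a v + v) = true)
    (p : V6 → Prop) (hadd : ∀ u v, p u → p v → p (u + v)) (hperp : ∀ u, p u → perpS u)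
    (hsing : ∀ u, p u → nrm u = 0) (hW : ∀ u, p u → inW u = true → u = 0) (hne : ∃ u, p u ∧ u ≠ 0)
    (hinv : ∀ k : Fin 2, ∃ a ∈ E, ∀ u, p u → p (xGen k (a u))) : False := by
  -- every word has a version preserving the set
  have hword : ∀ w : List ℕ, w.all (fun a => Nat.blt a 2) = true → ∃ a ∈ E, ∀ u, p u → p (wordP w (a u)) := by
    intro w
    induction w with
    | nil => exact fun _ => ⟨1, one_mem _, fun u hu => hu⟩
    | cons i w ih =>
      intro h
      simp only [List.all_cons, Bool.and_eq_true, Nat.blt_eq] at h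
      obtain ⟨k, hk⟩ : ∃ k : Fin 2, letP i = xGen k := by
        rcases (show i = 0 ∨ i = 1 by omega) with rfl | rfl
        · exact ⟨0, by simp [letP]⟩
        · exact ⟨1, by simp [letP]⟩
      obtain ⟨a, ha, hau⟩ := hinv k
      obtain ⟨b, hb, hbu⟩ := ih h.2
      refine ⟨(wordP w)⁻¹ * a * wordP w * b, mul_mem ?_ hb, fun u hu => ?_⟩
      · have := hnorm _ (inv_mem (wordP_low h.2)) a ha
        rwa [inv_inv] at this
      · have h1 := hau _ (hbu u hu)
        rw [wordP_cons, hk]
        simpa [Equiv.Perm.mul_apply] using h1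
  -- the class of the image
  have hclass : ∀ (w : List ℕ), w.all (fun a => Nat.blt a 2) = true → ∀ (u x : V6), p u → inW (u + x) = true →
      ∃ a ∈ E, p (wordP w (a u)) ∧ inW (wordP w (a u) + wordP w x) = true := by
    intro w hw u x hu hux
    obtain ⟨a, ha, hau⟩ := hword w hw
    refine ⟨a, ha, hau u hu, ?_⟩
    rw [← low_add (wordP_low hw)]
    exact wordP_inW hw (inW_trans (hEW a ha u (hperp u hu)) hux)
  have huniq : ∀ u v, p u → p v → inW (u + v) = true → u = v := by
    intro u v hu hv h
    have h1 := hW _ (hadd u v hu hv) h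
    calc u = u + (v + v) := by rw [v6_two, add_zero]
      _ = v := by rw [← add_assoc, h1, zero_add]
  -- an element in the base class
  obtain ⟨u0, hu0, hu10⟩ : ∃ u, p u ∧ inW (u + vec 10) = true := by
    obtain ⟨u, hu, hne⟩ := hne
    have h1 := List.all_eq_true.mp spans_ok.2 (code u) (List.mem_range.mpr (code_lt' u))
    rw [vec_code, decide_eq_true (hperp u hu), cond_true, Bool.or_eq_true, List.any_eq_true] at h1
    rcases h1 with h1 | ⟨⟨d, ws⟩, hd, h1⟩
    · exact absurd (hW u hu h1) hne
    have hud : inW (u + vec d) = true := by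
      rw [inW, code_xor]
      have hd' : d < 4096 := by
        have : spans.all (fun p => decide (p.1 < 4096)) = true := by decide +kernel
        simpa using List.all_eq_true.mp this _ hd
      rw [show code (vec d) = d from USixUFour.code_vec ⟨d, hd'⟩]
      exact h1
    have hlow : ∀ w ∈ ws, w.all (fun a => Nat.blt a 2) = true := fun w hw => low_mem (by
      simp only [List.mem_append, List.mem_flatMap]
      exact Or.inl (Or.inr ⟨_, hd, hw⟩))
    have hsum : ∀ l : List (List ℕ), (∀ w ∈ l, w.all (fun a => Nat.blt a 2) = true) →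
        l = [] ∨ ∃ s, p s ∧ inW (s + l.foldr (fun w s => wordF w (vec d) + s) 0) = true := by
      intro l
      induction l with
      | nil => exact fun _ => Or.inl rfl
      | cons w l ih =>
        intro hl
        right
        obtain ⟨a, -, hpa, hca⟩ := hclass w (hl w (List.mem_cons_self ..)) u (vec d) hu hud
        rw [wordP_apply w (vec d)] at hca
        rcases ih (fun x hx => hl x (List.mem_cons_of_mem _ hx)) with rfl | ⟨s, hs, hcs⟩
        · exact ⟨_, hpa, by rw [List.foldr_cons, List.foldr_nil, add_zero]; exact hca⟩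
        · refine ⟨_, hadd _ _ hpa hs, ?_⟩
          rw [List.foldr_cons]
          have := inW_add hca hcs
          rwa [add_add_add_comm] at this
    have h10 := List.all_eq_true.mp spans_ok.1 _ hd
    rcases hsum ws hlow with rfl | ⟨s, hs, hcs⟩
    · have : spans.all (fun p => !p.2.isEmpty) = true := by decide +kernel
      exact absurd (List.all_eq_true.mp this _ hd) (by simp)
    · exact ⟨s, hs, inW_trans hcs h10⟩
  obtain ⟨i, hi⟩ : ∃ i : Fin 5, code u0 ∈ parts.getD i [] := by
    have h1 := List.all_eq_true.mp base_class _ (inW_iff.mp hu10)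
    rw [vec_code, show vec 10 + (u0 + vec 10) = u0 + (vec 10 + vec 10) by abel, v6_two, add_zero,
      decide_eq_true (hsing u0 hu0), cond_true, List.any_eq_true] at h1
    obtain ⟨i, hi, h1⟩ := h1
    exact ⟨⟨i, List.mem_range.mp hi⟩, mem_part.mp h1⟩
  by_cases h2 : (i : ℕ) < 2
  · obtain ⟨hcl, hno⟩ := line_ok ⟨i, h2⟩
    have hl : ∀ j < 3, (lw i j).all (fun a => Nat.blt a 2) = true := fun j hj => by
      have : ∀ i : Fin 2, ∀ j : Fin 3, (lw i j).all (fun a => Nat.blt a 2) = true := by decide +kernel
      exact this ⟨i, h2⟩ ⟨j, hj⟩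
    obtain ⟨a, ha, pa, ca⟩ := hclass _ (hl 0 (by omega)) u0 (vec 10) hu0 hu10
    obtain ⟨b, hb, pb, cb⟩ := hclass _ (hl 1 (by omega)) u0 (vec 10) hu0 hu10
    obtain ⟨c, hc, pc, cc⟩ := hclass _ (hl 2 (by omega)) u0 (vec 10) hu0 hu10
    rw [wordP_apply _ (vec 10)] at ca cb cc
    have hsum : inW (wordP (lw i 0) (a u0) + wordP (lw i 1) (b u0) + wordP (lw i 2) (c u0)) = true := by
      have := inW_add (inW_add (inW_add ca cb) cc) hcl
      refine (Eq.trans (congrArg inW ?_) this)
      funext r
      have h2 : (2 : K4) = 0 := K4.two_eq_zero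
      simp only [Pi.add_apply]
      linear_combination (-(wordF (lw i 0) (vec 10) r + wordF (lw i 1) (vec 10) r + wordF (lw i 2) (vec 10) r)) * h2
    have e1 := hW _ (hadd _ _ (hadd _ _ pa pb) pc) hsum
    have e2 : wordP (lw i 0) (a u0) + wordP (lw i 1) (b u0) = wordP (lw i 2) (c u0) := by
      calc _ = wordP (lw i 0) (a u0) + wordP (lw i 1) (b u0) + (wordP (lw i 2) (c u0) + wordP (lw i 2) (c u0)) := by
            rw [v6_two, add_zero]
        _ = _ := by rw [← add_assoc, e1, zero_add]
    rw [List.all_eq_true] at hno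
    have h3 := List.all_eq_true.mp (List.all_eq_true.mp (hno _ (part_keep (hgen ha) i hi)) _ (part_keep (hgen hb) i hi))
      _ (part_keep (hgen hc) i hi)
    simp only [vec_code, Bool.not_eq_true', decide_eq_false_iff_not] at h3
    rw [wordP_apply, wordP_apply, wordP_apply] at e2
    exact h3 e2
  · obtain ⟨j, hj⟩ : ∃ j : Fin 3, (i : ℕ) = 2 + j := ⟨⟨i - 2, by omega⟩, by show (i : ℕ) = 2 + (i - 2); omega⟩
    obtain ⟨hcl, hno⟩ := bad_ok j
    have hl : (badWords.getD j []).all (fun a => Nat.blt a 2) = true := by
      have : ∀ j : Fin 3, (badWords.getD j []).all (fun a => Nat.blt a 2) = true := by decide +kernel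
      exact this j
    obtain ⟨a, ha, pa, ca⟩ := hclass _ hl u0 (vec 10) hu0 hu10
    rw [wordP_apply _ (vec 10)] at ca
    have e : wordP (badWords.getD j []) (a u0) = u0 :=
      huniq _ _ pa hu0 (inW_trans (inW_trans ca hcl) (by rwa [add_comm] at hu10))
    have hi' := part_keep (hgen ha) i hi
    rw [hj] at hi'
    have h3 := List.all_eq_true.mp hno _ hi'
    rw [vec_code, ← wordP_apply, e, Bool.not_eq_true'] at h3
    have h4 := (mem_part (i := i)).mpr hi
    rw [hj, h3] at h4
    exact Bool.false_ne_true h4

end CfsgLib.LargeFischer
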