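import Cfsg.Agent.Lib.LargeFischer.Linear
import Cfsg.Agent.Lib.LargeFischer.NoSplit

/-!
The trace of a conjugate over the standard off vector.
-/

set_option autoImplicit false
set_option maxRecDepth 100000
set_option linter.style.haveILetI false

namespace CfsgLib.LargeFischer

open CfsgLib.Extraspecial
open CfsgLib.HePres (K4)
open CfsgLib.Fi22USix (V6 el code vec vec_code hval nrm)
open CfsgLib.USixUFour (mv act coreK)

theorem coreFix_eq : Subgroup.closure (Set.range xGen) = coreFix s0 := by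
  classical
  obtain ⟨φ, -, hφt⟩ := exists_fam fam126 fam126_inj xGen x126Perm fun k => by rw [xGen_coe]; exact x126_agree k
  have hge := range_ge φ hφt x126_ok
  have h3 := Nat.le_of_dvd Nat.card_pos (Subgroup.card_range_dvd φ)
  have hle : Subgroup.closure (Set.range xGen) ≤ coreFix s0 :=
    (Subgroup.closure_le _).mpr (by rintro _ ⟨k, rfl⟩; exact xGen_mem k)
  exact Subgroup.eq_of_le_of_card_ge hle (by have := coreFix_off; omega)

theorem low_kkp {f : Equiv.Perm V6} (hf : f ∈ Subgroup.closure (Set.range xGen)) : f ∈ KKp :=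
  (coreFix_eq.le hf).1

theorem xGen_cube (k : Fin 2) : xGen k * xGen k * xGen k = 1 :=
  kkp_ext (mul_mem (mul_mem (xGen_mem k).1 (xGen_mem k).1) (xGen_mem k).1) (one_mem _) fun i => by
    simp only [Equiv.Perm.mul_apply, Equiv.Perm.one_apply, xGen_coe]
    exact (xF_ok k).1 i

theorem eWord_low : ∀ i : Fin 5, (i : ℕ) < 4 → (eWords.getD i []).all (fun a => Nat.blt a 2) = true := by
  decide +kernel

theorem eWord_top : eWords.getD 4 [] = 2 :: (eWords.getD 4 []).tail ∧
    (eWords.getD 4 []).tail.all (fun a => Nat.blt a 2) = true := by decide +kernel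

theorem eGen_low {i : Fin 5} (hi : (i : ℕ) < 4) : eGen i ∈ Subgroup.closure (Set.range xGen) :=
  wordP_low (eWord_low i hi)

/-- the outer map is a kernel generator after a linear map -/
theorem outer_split : ∃ P ∈ Subgroup.closure (Set.range xGen), oP 2 = eGen 4 * P := by
  refine ⟨(wordP (eWords.getD 4 []).tail)⁻¹, inv_mem (wordP_low eWord_top.2), ?_⟩
  show oP 2 = wordP (eWords.getD 4 []) * _
  conv_rhs => arg 1; rw [eWord_top.1]
  rw [wordP_cons, mul_inv_cancel_right]
  simp [letP]

variable {Γ : Subgroup (Equiv.Perm V6)}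

theorem eGen_fix (h : Shape 2 Γ) (i : Fin 5) : eGen i ∈ fixIn Γ s0 := by
  by_cases hi : (i : ℕ) < 4
  · exact h.fix_mem (coreFix_eq.le (eGen_low hi))
  · obtain rfl : i = 4 := Fin.ext (by have := i.2; show (i : ℕ) = 4; omega)
    show wordP (eWords.getD 4 []) ∈ _
    rw [eWord_top.1, wordP_cons]
    refine mul_mem ?_ (h.fix_mem (coreFix_eq.le (wordP_low eWord_top.2)))
    rw [show letP 2 = oP 2 by simp [letP]]
    exact ⟨h.oP_mem, (oF_fix 2).2⟩

theorem eGen_trivial (i : Fin 5) (j : Fin 15) : (fam15 j).image (fun u => eGen i u) = fam15 j := by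
  have h := List.all_eq_true.mp (eWord_data.1 i).2 j (List.mem_finRange j)
  have e : entry [List.range 15] 0 j = j := by
    have h15 : ∀ j : Fin 15, entry [List.range 15] 0 j = j := by decide +kernel
    exact h15 j
  rw [dif_pos (by rw [e]; exact j.2), decide_eq_true_eq] at h
  simp only [eGen_apply]
  exact h.trans (congrArg fam15 (Fin.ext e))

theorem eProd_perm (m : ℕ) : ∃ f ∈ Subgroup.closure (Set.range eGen), ∀ u, f u = eProd m u := by
  have hmem : ∀ l : List ℕ, (∀ i ∈ l, i < 5) →
      wordP (l.flatMap fun i => eWords.getD i []) ∈ Subgroup.closure (Set.range eGen) := by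
    intro l
    induction l with
    | nil => exact fun _ => one_mem _
    | cons i l ih =>
      intro h
      rw [List.flatMap_cons, wordP_append]
      exact mul_mem (Subgroup.subset_closure ⟨⟨i, h i (List.mem_cons_self ..)⟩, rfl⟩)
        (ih fun j hj => h j (List.mem_cons_of_mem _ hj))
  exact ⟨_, hmem _ (fun i hi => List.mem_range.mp (List.mem_filter.mp hi).1), fun u => wordP_apply _ u⟩

theorem eGen_card : 32 ≤ Nat.card ↥(Subgroup.closure (Set.range eGen)) := by
  classical
  choose f hf hfu using eProd_perm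
  have hnd := eWord_data.2.1
  refine le_trans (le_of_eq (by simp)) (Nat.card_le_card_of_injective
    (fun m : Fin 32 => (⟨f m, hf m⟩ : ↥(Subgroup.closure (Set.range eGen)))) fun a b e => ?_)
  have e' : f (a : ℕ) = f (b : ℕ) := congrArg Subtype.val e
  refine Fin.ext ((List.inj_on_of_nodup_map hnd) (List.mem_range.mpr a.2) (List.mem_range.mpr b.2) ?_)
  simp only [← hfu, e']

theorem e0_st (k : Fin 2) : eGen 0 * wordP (stWords.getD k []) = wordP (stWords.getD k []) * eGen 0 := by
  have hs : ∀ k : Fin 2, (stWords.getD k []).all (fun a => Nat.blt a 2) = true := by decide +kernel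
  refine kkp_ext (low_kkp (mul_mem (eGen_low (by decide)) (wordP_low (hs k))))
    (low_kkp (mul_mem (wordP_low (hs k)) (eGen_low (by decide)))) fun j => ?_
  simp only [Equiv.Perm.mul_apply, eGen_apply, wordP_apply]
  exact eWord_data.2.2 j k

namespace Co

variable {G : Type*} [Group G] [Finite G] {z : G} {Q : Subgroup (CZ z)} {v : CZ z → V6}
  {ρ : CZ z →* Equiv.Perm V6} (C : Co z Q v ρ 2) {g : G} (c : Pair (QG Q) z g) {t : CZ z}

theorem ph_comm (hs : Setting ((QG Q).map (MulAut.conj g).toMonoidHom) (g * z * g⁻¹)) (et : (t : G) = g * z * g⁻¹)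
    {h : CZ z} (hh : h ∈ PH Q g) : h * t = t * h := Subtype.ext (by
  show (h : G) * t = t * h
  rw [et]; exact hs.z_comm hh.1)

include C c

/-- the trace is the generated kernel -/
theorem trace_eq [Q.Normal] (ht : t ∈ Q) (et : (t : G) = g * z * g⁻¹) (hvt : v t = s0) :
    (PH Q g).map ρ = Subgroup.closure (Set.range eGen) := by
  obtain ⟨hle, hn, hp, -, -, -⟩ := C.trace_spec c ht et
  have h32 := C.trace_ge c ht et
  rw [hvt] at hle hn
  obtain ⟨-, hc, -, -, -, htriv⟩ := off_structure C.shape _ hle hn hp h32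
  refine (Subgroup.eq_of_le_of_card_ge ?_ (hc.le.trans eGen_card)).symm
  refine (Subgroup.closure_le _).mpr ?_
  rintro _ ⟨i, rfl⟩
  exact htriv _ (eGen_fix C.shape i) (eGen_trivial i)

theorem trace_norm [Q.Normal] (ht : t ∈ Q) (et : (t : G) = g * z * g⁻¹) (hvt : v t = s0) :
    ∀ f ∈ fixIn ρ.range s0, ∀ a ∈ (PH Q g).map ρ, f * a * f⁻¹ ∈ (PH Q g).map ρ := by
  have := (C.trace_spec c ht et).2.1
  rwa [hvt] at this

/-- elements of the extraspecial group centralising the conjugate move into its trace -/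
theorem comm_trace [Q.Normal] (et : (t : G) = g * z * g⁻¹) {a q : CZ z} (ha : a ∈ PH Q g) (hq : q ∈ Q)
    (hqt : (t : G) * q = q * t) :
    ∃ p ∈ Q, (p : G) ∈ (QG Q).map (MulAut.conj g).toMonoidHom ∧ v p = ρ a (v q) + v q := by
  refine ⟨a * q * a⁻¹ * q⁻¹, mul_mem ((inferInstance : Q.Normal).conj_mem q hq a) (inv_mem hq), ?_, ?_⟩
  · have hn : (q : G) ∈ Subgroup.normalizer (((QG Q).map (MulAut.conj g).toMonoidHom : Subgroup G) : Set G) := by
      refine c.s'.cz (Subgroup.mem_centralizer_singleton_iff.mpr ?_)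
      rw [← et]; exact hqt.symm
    have h1 := (Subgroup.mem_normalizer_iff.mp hn ((a : G)⁻¹)).mp (Subgroup.inv_mem _ ha.1)
    have := Subgroup.mul_mem _ ha.1 h1
    show (a : G) * q * (a : G)⁻¹ * (q : G)⁻¹ ∈ _
    simp only [mul_assoc] at this ⊢
    exact this
  · rw [C.vmul _ ((inferInstance : Q.Normal).conj_mem q hq a) _ (inv_mem hq), C.v_inv hq, C.vconj a q hq]

/-- the common part lies over the subspace -/
theorem trace_inW [Q.Normal] (ht : t ∈ Q) (et : (t : G) = g * z * g⁻¹) (hvt : v t = s0) (u : V6) :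
    inW u = true ↔ ∃ p ∈ Q, (p : G) ∈ (QG Q).map (MulAut.conj g).toMonoidHom ∧ v p = u := by
  classical
  have htrace := C.trace_eq c ht et hvt
  have htt : (t : G) * t = 1 := et ▸ c.s'.zz
  let S : Set V6 := {u | ∃ p ∈ Q, (p : G) ∈ (QG Q).map (MulAut.conj g).toMonoidHom ∧ v p = u}
  have h0 : (0 : V6) ∈ S := ⟨1, one_mem _, Subgroup.one_mem _, C.v_one⟩
  have hadd : ∀ a b, a ∈ S → b ∈ S → a + b ∈ S := by
    rintro _ _ ⟨p, hp, hp', rfl⟩ ⟨p', hq, hq', rfl⟩
    exact ⟨p * p', mul_mem hp hq, Subgroup.mul_mem _ hp' hq', C.vmul p hp p' hq⟩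
  have hbase : ∀ i : Fin 6, vec (wImgs.getD i 0) ∈ S := by
    intro i
    obtain ⟨hlt, hperp, e⟩ := wBase_ok.1 i
    obtain ⟨q, hq, eq⟩ := C.vsurj (vec (wBase.getD i (0, 0)).2)
    obtain ⟨a, ha, ea⟩ : eGen ⟨_, hlt⟩ ∈ (PH Q g).map ρ := htrace ▸ Subgroup.subset_closure ⟨_, rfl⟩
    obtain ⟨p, hp, hp', ep⟩ := C.comm_trace c et ha hq ((C.perp_iff ht hq htt hvt).mp (by rw [eq]; exact hperp))
    refine ⟨p, hp, hp', ?_⟩
    rw [ep, ea, eq, eGen_apply]
    exact e
  have hsum : ∀ l : List ℕ, (∀ i ∈ l, i < 6) → vec (l.foldr (fun i s => wImgs.getD i 0 ^^^ s) 0) ∈ S := by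
    intro l
    induction l with
    | nil =>
      intro _
      rw [List.foldr_nil, show vec 0 = (0 : V6) by decide +kernel]
      exact h0
    | cons i l ih =>
      intro hl
      rw [List.foldr_cons, vec_xor]
      exact hadd _ _ (hbase ⟨i, hl i (List.mem_cons_self ..)⟩) (ih fun j hj => hl j (List.mem_cons_of_mem _ hj))
  have hsub : ∀ w, inW w = true → w ∈ S := by
    intro w hw
    have h1 := List.all_eq_true.mp wBase_ok.2 _ (inW_iff.mp hw)
    rw [List.any_eq_true] at h1
    obtain ⟨m, -, hm⟩ := h1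
    rw [← vec_code w, Nat.eq_of_beq_eq_true hm]
    exact hsum _ (fun i hi => List.mem_range.mp (List.mem_filter.mp hi).1)
  refine ⟨hsub u, fun hu => ?_⟩
  -- counting
  let D : Subgroup G := QG Q ⊓ (QG Q).map (MulAut.conj g).toMonoidHom
  have h7 : Nat.card D ≤ 2 ^ 7 := (C.trace_spec c ht et).2.2.2.2.1
  have hchoice : ∀ s : S, ∃ p : CZ z, p ∈ Q ∧ (p : G) ∈ (QG Q).map (MulAut.conj g).toMonoidHom ∧ v p = s :=
    fun s => s.2
  choose sec hsec using hchoice
  have hzQ : z ∈ (QG Q).map (MulAut.conj g).toMonoidHom := c.mem'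
  let F : S × Bool → D := fun s => ⟨(sec s.1 : G) * cond s.2 z 1,
    ⟨Subgroup.mul_mem _ (mem_QG (hsec s.1).1) (by cases s.2 <;> [exact Subgroup.one_mem _; exact C.st.z_mem]),
      Subgroup.mul_mem _ (hsec s.1).2.1 (by cases s.2 <;> [exact Subgroup.one_mem _; exact hzQ])⟩⟩
  have hF : Function.Injective F := by
    rintro ⟨s, b⟩ ⟨s', b'⟩ e
    have e' : (sec s : G) * cond b z 1 = (sec s' : G) * cond b' z 1 := congrArg Subtype.val e
    obtain ⟨zc, hzc, ezc⟩ : ∃ w ∈ Q, (w : G) = z := C.st.z_mem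
    have hv0 : ∀ b : Bool, v (cond b zc 1) = 0 ∧ cond b zc 1 ∈ Q := fun b => by
      cases b
      · exact ⟨C.v_one, one_mem _⟩
      · exact ⟨(C.vzero _ hzc).mpr (Or.inr ezc), hzc⟩
    have e2 : sec s * cond b zc 1 = sec s' * cond b' zc 1 := Subtype.ext (by
      cases b <;> cases b' <;> simpa [ezc] using e')
    have h1 := congrArg v e2
    rw [C.vmul _ (hsec s).1 _ (hv0 b).2, C.vmul _ (hsec s').1 _ (hv0 b').2, (hv0 b).1, (hv0 b').1, add_zero,
      add_zero, (hsec s).2.2, (hsec s').2.2] at h1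
    have hss : s = s' := Subtype.ext h1
    subst hss
    have e3 := mul_left_cancel e'
    cases b <;> cases b' <;> first
      | rfl
      | exact absurd e3 C.st.ne_one
      | exact absurd e3.symm C.st.ne_one
  have h2 := (Nat.card_le_card_of_injective F hF).trans h7
  rw [Nat.card_prod, Nat.card_eq_fintype_card (α := Bool), Fintype.card_bool] at h2
  by_contra hnot
  let W : Finset V6 := (wList.map vec).toFinset
  have hmemW : ∀ w ∈ W, inW w = true := by
    intro w hw
    obtain ⟨n, hn, rfl⟩ := List.mem_map.mp (List.mem_toFinset.mp hw)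
    have hn' := List.all_eq_true.mp wList_add.2.2 n hn
    rw [Bool.and_eq_true, decide_eq_true_eq] at hn'
    rw [inW, show code (vec n) = n from USixUFour.code_vec ⟨n, hn'.1⟩, ← masks_ok.1, maskOf_spec]
    exact hn
  have hWc : W.card = 64 := by
    have : (wList.map vec).Nodup := by
      have hnd : wList.Nodup := by decide +kernel
      refine hnd.map_on fun a ha b hb e => ?_
      have hlt : ∀ n ∈ wList, n < 4096 := by
        have : wList.all (fun n => Nat.blt n 4096) = true := by decide +kernel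
        exact fun n hn => Nat.blt_eq.mp (List.all_eq_true.mp this n hn)
      have := congrArg code e
      rwa [show code (vec a) = a from USixUFour.code_vec ⟨a, hlt a ha⟩,
        show code (vec b) = b from USixUFour.code_vec ⟨b, hlt b hb⟩] at this
    rw [List.toFinset_card_of_nodup this, List.length_map, wList_add.1]
  have huW : u ∉ W := fun h => hnot (hmemW u h)
  have h3 : 65 ≤ Nat.card S := by
    have h4 : ((insert u W : Finset V6) : Set V6) ⊆ S := by
      intro w hw
      rcases Finset.mem_insert.mp (Finset.mem_coe.mp hw) with rfl | h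
      · exact hu
      · exact hsub w (hmemW w h)
    have h5 := Nat.card_mono S.toFinite h4
    rw [Nat.card_coe_set_eq, Set.ncard_coe_finset, Finset.card_insert_of_notMem huW, hWc] at h5
    exact h5
  omega

/-- the trace moves orthogonal vectors by the subspace -/
theorem trace_move [Q.Normal] (ht : t ∈ Q) (et : (t : G) = g * z * g⁻¹) (hvt : v t = s0) :
    ∀ e ∈ Subgroup.closure (Set.range eGen), ∀ u, perpS u → inW (e u + u) = true := by
  intro e he u hu
  obtain ⟨a, ha, ea⟩ : e ∈ (PH Q g).map ρ := (C.trace_eq c ht et hvt).symm ▸ he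
  obtain ⟨q, hq, rfl⟩ := C.vsurj u
  obtain ⟨p, hp, hp', ep⟩ := C.comm_trace c et ha hq ((C.perp_iff ht hq (et ▸ c.s'.zz) hvt).mp hu)
  exact (C.trace_inW c ht et hvt _).mpr ⟨p, hp, hp', ea ▸ ep⟩

end Co

end CfsgLib.LargeFischer
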