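import Cfsg.Agent.Lib.LargeFischer.SylowChecks
import Cfsg.Agent.Lib.LargeFischer.ToddData

/-!
Kernel checks for the coordinates in the largest elementary abelian group.
-/

set_option autoImplicit false
set_option Elab.async false
set_option maxRecDepth 100000

namespace CfsgLib.LargeFischer

open Matrix CfsgLib.CosetEnum
open CfsgLib.HePres (K4)
open CfsgLib.Fi22USix (V6 el code vec hval nrm)
open CfsgLib.USixUFour (InP)

/-- the columns of a product of the four generators -/
def fC (fb : ℕ) : List ℕ := pEls.getD (fPos.getD fb 0) []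

/-- a vector of the singular subspace by its coordinates -/
noncomputable def uC (j : ℕ) : ℕ := bMap uBase j

/-- the commutator of two vectors -/
def hbB (u w : V6) : Bool := decide (hval u w + hval u w * hval u w ≠ 0)

/-- moved vectors over a top part -/
def comOf (fb : ℕ) : List (ℕ × ℕ × ℕ) := comW.getD (fb - 1) []

/-- the representative modulo the moved vectors -/
def repOf (fb j : ℕ) : ℕ := (repT.getD (fb - 1) []).getD j 0

/-- the action on the top part -/
def lOf (k fb : ℕ) : ℕ := (lTab.getD k []).getD fb 0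

/-- the action on the subspace -/
def mOf (k j : ℕ) : ℕ := (mTab.getD k []).getD j 0

/-- the sign over a top part -/
def sOf (s fb : ℕ) : Bool :=
  Nat.testBit s ([3, 5, 6, 7, 9, 10, 11, 12, 13, 14, 15].findIdx (Nat.beq fb))

/-- the two classes, one candidate for each choice of signs -/
noncomputable def maskP (s n : ℕ) : Bool :=
  bif Nat.blt n 128 then !Nat.beq (n % 64) 0 && decide (InP 0 (vec (uC (n % 64))))
  else (comOf (n / 128)).any fun e =>
    Nat.beq (n % 64) e.1 && ((n / 64 % 2 == 1) == (sOf s (n / 128) ^^ Nat.beq e.2.2 1))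

/-- the signs are kept by the normalising elements -/
def eqvS (s : ℕ) : Bool :=
  (List.range 2).all fun k => (List.range 16).all fun fb =>
    Nat.beq fb 0 || sOf s (lOf k fb) == (((List.range 4).filter fun i => fb.testBit i).foldr
      (fun i b => sOf s (lOf k (2 ^ i)) ^^ b) (sOf s fb))

/-- the number of pairs of the second class differing by a given element -/
noncomputable def meetN (s t : ℕ) : ℕ := (List.range 2048).countP fun n => maskP s n && maskP s (n ^^^ t)

/-- the second class, counted one in each pair -/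
noncomputable def keyP (a b : Bool) (n : ℕ) : Bool :=
  bif Nat.blt n 128 then !Nat.beq (n % 64) 0 && decide (InP 0 (vec (uC (n % 64))))
  else Nat.beq (n / 64 % 2) 0 && (bif Nat.beq (repOf (n / 128) (n % 64)) 0 then a else b)

theorem f_ok : fPos.length = 16 ∧ fPos.Nodup ∧ fC 0 = bId ∧
    (List.range 16).all (fun fb => Nat.blt (fPos.getD fb 0) 256) = true ∧
    (List.range 4).all (fun i => decide (fC (2 ^ i) = invC (eFour.getD i 0))) = true ∧
    (List.range 16).all (fun a => (List.range 16).all fun b => decide (fC (a ^^^ b) = bComp (fC a) (fC b))) = true ∧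
    eIdx.all (fun i => (List.range 16).any fun fb => decide (invC i = fC fb)) = true := by decide +kernel

theorem uC_ok : (List.range 64).all (fun j => uList.any (Nat.beq (uC j)) && (Nat.beq j 0 || !Nat.beq (uC j) 0)) = true ∧
    uList.all (fun u => (List.range 64).any fun j => Nat.beq (uC j) u) = true ∧
    (List.range 64).all (fun a => (List.range 64).all fun b => Nat.beq (uC (a ^^^ b)) (uC a ^^^ uC b)) = true := by
  decide +kernel

theorem com_ok : ∀ fb : Fin 15,
    (comOf (fb + 1)).length = 16 ∧ (comOf (fb + 1)).getD 0 (1, 1, 1) = (0, 0, 0) ∧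
    (comOf (fb + 1)).all (fun e => Nat.blt e.1 64 && Nat.blt e.2.1 4096 &&
      Nat.beq (bMap (fC (fb + 1)) e.2.1 ^^^ e.2.1) (uC e.1) &&
      (hbB (el 2 • vec (uC e.1)) (vec e.2.1) == Nat.beq e.2.2 1)) = true ∧
    (List.range 64).all (fun j => Nat.blt ((repK.getD fb []).getD j 0) 16 &&
      Nat.beq (repOf (fb + 1) j) (j ^^^ ((comOf (fb + 1)).getD ((repK.getD fb []).getD j 0) (0, 0, 0)).1) &&
      (bif Nat.beq (repOf (fb + 1) j) 0 then (comOf (fb + 1)).any (fun e => Nat.beq j e.1) else true) &&
      clTree.any fun q => Nat.beq q.1 (fb + 1) && Nat.beq q.2.1 (repOf (fb + 1) j)) = true := by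
  decide +kernel

theorem lm_ok : ∀ k : Fin 2,
    (List.range 16).all (fun fb => Nat.blt (lOf k fb) 16 && (Nat.beq fb 0 || !Nat.beq (lOf k fb) 0) &&
      decide (bComp (nC k) (fC fb) = bComp (fC (lOf k fb)) (nC k))) = true ∧
    (List.range 64).all (fun j => Nat.blt (mOf k j) 64 && Nat.beq (bMap (nC k) (uC j)) (uC (mOf k j))) = true := by
  decide +kernel

theorem tree_cl : clTree.length = 60 ∧ clTree.getD 0 (0, 0, 0, 0) = (1, 0, 2, 0) ∧
    clTree.getD 1 (0, 0, 0, 0) = (1, 4, 2, 1) ∧
    (List.range 60).all (fun i =>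
      let q := clTree.getD i (0, 0, 0, 0)
      let p := clTree.getD q.2.2.2 (0, 0, 0, 0)
      Nat.blt 0 q.1 && Nat.blt q.1 16 && Nat.blt q.2.1 64 && (Nat.blt i 2 ||
        Nat.blt q.2.2.1 2 && Nat.blt q.2.2.2 i && Nat.beq (lOf q.2.2.1 p.1) q.1 &&
          Nat.beq (repOf q.1 (mOf q.2.2.1 p.2.1)) q.2.1 && (Nat.beq q.2.1 0 == Nat.beq p.2.1 0))) = true := by
  decide +kernel

theorem key_count : ∀ a b : Bool, (List.range 2048).countP (keyP a b) =
    36 + (bif a then 240 else 0) + (bif b then 720 else 0) := by decide +kernel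

theorem sign_ok : (List.range 2048).all (fun s =>
    !eqvS s || !Nat.beq (meetN s 64) (meetN s 192) || Nat.beq s 93) = true := by decide +kernel

theorem mask_ok : (List.range 2048).all (fun n => maskP 93 n == Nat.testBit pairMask n) = true := by decide +kernel

theorem bad_primes : ∀ i : Fin 12, (i : ℕ) = 0 ∨
    (2 ^ (i : ℕ) - 1) % 2011 ≠ 0 ∧ (2 ^ (i : ℕ) - 1) % 1291 ≠ 0 ∧ (2 ^ (i : ℕ) - 1) % 1051 ≠ 0 := by decide +kernel

end CfsgLib.LargeFischer
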