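import Cfsg.Agent.Lib.LargeFischer.ToddPairs
import Cfsg.Agent.Lib.LargeFischer.ToddChecks

/-!
Coordinates in the largest elementary abelian group.
-/

set_option autoImplicit false
set_option maxRecDepth 100000
set_option linter.style.haveILetI false

namespace CfsgLib.LargeFischer

open CfsgLib.Extraspecial
open CfsgLib.HePres (K4)
open CfsgLib.Fi22USix (V6 el code vec vec_code hval nrm)
open CfsgLib.USixUFour (InP mv act coreK)

theorem xor_span {P : ℕ → Prop} {k : ℕ} (h0 : P 0) (hx : ∀ a b, P a → P b → P (a ^^^ b))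
    (hb : ∀ i < k, P (2 ^ i)) : ∀ n < 2 ^ k, P n := by
  induction k with
  | zero =>
    intro n hn
    obtain rfl : n = 0 := by simpa using hn
    exact h0
  | succ k ih =>
    intro n hn
    have ih' := ih fun i hi => hb i (by omega)
    rcases lt_or_ge n (2 ^ k) with h | h
    · exact ih' n h
    · rw [pow_succ] at hn
      have hm : n % 2 ^ k < 2 ^ k := Nat.mod_lt _ (by positivity)
      have e : n = 2 ^ k ^^^ n % 2 ^ k := Nat.eq_of_testBit_eq fun i => by
        rw [Nat.testBit_xor, Nat.testBit_two_pow, Nat.testBit_mod_two_pow]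
        rcases lt_trichotomy i k with hi | rfl | hi
        · simp [hi, (Nat.ne_of_lt hi).symm]
        · have : n.testBit i = true := by
            rw [Nat.testBit_eq_decide_div_mod_eq, show n / 2 ^ i = 1 from Nat.div_eq_of_lt_le (by omega) (by omega)]
            rfl
          simp [this]
        · have : n.testBit i = false := Nat.testBit_lt_two_pow (lt_of_lt_of_le hn (by
            rw [← pow_succ]; exact Nat.pow_le_pow_right two_pos hi))
          simp [this, (Nat.ne_of_lt hi), Nat.not_lt.mpr (le_of_lt hi)]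
      rw [e]
      exact hx _ _ (hb k (by omega)) (ih' _ hm)

/-- a product by binary digits -/
def evG {G : Type*} [Monoid G] : List G → ℕ → G
  | [], _ => 1
  | g :: gs, n => (bif n.testBit 0 then g else 1) * evG gs (n / 2)

theorem evG_zero {G : Type*} [Monoid G] (l : List G) : evG l 0 = 1 := by
  induction l with
  | nil => rfl
  | cons g gs ih => rw [evG, Nat.zero_testBit, cond_false, one_mul, Nat.zero_div, ih]

theorem evG_mem {G : Type*} [Group G] (A : Subgroup G) (l : List G) (hl : ∀ g ∈ l, g ∈ A) (n : ℕ) :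
    evG l n ∈ A := by
  induction l generalizing n with
  | nil => exact one_mem A
  | cons g gs ih =>
    rw [evG]
    refine mul_mem ?_ (ih (fun x hx => hl x (List.mem_cons_of_mem _ hx)) _)
    cases n.testBit 0
    · exact one_mem A
    · exact hl g List.mem_cons_self

theorem evG_xor {G : Type*} [Group G] (A : Subgroup G) (hsq : ∀ a ∈ A, a * a = 1)
    (hcomm : ∀ a ∈ A, ∀ b ∈ A, a * b = b * a) (l : List G) (hl : ∀ g ∈ l, g ∈ A) (a b : ℕ) :
    evG l (a ^^^ b) = evG l a * evG l b := by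
  induction l generalizing a b with
  | nil => exact (one_mul 1).symm
  | cons g gs ih =>
    have hgs : ∀ x ∈ gs, x ∈ A := fun x hx => hl x (List.mem_cons_of_mem _ hx)
    have hg := hl g List.mem_cons_self
    rw [evG, evG, evG, Nat.xor_div_two, ih hgs, Nat.testBit_xor]
    have hc := hcomm g hg _ (evG_mem A gs hgs (a / 2))
    rcases a.testBit 0 <;> rcases b.testBit 0 <;>
      simp only [Bool.bne_false, Bool.bne_true, Bool.not_true, Bool.not_false, cond_true, cond_false,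
        one_mul, Bool.xor_false, Bool.xor_true]
    · rw [← mul_assoc, hc, mul_assoc]
    · rw [mul_assoc]
    · rw [mul_assoc g (evG gs (a / 2)), ← mul_assoc (evG gs (a / 2)) g, ← hc, mul_assoc g (evG gs (a / 2)),
        ← mul_assoc g g, hsq g hg, one_mul]

theorem hbB_eq_false {u w : V6} : hbB u w = false ↔ hval u w + hval u w * hval u w = 0 := by
  simp [hbB]

theorem fC_elem {fb : ℕ} (hfb : fb < 16) : ∃ f ∈ e1Sub, colsOf f = fC fb := by
  refine xor_span (k := 4) (P := fun n => ∃ f ∈ e1Sub, n < 16 ∧ colsOf f = fC n) ?_ ?_ ?_ fb hfb |>.imp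
    fun f h => ⟨h.1, h.2.2⟩
  · exact ⟨1, one_mem _, by norm_num, cols_one.trans f_ok.2.2.1.symm⟩
  · rintro a b ⟨f, hf, ha, ef⟩ ⟨g, hg, hb, eg⟩
    refine ⟨f * g, mul_mem hf hg, Nat.xor_lt_two_pow (n := 4) ha hb, ?_⟩
    rw [cols_mul (sylP_listed (e1_le hf)).1, ef, eg]
    exact (of_decide_eq_true (List.all_eq_true.mp (List.all_eq_true.mp f_ok.2.2.2.2.2.1 a (List.mem_range.mpr ha)) b
      (List.mem_range.mpr hb))).symm
  · intro i hi
    have hmem : eFour.getD i 0 ∈ eIdx := by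
      have h4 : eFour.length = 4 := rfl
      have h := List.all_eq_true.mp eIdx_ok.2.2.2.1 (eFour.getD i 0) (by
        rw [List.getD_eq_getElem _ _ (hi.trans_eq h4.symm)]; exact List.getElem_mem _)
      rw [List.any_eq_true] at h
      obtain ⟨e, he, hke⟩ := h
      exact Nat.eq_of_beq_eq_true hke ▸ he
    obtain ⟨f, hf, ef⟩ := e1_elem hmem
    refine ⟨f, hf, by interval_cases i <;> norm_num, ef.trans ?_⟩
    exact (of_decide_eq_true (List.all_eq_true.mp f_ok.2.2.2.2.1 i (List.mem_range.mpr hi))).symm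

theorem fC_cases {f : Equiv.Perm V6} (hf : f ∈ e1Sub) : ∃ fb, fb < 16 ∧ colsOf f = fC fb := by
  by_cases h1 : f = 1
  · exact ⟨0, by norm_num, by rw [h1, cols_one]; exact f_ok.2.2.1.symm⟩
  obtain ⟨i, hi, e⟩ := e1_cases hf h1
  obtain ⟨fb, hfb, efb⟩ := List.any_eq_true.mp (List.all_eq_true.mp f_ok.2.2.2.2.2.2 i hi)
  exact ⟨fb, List.mem_range.mp hfb, e.trans (of_decide_eq_true efb)⟩

theorem fC_inj {a b : ℕ} (ha : a < 16) (hb : b < 16) (h : fC a = fC b) : a = b := by
  have hl : ∀ i < 16, fPos.getD i 0 < 256 := fun i hi =>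
    Nat.blt_eq.mp (List.all_eq_true.mp f_ok.2.2.2.1 i (List.mem_range.mpr hi))
  have h1 := els_inj (hl a ha) (hl b hb) h
  rwa [List.getD_eq_getElem _ _ (ha.trans_eq f_ok.1.symm), List.getD_eq_getElem _ _ (hb.trans_eq f_ok.1.symm),
    f_ok.2.1.getElem_inj_iff] at h1

theorem uC_mem {j : ℕ} (hj : j < 64) : uC j ∈ uList ∧ uC j < 4096 := by
  have h := List.all_eq_true.mp uC_ok.1 j (List.mem_range.mpr hj)
  rw [Bool.and_eq_true, List.any_eq_true] at h
  obtain ⟨⟨u, hu, e⟩, -⟩ := h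
  have hlt := List.all_eq_true.mp u_ok.2.2.1 u hu
  simp only [Bool.and_eq_true, Nat.blt_eq] at hlt
  exact ⟨Nat.eq_of_beq_eq_true e ▸ hu, Nat.eq_of_beq_eq_true e ▸ hlt.1.1.1⟩

theorem uC_xor {a b : ℕ} (ha : a < 64) (hb : b < 64) : uC (a ^^^ b) = uC a ^^^ uC b :=
  Nat.eq_of_beq_eq_true (List.all_eq_true.mp (List.all_eq_true.mp uC_ok.2.2 a (List.mem_range.mpr ha)) b
    (List.mem_range.mpr hb))

theorem code_uC {j : ℕ} (hj : j < 64) : code (vec (uC j)) = uC j := USixUFour.code_vec ⟨_, (uC_mem hj).2⟩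

theorem uC_inj {a b : ℕ} (ha : a < 64) (hb : b < 64) (h : vec (uC a) = vec (uC b)) : a = b := by
  have h1 : uC a = uC b := by rw [← code_uC ha, h, code_uC hb]
  have h2 : uC (a ^^^ b) = 0 := by rw [uC_xor ha hb, h1, Nat.xor_self]
  have h3 := List.all_eq_true.mp uC_ok.1 (a ^^^ b) (List.mem_range.mpr (Nat.xor_lt_two_pow (n := 6) ha hb))
  rw [Bool.and_eq_true, h2, Bool.or_eq_true, Nat.beq_refl, Bool.not_true] at h3
  rcases h3.2 with h | h
  · exact Nat.xor_eq_zero_iff.mp (Nat.eq_of_beq_eq_true h)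
  · exact absurd h Bool.false_ne_true

theorem uC_cases {u : V6} (hu : code u ∈ uList) : ∃ j, j < 64 ∧ vec (uC j) = u := by
  obtain ⟨j, hj, e⟩ := List.any_eq_true.mp (List.all_eq_true.mp uC_ok.2.1 _ hu)
  exact ⟨j, List.mem_range.mp hj, by rw [Nat.eq_of_beq_eq_true e, vec_code]⟩

namespace Co

variable {G : Type*} [Group G] [Finite G] {z : G} {Q : Subgroup (CZ z)} {v : CZ z → V6}
  {ρ : CZ z →* Equiv.Perm V6} (C : Co z Q v ρ 2)
include C

/-- the central involution -/
noncomputable def zc (_C : Co z Q v ρ 2) : CZ z := ⟨z, Subgroup.mem_centralizer_singleton_iff.mpr rfl⟩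

theorem zc_mem : (zc C : CZ z) ∈ Q := by
  obtain ⟨w, hw, ew⟩ := C.st.z_mem
  rwa [show zc C = w from Subtype.ext ew.symm]

theorem zc_v : v (zc C) = 0 := (C.vzero _ C.zc_mem).mpr (Or.inr rfl)

theorem zc_comm (h : CZ z) : h * zc C = zc C * h :=
  Subtype.ext (Subgroup.mem_centralizer_singleton_iff.mp h.2)

theorem zc_sq : zc C * zc C = 1 := Subtype.ext C.st.zz

theorem zc_ne : zc C ≠ 1 := fun e => C.st.ne_one (congrArg Subtype.val e)

theorem eq_cases' {a b : CZ z} (ha : a ∈ Q) (hb : b ∈ Q) (h : v a = v b) : b = a ∨ b = zc C * a :=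
  (C.eq_cases ha hb h).imp Subtype.ext fun e => Subtype.ext e

/-- a lift of a vector of the singular subspace, free of choices -/
noncomputable def sLift (x : CZ z) (u : V6) : CZ z :=
  x * (C.vsurj (el 2 • u)).choose * x⁻¹ * (C.vsurj (el 2 • u)).choose

theorem sLift_eq [Q.Normal] (x : CZ z) {u : V6} {w : CZ z} (hw : w ∈ Q) (ew : v w = el 2 • u) :
    sLift C x u = x * w * x⁻¹ * w := by
  unfold sLift
  obtain ⟨h1, h2⟩ := (C.vsurj (el 2 • u)).choose_spec
  generalize (C.vsurj (el 2 • u)).choose = w' at h1 h2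
  rcases C.eq_cases' hw h1 (ew.trans h2.symm) with e | e <;> rw [e]
  calc x * (zc C * w) * x⁻¹ * (zc C * w) = x * zc C * (w * x⁻¹ * zc C) * w := by group
    _ = zc C * x * (zc C * (w * x⁻¹)) * w := by rw [C.zc_comm x, C.zc_comm (w * x⁻¹)]
    _ = zc C * (x * zc C) * (w * x⁻¹ * w) := by group
    _ = (zc C * zc C) * x * (w * x⁻¹ * w) := by rw [C.zc_comm x, ← mul_assoc (zc C)]
    _ = _ := by rw [C.zc_sq, one_mul]; group

theorem sLift_spec [Q.Normal] {x : CZ z} (hx : ∀ u, ρ x u = el 2 • u) {u : V6} (hu : code u ∈ uList) :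
    sLift C x u ∈ C.uSub ∧ v (sLift C x u) = u := by
  obtain ⟨w, hw, ew⟩ := C.vsurj (el 2 • u)
  rw [C.sLift_eq x hw ew]
  have hxw := (inferInstance : Q.Normal).conj_mem w hw x
  have hv : v (x * w * x⁻¹ * w) = u := by
    rw [C.vmul _ hxw _ hw, C.vconj x w hw, hx, ew, smul_smul, ← add_smul, el_two_pow.2.1, one_smul]
  exact ⟨⟨mul_mem hxw hw, by rw [hv]; exact hu⟩, hv⟩

theorem sLift_add [Q.Normal] {x : CZ z} (hx : ∀ u, ρ x u = el 2 • u) {u u' : V6} (hu : code u ∈ uList)
    (hu' : code u' ∈ uList) : sLift C x (u + u') = sLift C x u * sLift C x u' := by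
  obtain ⟨w, hw, ew⟩ := C.vsurj (el 2 • u)
  obtain ⟨w', hw', ew'⟩ := C.vsurj (el 2 • u')
  rw [C.sLift_eq x hw ew, C.sLift_eq x hw' ew',
    C.sLift_eq x (mul_mem hw hw') (by rw [C.vmul w hw w' hw', ew, ew', smul_add])]
  have hU : ∀ {u : V6} {w : CZ z}, code u ∈ uList → w ∈ Q → v w = el 2 • u → w ∈ C.aSub ∧ x * w * x⁻¹ ∈ C.aSub := by
    intro u w hu hw ew
    refine ⟨C.uSub_le_aSub ⟨hw, by rw [ew]; exact uList_el hu⟩,
      C.uSub_le_aSub ⟨(inferInstance : Q.Normal).conj_mem w hw x, ?_⟩⟩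
    rw [C.vconj x w hw, hx, ew]; exact uList_el (uList_el hu)
  obtain ⟨a1, a2⟩ := hU hu hw ew
  obtain ⟨b1, b2⟩ := hU hu' hw' ew'
  have hc := C.aSub_comm b2 a1
  calc x * (w * w') * x⁻¹ * (w * w') = (x * w * x⁻¹) * ((x * w' * x⁻¹) * w) * w' := by group
    _ = _ := by rw [hc]; group

/-- the lifts commute with every element commuting with the scalar that keeps the subspace -/
theorem sLift_conj [Q.Normal] {x m : CZ z} (hm : x * m = m * x) {u : V6}
    (hmu : ρ m (el 2 • u) = el 2 • ρ m u) : m * sLift C x u * m⁻¹ = sLift C x (ρ m u) := by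
  obtain ⟨w, hw, ew⟩ := C.vsurj (el 2 • u)
  rw [C.sLift_eq x hw ew,
    C.sLift_eq x ((inferInstance : Q.Normal).conj_mem w hw m) (by rw [C.vconj m w hw, ew, hmu])]
  calc m * (x * w * x⁻¹ * w) * m⁻¹ = (m * x) * w * x⁻¹ * (m⁻¹ * m) * w * m⁻¹ := by group
    _ = (x * m) * w * (x⁻¹ * m⁻¹) * (m * w * m⁻¹) := by rw [hm]; group
    _ = (x * m) * w * (m * x)⁻¹ * (m * w * m⁻¹) := by group
    _ = _ := by rw [← hm]; group

/-- lifts of the four generators and the scalar -/
structure Frame (C : Co z Q v ρ 2) (x : CZ z) (kb : Fin 4 → CZ z) : Prop where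
  hx3 : x ^ 3 = 1
  hx : ∀ u, ρ x u = el 2 • u
  comm : ∀ i, x * kb i = kb i * x
  cols : ∀ i : Fin 4, colsOf (ρ (kb i)) = fC (2 ^ (i : ℕ)) ∧ ρ (kb i) ∈ e1Sub

/-- a lift over a top part -/
noncomputable def kLift (_C : Co z Q v ρ 2) (kb : Fin 4 → CZ z) (fb : ℕ) : CZ z := evG [kb 0, kb 1, kb 2, kb 3] fb

/-- the element with given coordinates -/
noncomputable def ev (x : CZ z) (kb : Fin 4 → CZ z) (n : ℕ) : CZ z :=
  kLift C kb (n / 128) * (sLift C x (vec (uC (n % 64))) * (bif n.testBit 6 then zc C else 1))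

theorem exists_frame' [Q.Normal] : ∃ (x : CZ z) (kb : Fin 4 → CZ z), Frame C x kb := by
  obtain ⟨x, hx3, hx⟩ := C.exists_scalar
  have ha0 : el 2 ≠ 0 := by decide +kernel
  have ha1 : el 2 ≠ 1 := by decide +kernel
  have hk : ∀ i : Fin 4, ∃ k : CZ z, x * k = k * x ∧ colsOf (ρ k) = fC (2 ^ (i : ℕ)) ∧ ρ k ∈ e1Sub := by
    intro i
    obtain ⟨f, hf, ef⟩ := fC_elem (fb := 2 ^ (i : ℕ)) (by fin_cases i <;> norm_num)
    obtain ⟨h, rfl⟩ := C.kkp_le (C.e1_kkp rfl hf)
    obtain ⟨q, hq, e⟩ := C.lift_comm ha0 ha1 hx3 hx h (C.e1_kkp rfl hf)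
    have he : ρ (q * h) = ρ h := by rw [map_mul, (C.ker q).mpr hq, one_mul]
    exact ⟨q * h, e, he ▸ ef, he ▸ hf⟩
  choose kb hkb using hk
  exact ⟨x, kb, hx3, hx, fun i => (hkb i).1, fun i => (hkb i).2⟩

variable {x : CZ z} {kb : Fin 4 → CZ z}

theorem kLift_two (i : Fin 4) : kLift C kb (2 ^ (i : ℕ)) = kb i := by
  fin_cases i <;> simp [kLift, evG, Nat.testBit_zero]

variable {C}

theorem Frame.lift_mem [Q.Normal] (F : Frame C x kb) {k : CZ z} (hk : x * k = k * x) (he : ρ k ∈ e1Sub) :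
    k ∈ C.aSub :=
  ⟨he, Subgroup.mem_centralizer_iff.mpr fun _ hp =>
    (mul_inv_eq_iff_eq_mul.mp (C.lift_fixU F.hx hk he hp)).symm⟩

theorem Frame.kb_mem [Q.Normal] (F : Frame C x kb) : ∀ g ∈ [kb 0, kb 1, kb 2, kb 3], g ∈ C.aSub := by
  intro g hg
  simp only [List.mem_cons, List.not_mem_nil, or_false] at hg
  rcases hg with rfl | rfl | rfl | rfl <;> exact F.lift_mem (F.comm _) (F.cols _).2

theorem Frame.kLift_xor [Q.Normal] (F : Frame C x kb) (a b : ℕ) :
    kLift C kb (a ^^^ b) = kLift C kb a * kLift C kb b :=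
  evG_xor C.aSub (fun _ h => C.aSub_sq h) (fun _ ha _ hb => C.aSub_comm ha hb) _ F.kb_mem a b

theorem Frame.kLift_spec [Q.Normal] (F : Frame C x kb) {fb : ℕ} (hfb : fb < 16) :
    x * kLift C kb fb = kLift C kb fb * x ∧ colsOf (ρ (kLift C kb fb)) = fC fb ∧
      ρ (kLift C kb fb) ∈ e1Sub := by
  refine (xor_span (k := 4) (P := fun n => n < 16 ∧ x * kLift C kb n = kLift C kb n * x ∧
    colsOf (ρ (kLift C kb n)) = fC n ∧ ρ (kLift C kb n) ∈ e1Sub) ?_ ?_ ?_ fb hfb).2
  · rw [kLift, evG_zero, map_one]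
    exact ⟨by norm_num, by rw [mul_one, one_mul], cols_one.trans f_ok.2.2.1.symm, one_mem _⟩
  · rintro a b ⟨ha, ca, ea, ma⟩ ⟨hb, cb, eb, mb⟩
    rw [F.kLift_xor, map_mul, cols_mul (sylP_listed (e1_le ma)).1, ea, eb]
    exact ⟨Nat.xor_lt_two_pow (n := 4) ha hb, (show Commute x _ from ca).mul_right cb,
      (of_decide_eq_true (List.all_eq_true.mp (List.all_eq_true.mp f_ok.2.2.2.2.2.1 a (List.mem_range.mpr ha)) b
        (List.mem_range.mpr hb))).symm, mul_mem ma mb⟩
  · intro i hi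
    rw [show 2 ^ i = 2 ^ ((⟨i, hi⟩ : Fin 4) : ℕ) from rfl, C.kLift_two]
    exact ⟨Nat.pow_lt_pow_right (by norm_num : 1 < 2) hi, F.comm _, F.cols _⟩

theorem Frame.kLift_mem [Q.Normal] (F : Frame C x kb) (fb : ℕ) : kLift C kb fb ∈ C.aSub :=
  evG_mem C.aSub _ F.kb_mem fb

theorem Frame.sLift_mem [Q.Normal] (F : Frame C x kb) (n : ℕ) :
    sLift C x (vec (uC (n % 64))) * (bif n.testBit 6 then zc C else 1) ∈ C.uSub := by
  have hj : n % 64 < 64 := Nat.mod_lt _ (by norm_num)
  refine mul_mem (C.sLift_spec F.hx (by rw [code_uC hj]; exact (uC_mem hj).1)).1 ?_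
  cases n.testBit 6
  · exact one_mem _
  · exact ⟨C.zc_mem, by rw [cond_true, C.zc_v]; exact uList_zero⟩

theorem Frame.ev_mem [Q.Normal] (F : Frame C x kb) (n : ℕ) : ev C x kb n ∈ C.aSub :=
  mul_mem (F.kLift_mem _) (C.uSub_le_aSub (F.sLift_mem n))

theorem Frame.ev_xor [Q.Normal] (F : Frame C x kb) (a b : ℕ) :
    ev C x kb (a ^^^ b) = ev C x kb a * ev C x kb b := by
  have ha : a % 64 < 64 := Nat.mod_lt _ (by norm_num)
  have hb : b % 64 < 64 := Nat.mod_lt _ (by norm_num)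
  have h1 : (a ^^^ b) / 128 = a / 128 ^^^ b / 128 := by
    rw [show (128 : ℕ) = 2 ^ 7 by norm_num, ← Nat.shiftRight_eq_div_pow, ← Nat.shiftRight_eq_div_pow,
      ← Nat.shiftRight_eq_div_pow, Nat.shiftRight_xor_distrib]
  have h2 : (a ^^^ b) % 64 = a % 64 ^^^ b % 64 := by
    rw [show (64 : ℕ) = 2 ^ 6 by norm_num, Nat.xor_mod_two_pow]
  have h3 : (bif (a ^^^ b).testBit 6 then zc C else 1) =
      (bif a.testBit 6 then zc C else 1) * (bif b.testBit 6 then zc C else 1) := by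
    rw [Nat.testBit_xor]
    cases a.testBit 6 <;> cases b.testBit 6 <;> simp [C.zc_sq]
  have hzb : ∀ (c : Bool) (h : CZ z), h * (bif c then zc C else 1) = (bif c then zc C else 1) * h := by
    intro c h
    cases c
    · rw [cond_false, mul_one, one_mul]
    · exact C.zc_comm h
  unfold ev
  rw [h1, h2, h3, F.kLift_xor, uC_xor ha hb, vec_xor,
    C.sLift_add F.hx (by rw [code_uC ha]; exact (uC_mem ha).1) (by rw [code_uC hb]; exact (uC_mem hb).1)]
  have hks := C.aSub_comm (C.uSub_le_aSub (F.sLift_mem a)) (F.kLift_mem (b / 128))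
  calc _ = kLift C kb (a / 128) * kLift C kb (b / 128) * (sLift C x (vec (uC (a % 64))) *
        (sLift C x (vec (uC (b % 64))) * (bif a.testBit 6 then zc C else 1)) *
          (bif b.testBit 6 then zc C else 1)) := by group
    _ = kLift C kb (a / 128) * (kLift C kb (b / 128) * (sLift C x (vec (uC (a % 64))) *
        (bif a.testBit 6 then zc C else 1))) * (sLift C x (vec (uC (b % 64))) *
          (bif b.testBit 6 then zc C else 1)) := by
        rw [hzb (a.testBit 6) (sLift C x (vec (uC (b % 64))))]; group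
    _ = _ := by rw [← hks]; group

/-- an element over a given top part with given vector -/
theorem Frame.ev_of [Q.Normal] (F : Frame C x kb) {a : CZ z} (ha : a ∈ C.aSub) {fb j : ℕ} (hfb : fb < 16)
    (hj : j < 64) (ef : colsOf (ρ a) = fC fb) (ev' : v ((kLift C kb fb)⁻¹ * a) = vec (uC j)) :
    a = ev C x kb (128 * fb + j) ∨ a = ev C x kb (128 * fb + 64 + j) := by
  obtain ⟨-, ek, mk⟩ := F.kLift_spec hfb
  have heq : ρ (kLift C kb fb) = ρ a :=
    cols_inj (sylP_listed (e1_le mk)).1 (sylP_listed (e1_le ha.1)).1 (ek.trans ef.symm)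
  have hq : (kLift C kb fb)⁻¹ * a ∈ Q := (C.ker _).mp (by rw [map_mul, map_inv, heq, inv_mul_cancel])
  obtain ⟨hsU, hsv⟩ := C.sLift_spec F.hx (u := vec (uC j)) (by rw [code_uC hj]; exact (uC_mem hj).1)
  rcases C.eq_cases' hsU.1 hq (hsv.trans ev'.symm) with e | e
  · left
    rw [ev, show (128 * fb + j) / 128 = fb by omega, show (128 * fb + j) % 64 = j by omega,
      Nat.testBit_eq_decide_div_mod_eq, show (128 * fb + j) / 2 ^ 6 % 2 = 0 by norm_num; omega]
    rw [show decide ((0 : ℕ) = 1) = false from rfl, cond_false, mul_one, ← e, mul_inv_cancel_left]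
  · right
    rw [ev, show (128 * fb + 64 + j) / 128 = fb by omega, show (128 * fb + 64 + j) % 64 = j by omega,
      Nat.testBit_eq_decide_div_mod_eq, show (128 * fb + 64 + j) / 2 ^ 6 % 2 = 1 by norm_num; omega]
    rw [show decide ((1 : ℕ) = 1) = true from rfl, cond_true, C.zc_comm, ← e, mul_inv_cancel_left]

theorem Frame.ev_parts [Q.Normal] (F : Frame C x kb) {n : ℕ} (hn : n < 2048) :
    colsOf (ρ (ev C x kb n)) = fC (n / 128) ∧ v ((kLift C kb (n / 128))⁻¹ * ev C x kb n) = vec (uC (n % 64)) ∧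
      (kLift C kb (n / 128))⁻¹ * ev C x kb n ∈ Q := by
  have hU := F.sLift_mem n
  obtain ⟨-, ek, -⟩ := F.kLift_spec (fb := n / 128) (by omega)
  rw [ev, inv_mul_cancel_left, map_mul, (C.ker _).mpr hU.1, mul_one]
  refine ⟨ek, ?_, hU.1⟩
  have hj : n % 64 < 64 := Nat.mod_lt _ (by norm_num)
  obtain ⟨hsU, hsv⟩ := C.sLift_spec F.hx (u := vec (uC (n % 64))) (by rw [code_uC hj]; exact (uC_mem hj).1)
  cases n.testBit 6
  · rw [cond_false, mul_one, hsv]
  · rw [cond_true, C.vmul _ hsU.1 _ C.zc_mem, hsv, C.zc_v, add_zero]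

theorem Frame.ev_surj [Q.Normal] (F : Frame C x kb) {a : CZ z} (ha : a ∈ C.aSub) :
    ∃ n, n < 2048 ∧ ev C x kb n = a := by
  obtain ⟨fb, hfb, ef⟩ := fC_cases ha.1
  obtain ⟨-, ek, mk⟩ := F.kLift_spec hfb
  have hu : (kLift C kb fb)⁻¹ * a ∈ C.uSub := by
    refine C.perp_uSub ((C.ker _).mp ?_)
      (Subgroup.mem_centralizer_iff.mp (mul_mem (inv_mem (F.kLift_mem fb)) ha).2)
    rw [map_mul, map_inv, cols_inj (sylP_listed (e1_le mk)).1 (sylP_listed (e1_le ha.1)).1 (ek.trans ef.symm),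
      inv_mul_cancel]
  obtain ⟨j, hj, ej⟩ := uC_cases hu.2
  rcases F.ev_of ha hfb hj ef ej.symm with e | e
  · exact ⟨_, by omega, e.symm⟩
  · exact ⟨_, by omega, e.symm⟩

theorem Frame.ev_bij [Q.Normal] (F : Frame C x kb) :
    Function.Bijective (fun n : Fin 2048 => (⟨ev C x kb n, F.ev_mem n⟩ : C.aSub)) :=
  (Nat.bijective_iff_surjective_and_card _).mpr ⟨fun a => by
    obtain ⟨n, hn, e⟩ := F.ev_surj a.2
    exact ⟨⟨n, hn⟩, Subtype.ext e⟩, by rw [Nat.card_fin, C.aSub_facts.2]; norm_num⟩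

theorem Frame.ev_inj [Q.Normal] (F : Frame C x kb) {a b : ℕ} (ha : a < 2048) (hb : b < 2048)
    (h : ev C x kb a = ev C x kb b) : a = b :=
  congrArg Fin.val (F.ev_bij.1 (a₁ := ⟨a, ha⟩) (a₂ := ⟨b, hb⟩) (Subtype.ext h))

/-- the conjugates of a lift by the extraspecial group -/
theorem Frame.rot [Q.Normal] (F : Frame C x kb) {fb : ℕ} (hfb : fb < 16) {r : CZ z} (hr : r ∈ Q) {p j : ℕ}
    (hj : j < 64) (er : v r = vec p) (ej : bMap (fC fb) (code (vec p)) ^^^ code (vec p) = uC j) :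
    r * kLift C kb fb * r⁻¹ =
      ev C x kb (128 * fb + (bif hbB (el 2 • vec (uC j)) (vec p) then 64 else 0) + j) := by
  obtain ⟨hkx, ek, mk⟩ := F.kLift_spec hfb
  have hkA := F.kLift_mem fb
  set k := kLift C kb fb with hk
  have hk2 : k * k = 1 := C.aSub_sq hkA
  have hkinv : k⁻¹ = k := inv_eq_of_mul_eq_one_right hk2
  set c := vec (uC j) with hc
  have hcU : code c ∈ uList := by rw [hc, code_uC hj]; exact (uC_mem hj).1
  set g : CZ z → CZ z := fun r => k * (r * k * r⁻¹) with hg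
  have hgQ : ∀ r ∈ Q, g r ∈ Q ∧ v (g r) = ρ k (v r) + v r := by
    intro r hr
    have hkr := (inferInstance : Q.Normal).conj_mem r hr k
    have e : g r = (k * r * k⁻¹) * r⁻¹ := by
      show k * (r * k * r⁻¹) = _
      rw [hkinv]; simp only [mul_assoc]
    rw [e]
    exact ⟨mul_mem hkr (inv_mem hr), by rw [C.vmul _ hkr _ (inv_mem hr), C.vconj k r hr, C.v_inv hr]⟩
  have hfp : ρ k (vec p) + vec p = c := by
    rw [hc, ← ej, vec_xor, ← ek, ← cols_apply (sylP_listed (e1_le mk)).1, vec_code, vec_code]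
  obtain ⟨hgrQ, hgrv⟩ := hgQ r hr
  rw [er, hfp] at hgrv
  have hsame : ∀ r' ∈ Q, ∀ r'' ∈ Q, v r' = v r'' → g r' = g r'' := by
    intro r' hr' r'' hr'' e
    rcases C.eq_cases' hr' hr'' e with e' | e' <;> rw [e']
    show k * (r' * k * r'⁻¹) = k * (zc C * r' * k * (zc C * r')⁻¹)
    rw [show zc C * r' * k * (zc C * r')⁻¹ = zc C * (r' * k * r'⁻¹) * (zc C)⁻¹ by group, ← C.zc_comm,
      mul_inv_cancel_right]
  -- the conjugate of the vector by the scalar
  set r' := x * r * x⁻¹ with hr'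
  have hr'Q : r' ∈ Q := (inferInstance : Q.Normal).conj_mem r hr x
  have hgx : ∀ s, g (x * s * x⁻¹) = x * g s * x⁻¹ := fun s => by
    have h1 : Commute x k := hkx
    show k * (x * s * x⁻¹ * k * (x * s * x⁻¹)⁻¹) = x * (k * (s * k * s⁻¹)) * x⁻¹
    calc k * (x * s * x⁻¹ * k * (x * s * x⁻¹)⁻¹) = (k * x) * s * (x⁻¹ * k) * x * s⁻¹ * x⁻¹ := by group
      _ = (x * k) * s * (k * x⁻¹) * x * s⁻¹ * x⁻¹ := by rw [← h1.eq, h1.inv_left.eq]
      _ = _ := by group
  have hr'' := (inferInstance : Q.Normal).conj_mem r' hr'Q x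
  have hrr : v (r * r') = v (x * r' * x⁻¹) := by
    rw [C.vmul r hr r' hr'Q, C.vconj x r' hr'Q, F.hx, hr', C.vconj x r hr, F.hx, smul_smul,
      show el 2 * el 2 = 1 + el 2 by decide +kernel, add_smul, one_smul]
  have hprod : g (r * r') = g r * (r * g r' * r⁻¹) := by
    show k * (r * r' * k * (r * r')⁻¹) = k * (r * k * r⁻¹) * (r * (k * (r' * k * r'⁻¹)) * r⁻¹)
    calc k * (r * r' * k * (r * r')⁻¹) = k * (r * (r' * k * r'⁻¹) * r⁻¹) := by group
      _ = k * (r * ((k * k) * (r' * k * r'⁻¹)) * r⁻¹) := by rw [hk2, one_mul]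
      _ = _ := by group
  rw [hsame _ (mul_mem hr hr'Q) _ hr'' hrr] at hprod
  have hgr'Q : g r' ∈ Q := (hgQ r' hr'Q).1
  have hvgr' : v (g r') = el 2 • c := by rw [hr', hgx, C.vconj x _ hgrQ, F.hx, hgrv]
  have hg2 : g r' * g r' = 1 := C.uSub_sq ⟨hgr'Q, by rw [hvgr']; exact uList_el hcU⟩
  have hmove : r * g r' * r⁻¹ = (bif hbB (el 2 • c) (vec p) then zc C else 1) * g r' := by
    have hiff := C.comm_iff hgr'Q hr (congrArg Subtype.val hg2)
    rw [hvgr', er] at hiff
    cases hb : hbB (el 2 • c) (vec p)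
    · have h := hiff.mp (hbB_eq_false.mp hb)
      rw [cond_false, one_mul]
      exact Subtype.ext (mul_inv_eq_iff_eq_mul.mpr h.symm)
    · rw [cond_true]
      rcases C.st.comm_cases (mem_QG hr) (mem_QG hgr'Q) with h | h
      · have h' : (g r' : G) * r = r * g r' := (mul_inv_eq_iff_eq_mul.mp h).symm
        have := hbB_eq_false.mpr (hiff.mpr h')
        rw [hb] at this
        exact Bool.noConfusion this
      · exact Subtype.ext h
  rw [hmove, hr', hgx, hgx] at hprod
  obtain ⟨hsU, hsv⟩ := C.sLift_spec F.hx hcU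
  obtain ⟨δ, hδ⟩ : ∃ δ : Bool, g r = (bif δ then zc C else 1) * sLift C x c := by
    rcases C.eq_cases' hsU.1 hgrQ (hsv.trans hgrv.symm) with e | e
    · exact ⟨false, by rw [cond_false, one_mul]; exact e⟩
    · exact ⟨true, e⟩
  have hxs : ∀ u : V6, x * sLift C x u * x⁻¹ = sLift C x (el 2 • u) := fun u => by
    rw [C.sLift_conj rfl (by rw [F.hx, F.hx]), F.hx]
  have hbz : ∀ (b : Bool) (h : CZ z), h * (bif b then zc C else 1) = (bif b then zc C else 1) * h := fun b h => by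
    cases b
    · rw [cond_false, mul_one, one_mul]
    · exact C.zc_comm h
  set e := hbB (el 2 • c) (vec p) with he
  have hconj : ∀ (b : Bool) (u : V6), x * ((bif b then zc C else 1) * sLift C x u) * x⁻¹ =
      (bif b then zc C else 1) * sLift C x (el 2 • u) := fun b u => by
    rw [← mul_assoc x, hbz, mul_assoc _ x, mul_assoc _ (x * _), hxs]
  rw [hδ, hconj, hconj, smul_smul, show el 2 * el 2 = 1 + el 2 by decide +kernel, add_smul, one_smul,
    C.sLift_add F.hx hcU (uList_el hcU)] at hprod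
  have hδe : δ = e := by
    set s1 := sLift C x c with hs1
    set s2 := sLift C x (el 2 • c)
    have hzd : ∀ b : Bool, (bif b then zc C else 1) * (bif b then zc C else 1) = 1 := fun b => by
      cases b
      · exact one_mul 1
      · exact C.zc_sq
    have h1 : (bif δ then zc C else 1) * (s1 * s2) = (bif e then zc C else 1) * (s1 * s2) := by
      rw [hprod]
      calc (bif δ then zc C else 1) * s1 * ((bif e then zc C else 1) * ((bif δ then zc C else 1) * s2))
          = (bif δ then zc C else 1) * (s1 * ((bif e then zc C else 1) * (bif δ then zc C else 1))) * s2 := by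
            simp only [mul_assoc]
        _ = (bif δ then zc C else 1) * ((bif e then zc C else 1) * ((bif δ then zc C else 1) * s1)) * s2 := by
            rw [← mul_assoc s1, hbz e s1, mul_assoc _ s1, hbz δ s1]
        _ = (bif δ then zc C else 1) * ((bif δ then zc C else 1) * (bif e then zc C else 1)) * (s1 * s2) := by
            rw [← mul_assoc (bif e then zc C else 1), hbz δ (bif e then zc C else 1)]; simp only [mul_assoc]
        _ = _ := by rw [← mul_assoc (bif δ then zc C else 1), hzd δ, one_mul]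
    have hinj : ∀ a b : Bool, (bif a then zc C else 1) = (bif b then zc C else 1) → a = b := by
      intro a b h
      cases a <;> cases b <;> first
        | rfl
        | exact absurd h C.zc_ne
        | exact absurd h.symm C.zc_ne
    exact hinj _ _ (mul_right_cancel h1)
  have hfin : r * k * r⁻¹ = k * g r := by
    show r * k * r⁻¹ = k * (k * (r * k * r⁻¹))
    rw [← mul_assoc k k, hk2, one_mul]
  rw [hfin, hδ, hδe, ← hbz e]
  cases e
  · rw [cond_false, cond_false, add_zero, ev, show (128 * fb + j) / 128 = fb by omega,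
      show (128 * fb + j) % 64 = j by omega, Nat.testBit_eq_decide_div_mod_eq,
      show (128 * fb + j) / 2 ^ 6 % 2 = 0 by norm_num; omega]
    rfl
  · rw [cond_true, cond_true, ev, show (128 * fb + 64 + j) / 128 = fb by omega,
      show (128 * fb + 64 + j) % 64 = j by omega, Nat.testBit_eq_decide_div_mod_eq,
      show (128 * fb + 64 + j) / 2 ^ 6 % 2 = 1 by norm_num; omega]
    rfl

end Co

end CfsgLib.LargeFischer
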