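import Cfsg.Agent.Lib.LargeFischer.ToddPoints
import Cfsg.Agent.Lib.Golay.Perm

/-!
A linear map preserving the pairs permutes the points and keeps the code.
-/

set_option autoImplicit false
set_option maxRecDepth 100000

namespace CfsgLib.LargeFischer

open Cfsg CfsgLib.Golay

theorem pairD_lt (i : ℕ) : pairD.getD i 0 < 2048 := by
  rcases lt_or_ge i pairD.length with h | h
  · rw [List.getD_eq_getElem _ _ h]
    exact Nat.blt_eq.mp (List.all_eq_true.mp pairs_ok.2.1 _ (List.getElem_mem h))
  · rw [List.getD_eq_default _ _ h]; norm_num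

theorem xor11_lt {a b : ℕ} (ha : a < 2048) (hb : b < 2048) : a ^^^ b < 2048 :=
  Nat.xor_lt_two_pow (n := 11) ha hb

theorem dp_lt (p q : GolayPt) : dp p q < 2048 := xor11_lt (pairD_lt _) (pairD_lt _)

theorem dp_self (p : GolayPt) : dp p p = 0 := Nat.xor_self _

theorem dp_comm (p q : GolayPt) : dp p q = dp q p := Nat.xor_comm _ _

theorem dp_xor (p q r : GolayPt) : dp p q ^^^ dp p r = dp q r := by
  unfold dp
  rw [Nat.xor_comm (pairD.getD (idx p) 0) (pairD.getD (idx q) 0), Nat.xor_assoc,
    ← Nat.xor_assoc (pairD.getD (idx p) 0), Nat.xor_self, Nat.zero_xor]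

theorem dp_none (p : GolayPt) : dp p none = pairD.getD (idx p) 0 := by
  have : pairD.getD 23 0 = 0 := by decide +kernel
  rw [dp, show idx none = 23 from rfl, this, Nat.xor_zero]

theorem mask_zero : pairMask.testBit 0 = false := by decide +kernel

theorem pairs_mem {i j : ℕ} (h : i < j) (hj : j < 24) : (i, j) ∈ pairs24 :=
  List.mem_flatMap.mpr ⟨j, List.mem_range.mpr hj, List.mem_map.mpr ⟨i, List.mem_range.mpr h, rfl⟩⟩

theorem pairs_lt {a : ℕ × ℕ} (h : a ∈ pairs24) : a.1 < a.2 ∧ a.2 < 24 := by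
  obtain ⟨j, hj, h⟩ := List.mem_flatMap.mp h
  obtain ⟨i, hi, rfl⟩ := List.mem_map.mp h
  exact ⟨List.mem_range.mp hi, List.mem_range.mp hj⟩

theorem pair_of {p q : GolayPt} (h : p ≠ q) : ∃ a ∈ pairs24,
    pairD.getD a.1 0 ^^^ pairD.getD a.2 0 = dp p q ∧
      ((a.1 = idx p ∧ a.2 = idx q) ∨ (a.1 = idx q ∧ a.2 = idx p)) := by
  rcases lt_trichotomy (idx p) (idx q) with hl | he | hl
  · exact ⟨(idx p, idx q), pairs_mem hl (idx_lt q), rfl, Or.inl ⟨rfl, rfl⟩⟩
  · exact absurd (idx_injective he) h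
  · exact ⟨(idx q, idx p), pairs_mem hl (idx_lt p), Nat.xor_comm _ _, Or.inr ⟨rfl, rfl⟩⟩

theorem dp_mem {p q : GolayPt} (h : p ≠ q) : pairMask.testBit (dp p q) = true := by
  obtain ⟨a, ha, e, -⟩ := pair_of h
  rw [← e]; exact List.all_eq_true.mp pairs_ok.2.2.1 a ha

theorem exists_dp {n : ℕ} (hn : n < 2048) (h : pairMask.testBit n = true) : ∃ p q, p ≠ q ∧ n = dp p q := by
  have h1 := List.all_eq_true.mp pairs_ok.2.2.2.1 n (List.mem_range.mpr hn)
  rw [h, cond_true, List.any_eq_true] at h1
  obtain ⟨a, ha, e⟩ := h1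
  have hl := pairs_lt ha
  refine ⟨pt a.1, pt a.2, fun he => ?_, ?_⟩
  · have := pt_injOn (hl.1.trans hl.2) hl.2 he
    omega
  · rw [dp, idx_pt _ (hl.1.trans hl.2), idx_pt _ hl.2]
    exact Nat.eq_of_beq_eq_true e

/-- the sum of two pairs without common point is no pair -/
theorem meet_of_mask {p q r s : GolayPt} (hpq : p ≠ q) (hrs : r ≠ s)
    (h : pairMask.testBit (dp p q ^^^ dp r s) = true) : p = r ∨ p = s ∨ q = r ∨ q = s := by
  by_contra hh
  push Not at hh
  obtain ⟨a, ha, ea, ca⟩ := pair_of hpq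
  obtain ⟨b, hb, eb, cb⟩ := pair_of hrs
  have h1 := List.all_eq_true.mp (List.all_eq_true.mp pairs_ok.2.2.2.2 a ha) b hb
  have hne : ∀ x y : GolayPt, x ≠ y → Nat.beq (idx x) (idx y) = false := fun x y hxy =>
    Bool.eq_false_iff.mpr fun e => hxy (idx_injective (Nat.eq_of_beq_eq_true e))
  have hf : (Nat.beq a.1 b.1 || Nat.beq a.1 b.2 || Nat.beq a.2 b.1 || Nat.beq a.2 b.2) = false := by
    rcases ca with ⟨e1, e2⟩ | ⟨e1, e2⟩ <;> rcases cb with ⟨e3, e4⟩ | ⟨e3, e4⟩ <;> rw [e1, e2, e3, e4] <;>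
      simp [hne _ _ hh.1, hne _ _ hh.2.1, hne _ _ hh.2.2.1, hne _ _ hh.2.2.2]
  rw [hf, cond_false, ea, eb, h] at h1
  exact Bool.false_ne_true h1

theorem dp_inj {p q r s : GolayPt} (hpq : p ≠ q) (h : dp p q = dp r s) :
    (p = r ∧ q = s) ∨ (p = s ∧ q = r) := by
  have hrs : r ≠ s := fun e => by
    have := dp_mem hpq
    rw [h, e, dp_self, mask_zero] at this
    exact Bool.false_ne_true this
  obtain ⟨a, ha, ea, ca⟩ := pair_of hpq
  obtain ⟨b, hb, eb, cb⟩ := pair_of hrs
  obtain rfl : a = b := List.inj_on_of_nodup_map pairs_nodup ha hb (ea.trans (h.trans eb.symm))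
  rcases ca with ⟨e1, e2⟩ | ⟨e1, e2⟩ <;> rcases cb with ⟨e3, e4⟩ | ⟨e3, e4⟩
  · exact Or.inl ⟨idx_injective (e1.symm.trans e3), idx_injective (e2.symm.trans e4)⟩
  · exact Or.inr ⟨idx_injective (e1.symm.trans e3), idx_injective (e2.symm.trans e4)⟩
  · exact Or.inr ⟨idx_injective (e2.symm.trans e4), idx_injective (e1.symm.trans e3)⟩
  · exact Or.inl ⟨idx_injective (e2.symm.trans e4), idx_injective (e1.symm.trans e3)⟩

theorem comb_lt (l : List ℕ) (hl : ∀ d ∈ l, d < 2048) (m : ℕ) : comb l m < 2048 := by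
  induction l generalizing m with
  | nil => norm_num [comb]
  | cons r rs ih =>
    rw [comb]
    refine xor11_lt ?_ (ih (fun d hd => hl d (List.mem_cons_of_mem _ hd)) _)
    split_ifs
    · exact hl r List.mem_cons_self
    · norm_num

theorem sumD_lt (m : ℕ) : sumD pairD m < 2048 :=
  comb_lt _ (fun d hd => Nat.blt_eq.mp (List.all_eq_true.mp pairs_ok.2.1 d hd)) m

/-- a mask by its binary digits -/
def bv (n : ℕ) : ℕ → ZMod 2 := fun k => if n.testBit k then 1 else 0

theorem bv_xor (a b : ℕ) : bv (a ^^^ b) = bv a + bv b := by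
  funext k
  simp only [bv, Pi.add_apply, Nat.testBit_xor]
  rcases a.testBit k <;> rcases b.testBit k <;> decide

theorem bv_zero : bv 0 = 0 := by funext k; simp [bv]

theorem bv_inj {a b : ℕ} (h : bv a = bv b) : a = b := Nat.eq_of_testBit_eq fun k => by
  have := congrFun h k
  simp only [bv] at this
  revert this
  rcases a.testBit k <;> rcases b.testBit k <;> simp

theorem bv_comb (l : List ℕ) (m : ℕ) :
    bv (comb l m) = ∑ i ∈ Finset.range l.length, (if m.testBit i then (1 : ZMod 2) else 0) • bv (l.getD i 0) := by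
  induction l generalizing m with
  | nil => simp [comb, bv_zero]
  | cons r rs ih =>
    rw [comb, bv_xor, ih, List.length_cons, Finset.sum_range_succ', add_comm]
    refine congrArg₂ (· + ·) (Finset.sum_congr rfl fun i _ => ?_) ?_
    · rw [List.getD_cons_succ, Nat.testBit_succ]
    · rw [List.getD_cons_zero, Nat.testBit_zero]
      by_cases hm : m % 2 = 1 <;> simp [hm, bv_zero]

theorem sum_points {M : Type*} [AddCommMonoid M] (F : ℕ → M) :
    ∑ i ∈ Finset.range 24, F i = ∑ p : GolayPt, F (idx p) :=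
  (Finset.sum_bij (fun p _ => idx p) (fun p _ => Finset.mem_range.mpr (idx_lt p))
    (fun _ _ _ _ e => idx_injective e)
    (fun i hi => ⟨pt i, Finset.mem_univ _, idx_pt i (Finset.mem_range.mp hi)⟩) fun _ _ => rfl).symm

theorem bv_sumD (m : ℕ) : bv (sumD pairD m) = ∑ p : GolayPt, wd m p • bv (pairD.getD (idx p) 0) := by
  rw [sumD, bv_comb, pairs_ok.1,
    sum_points fun i => (if m.testBit i then (1 : ZMod 2) else 0) • bv (pairD.getD i 0)]
  rfl

theorem sum_wd (m : ℕ) : ∑ p : GolayPt, wd m p = ((pop 24 m : ℕ) : ZMod 2) := by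
  rw [← card_dec_eq_pop, dec, Finset.natCast_card_filter]
  exact Finset.sum_congr rfl fun p _ => rfl

/-- the code is the kernel of parity and the sum of pairs -/
theorem mem_code_iff {w : GolayPt → ZMod 2} :
    w ∈ golayCode ↔ ∑ p, w p = 0 ∧ ∑ p, w p • bv (pairD.getD (idx p) 0) = 0 := by
  let W : Submodule (ZMod 2) (GolayPt → ZMod 2) :=
    { carrier := {w | ∑ p, w p = 0 ∧ ∑ p, w p • bv (pairD.getD (idx p) 0) = 0}
      zero_mem' := ⟨by simp, by simp⟩
      add_mem' := fun {a b} ha hb => ⟨by simp [Finset.sum_add_distrib, ha.1, hb.1], by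
        simp only [Pi.add_apply, add_smul, Finset.sum_add_distrib, ha.2, hb.2, add_zero]⟩
      smul_mem' := fun c a ha => ⟨by simp [← Finset.mul_sum, ha.1], by
        simp only [Pi.smul_apply, smul_eq_mul, mul_smul, ← Finset.smul_sum, ha.2, smul_zero]⟩ }
  have hrows : ∀ m, inC m = true → wd m ∈ W := by
    intro m hm
    simp only [inC, beq_iff_eq] at hm
    rw [← hm]
    have key : ∀ (l : List ℕ), (∀ r ∈ l, wd r ∈ W) → ∀ i, wd (comb l i) ∈ W := by
      intro l
      induction l with
      | nil => intro _ i; rw [comb, wd_zero]; exact W.zero_mem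
      | cons r rs ih =>
        intro hl i
        rw [comb, wd_xor]
        refine W.add_mem ?_ (ih (fun x hx => hl x (List.mem_cons_of_mem _ hx)) _)
        split_ifs
        · exact hl r List.mem_cons_self
        · rw [wd_zero]; exact W.zero_mem
    refine key rows (fun r hr => ?_) m
    have h := List.all_eq_true.mp code_ok.1 r hr
    rw [Bool.and_eq_true] at h
    refine ⟨?_, ?_⟩
    · rw [sum_wd, ← ZMod.natCast_mod, Nat.eq_of_beq_eq_true h.1, Nat.cast_zero]
    · rw [← bv_sumD, Nat.eq_of_beq_eq_true h.2, bv_zero]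
  constructor
  · intro hw
    obtain ⟨m, -, hc, rfl⟩ := mem_golayCode.mp hw
    exact hrows m hc
  · intro hw
    obtain ⟨m, hm, rfl⟩ := exists_mask_word w
    set c := comb rows (m % 4096) with hc
    have hlt : ∀ i, comb rows i < 2 ^ 24 := by
      intro i
      have key : ∀ l : List ℕ, (∀ r ∈ l, r < 2 ^ 24) → ∀ i, comb l i < 2 ^ 24 := by
        intro l
        induction l with
        | nil => intro _ i; norm_num [comb]
        | cons r rs ih =>
          intro hl i
          rw [comb]
          refine Nat.xor_lt_two_pow ?_ (ih (fun x hx => hl x (List.mem_cons_of_mem _ hx)) _)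
          split_ifs
          · exact hl r List.mem_cons_self
          · norm_num
      exact key rows (by decide +kernel) i
    have hlow := comb_low (m % 4096) (List.mem_range.mpr (Nat.mod_lt _ (by norm_num)))
    rw [← hc] at hlow
    have hcC : inC c = true := inC_iff_mem_codeList.mpr
      (List.mem_map.mpr ⟨m % 4096, List.mem_range.mpr (Nat.mod_lt _ (by norm_num)), hc.symm⟩)
    have hrest : wd (m ^^^ c) ∈ W := by rw [wd_xor]; exact W.add_mem hw (hrows c hcC)
    obtain ⟨t, ht, et⟩ : ∃ t, t < 4096 ∧ m ^^^ c = t * 4096 := by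
      have hx : (m ^^^ c) % 4096 = 0 := by
        rw [show (4096 : ℕ) = 2 ^ 12 by norm_num, Nat.xor_mod_two_pow, show (2 : ℕ) ^ 12 = 4096 by norm_num,
          hlow, Nat.xor_self]
      have hlt' : m ^^^ c < 2 ^ 24 := Nat.xor_lt_two_pow hm (hlt _)
      exact ⟨(m ^^^ c) / 4096, by omega, by omega⟩
    have h := List.all_eq_true.mp code_ok.2 t (List.mem_range.mpr ht)
    obtain ⟨h1, h2⟩ := hrest
    rw [et, sum_wd] at h1
    rw [et, ← bv_sumD, ← bv_zero] at h2
    have h3 := (ZMod.natCast_eq_zero_iff _ _).mp h1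
    rw [show pop 24 (t * 4096) % 2 = 0 by omega, bv_inj h2] at h
    simp only [Nat.beq_refl, Bool.not_true, Bool.or_false, Bool.or_eq_true] at h
    obtain rfl : t = 0 := Nat.eq_of_beq_eq_true h
    rw [Nat.zero_mul] at et
    rw [Nat.xor_eq_zero_iff.mp et]
    exact wd_mem_of_inC hcC

/-- the permutation of the points -/
theorem exists_perm (L : ℕ → ℕ) (hlt : ∀ n < 2048, L n < 2048)
    (hadd : ∀ a < 2048, ∀ b < 2048, L (a ^^^ b) = L a ^^^ L b) (hinj : ∀ a < 2048, ∀ b < 2048, L a = L b → a = b)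
    (hP : ∀ n < 2048, pairMask.testBit n = true → pairMask.testBit (L n) = true) :
    ∃ σ : Equiv.Perm GolayPt, σ ∈ M24 ∧ ∀ p q, L (dp p q) = dp (σ p) (σ q) := by
  classical
  have himg : ∀ p q : GolayPt, p ≠ q → ∃ a b, a ≠ b ∧ L (dp p q) = dp a b := fun p q h =>
    exists_dp (hlt _ (dp_lt p q)) (hP _ (dp_lt p q) (dp_mem h))
  have hsame : ∀ {p q r s : GolayPt}, p ≠ q → L (dp p q) = L (dp r s) → (p = r ∧ q = s) ∨ (p = s ∧ q = r) :=
    fun hpq e => dp_inj hpq (hinj _ (dp_lt _ _) _ (dp_lt _ _) e)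
  have hstar : ∀ p : GolayPt, ∃ a, ∀ q, q ≠ p → ∃ d, d ≠ a ∧ L (dp p q) = dp a d := by
    intro p
    have hmeet : ∀ {q q' a b c d : GolayPt}, q ≠ p → q' ≠ p → q ≠ q' → a ≠ b → c ≠ d → L (dp p q) = dp a b →
        L (dp p q') = dp c d → a = c ∨ a = d ∨ b = c ∨ b = d := by
      intro q q' a b c d _ _ hne hab hcd e e'
      refine meet_of_mask hab hcd ?_
      rw [← e, ← e', ← hadd _ (dp_lt _ _) _ (dp_lt _ _), dp_xor]
      exact hP _ (dp_lt _ _) (dp_mem hne)
    have hbig : 2 < ((Finset.univ : Finset GolayPt).erase p).card := by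
      rw [Finset.card_erase_of_mem (Finset.mem_univ _)]; decide +kernel
    obtain ⟨q1, hq1, q2, hq2, h12⟩ := Finset.one_lt_card.mp (by omega : 1 < ((Finset.univ : Finset GolayPt).erase p).card)
    have hq1p := (Finset.mem_erase.mp hq1).1
    have hq2p := (Finset.mem_erase.mp hq2).1
    obtain ⟨x, y, hxy, e1⟩ := himg p q1 hq1p.symm
    obtain ⟨x', y', hxy', e2⟩ := himg p q2 hq2p.symm
    obtain ⟨a, b, c, hab, hac, f1, f2⟩ : ∃ a b c, a ≠ b ∧ a ≠ c ∧ L (dp p q1) = dp a b ∧ L (dp p q2) = dp a c := by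
      rcases hmeet hq1p hq2p h12 hxy hxy' e1 e2 with rfl | rfl | rfl | rfl
      · exact ⟨x, y, y', hxy, hxy', e1, e2⟩
      · exact ⟨x, y, x', hxy, hxy'.symm, e1, e2.trans (dp_comm _ _)⟩
      · exact ⟨y, x, y', hxy.symm, hxy', e1.trans (dp_comm _ _), e2⟩
      · exact ⟨y, x, x', hxy.symm, hxy'.symm, e1.trans (dp_comm _ _), e2.trans (dp_comm _ _)⟩
    have hbc : b ≠ c := fun e => by
      subst e
      rcases hsame hq1p.symm (f1.trans f2.symm) with ⟨-, h⟩ | ⟨h, -⟩
      · exact h12 h
      · exact hq2p h.symm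
    refine ⟨a, fun q hq => ?_⟩
    by_contra hno
    push Not at hno
    have hq1' : q ≠ q1 := fun e => hno b hab.symm (e ▸ f1)
    have hq2' : q ≠ q2 := fun e => hno c hac.symm (e ▸ f2)
    obtain ⟨u, w, huw, e⟩ := himg p q hq.symm
    have hua : u ≠ a := fun h => hno w (h ▸ huw.symm) (h ▸ e)
    have hwa : w ≠ a := fun h => hno u (h ▸ huw) (h ▸ e.trans (dp_comm _ _))
    have hbe : L (dp p q) = dp b c := by
      rcases hmeet hq hq1p hq1' huw hab e f1 with h | h | h | h <;>
        rcases hmeet hq hq2p hq2' huw hac e f2 with h' | h' | h' | h' <;>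
        first
          | exact absurd h hua
          | exact absurd h hwa
          | exact absurd h' hua
          | exact absurd h' hwa
          | exact absurd (h.symm.trans h') hbc
          | (rw [e, h, h']; done)
          | (rw [e, h, h', dp_comm]; done)
    obtain ⟨q4, hq4, h41, h42, h4q⟩ : ∃ q4, q4 ≠ p ∧ q4 ≠ q1 ∧ q4 ≠ q2 ∧ q4 ≠ q := by
      have hc : ({p, q1, q2, q} : Finset GolayPt).card < (Finset.univ : Finset GolayPt).card :=
        lt_of_le_of_lt Finset.card_le_four (by decide +kernel)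
      obtain ⟨q4, -, h⟩ := Finset.exists_mem_notMem_of_card_lt_card hc
      simp only [Finset.mem_insert, Finset.mem_singleton, not_or] at h
      exact ⟨q4, h.1, h.2.1, h.2.2.1, h.2.2.2⟩
    obtain ⟨u', w', huw', e'⟩ := himg p q4 hq4.symm
    have h1 := hmeet hq4 hq1p h41 huw' hab e' f1
    have h2 := hmeet hq4 hq2p h42 huw' hac e' f2
    have h3 := hmeet hq4 hq h4q huw' hbc e' hbe
    have hcase : dp u' w' = dp a b ∨ dp u' w' = dp a c ∨ dp u' w' = dp b c := by
      by_cases hu : u' = a
      · subst hu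
        rcases h3 with h | h | h | h
        · exact absurd h hab
        · exact absurd h hac
        · exact Or.inl (by rw [h])
        · exact Or.inr (Or.inl (by rw [h]))
      by_cases hw : w' = a
      · subst hw
        rcases h3 with h | h | h | h
        · exact Or.inl (by rw [h]; exact dp_comm _ _)
        · exact Or.inr (Or.inl (by rw [h]; exact dp_comm _ _))
        · exact absurd h hab
        · exact absurd h hac
      have hb' : u' = b ∨ w' = b :=
        h1.elim (absurd · hu) fun h => h.elim Or.inl fun h => h.elim (absurd · hw) Or.inr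
      have hc' : u' = c ∨ w' = c :=
        h2.elim (absurd · hu) fun h => h.elim Or.inl fun h => h.elim (absurd · hw) Or.inr
      rcases hb' with rfl | rfl <;> rcases hc' with h | h
      · exact absurd h hbc
      · exact Or.inr (Or.inr (by rw [h]))
      · exact Or.inr (Or.inr (by rw [h]; exact dp_comm _ _))
      · exact absurd h hbc
    rcases hcase with h | h | h <;> [rw [← e', ← f1] at h; rw [← e', ← f2] at h; rw [← e', ← hbe] at h] <;>
      rcases hsame hq4.symm h with ⟨-, h⟩ | ⟨h, -⟩ <;>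
      first
        | exact h41 h
        | exact h42 h
        | exact h4q h
        | exact hq1p h.symm
        | exact hq2p h.symm
        | exact hq h.symm
  choose f hf using hstar
  have hfinj : Function.Injective f := by
    intro p p' e
    by_contra hne
    choose d hd hde using fun q : {q // q ≠ p} => hf p q q.2
    have hinj' : Function.Injective fun q : {q // q ≠ p} => (⟨d q, hd q⟩ : {x // x ≠ f p}) := fun q q' h => by
      have h' : d q = d q' := congrArg Subtype.val h
      rcases hsame q.2.symm (((hde q).trans (congrArg (dp (f p)) h')).trans (hde q').symm) with ⟨-, h⟩ | ⟨h, -⟩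
      · exact Subtype.ext h
      · exact absurd h q'.2.symm
    have hsurj := (Fintype.bijective_iff_injective_and_card _).mpr ⟨hinj', by simp⟩ |>.2
    obtain ⟨q', hq', hqp⟩ : ∃ q', q' ≠ p' ∧ q' ≠ p := by
      obtain ⟨q', -, h⟩ := Finset.exists_mem_notMem_of_card_lt_card
        (lt_of_le_of_lt Finset.card_le_two (by decide +kernel) : ({p', p} : Finset GolayPt).card < Finset.univ.card)
      simp only [Finset.mem_insert, Finset.mem_singleton, not_or] at h
      exact ⟨q', h.1, h.2⟩
    obtain ⟨d', hd', hde'⟩ := hf p' q' hq'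
    obtain ⟨q, hq⟩ := hsurj ⟨d', e ▸ hd'⟩
    have hdq : d q = d' := congrArg Subtype.val hq
    rcases hsame q.2.symm ((hde q).trans (by rw [hdq, e, hde'])) with ⟨h, -⟩ | ⟨h, -⟩
    · exact hne h
    · exact hqp h.symm
  let σ : Equiv.Perm GolayPt := Equiv.ofBijective f (Finite.injective_iff_bijective.mp hfinj)
  have hσ : ∀ p q, L (dp p q) = dp (σ p) (σ q) := by
    intro p q
    by_cases h : p = q
    · subst h
      have h0 := hadd 0 (by norm_num) 0 (by norm_num)
      rw [Nat.xor_self, Nat.xor_self] at h0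
      rw [dp_self, dp_self, h0]
    obtain ⟨d, hd, e⟩ := hf p q (Ne.symm h)
    obtain ⟨d', hd', e'⟩ := hf q p h
    rw [dp_comm p q] at e
    rcases dp_inj hd'.symm (e'.symm.trans e) with ⟨h1, -⟩ | ⟨h1, -⟩
    · exact absurd (hfinj h1).symm h
    · rw [dp_comm p q, e, ← h1]; rfl
  refine ⟨σ, mem_M24_of_linear fun w hw => ?_, hσ⟩
  obtain ⟨h1, h2⟩ := mem_code_iff.mp hw
  obtain ⟨m, hm, rfl⟩ := exists_mask_word w
  refine mem_code_iff.mpr ⟨(Equiv.sum_comp σ.symm (fun p => wd m p)).trans h1, ?_⟩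
  rw [← Equiv.sum_comp σ fun p => wd m (σ.symm p) • bv (pairD.getD (idx p) 0)]
  simp only [Equiv.symm_apply_apply]
  have hm0 : sumD pairD m = 0 := bv_inj (by rw [bv_sumD, h2, bv_zero])
  have hmap : ∀ (l : List ℕ), (∀ d ∈ l, d < 2048) → ∀ i, comb (l.map L) i = L (comb l i) := by
    intro l
    induction l with
    | nil =>
      intro _ i
      have h0 := hadd 0 (by norm_num) 0 (by norm_num)
      rw [Nat.xor_self, Nat.xor_self] at h0
      show 0 = L 0
      rw [h0]
    | cons r rs ih =>
      intro hl i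
      have hr := hl r List.mem_cons_self
      have hrs : ∀ d ∈ rs, d < 2048 := fun d hd => hl d (List.mem_cons_of_mem _ hd)
      rw [List.map_cons, comb, comb, ih hrs, hadd _ (by split_ifs <;> omega) _ (comb_lt _ hrs _)]
      split_ifs
      · rfl
      · have h0 := hadd 0 (by norm_num) 0 (by norm_num)
        rw [Nat.xor_self, Nat.xor_self] at h0
        rw [h0]
  have hL : ∀ p, L (pairD.getD (idx p) 0) = pairD.getD (idx (σ p)) 0 ^^^ pairD.getD (idx (σ none)) 0 := fun p => by
    rw [← dp_none]; exact hσ p none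
  have key : ∑ p, wd m p • bv (L (pairD.getD (idx p) 0)) = 0 := by
    have e := congrArg bv (hmap pairD (fun d hd => Nat.blt_eq.mp (List.all_eq_true.mp pairs_ok.2.1 d hd)) m)
    rw [show comb pairD m = 0 from hm0] at e
    have h0 := hadd 0 (by norm_num) 0 (by norm_num)
    rw [Nat.xor_self, Nat.xor_self] at h0
    rw [h0, bv_zero, bv_comb, List.length_map, pairs_ok.1,
      sum_points fun i => (if m.testBit i then (1 : ZMod 2) else 0) • bv ((pairD.map L).getD i 0)] at e
    refine (Finset.sum_congr rfl fun p _ => ?_).trans e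
    rw [show (pairD.map L).getD (idx p) 0 = L (pairD.getD (idx p) 0) by
      rw [List.getD_eq_getElem _ _ (by rw [List.length_map, pairs_ok.1]; exact idx_lt p),
        List.getD_eq_getElem _ _ (by rw [pairs_ok.1]; exact idx_lt p), List.getElem_map]]
    rfl
  simp only [hL, bv_xor, smul_add, Finset.sum_add_distrib] at key
  rwa [← Finset.sum_smul, h1, zero_smul, add_zero] at key

/-- the permutation is determined -/
theorem perm_unique {σ τ : Equiv.Perm GolayPt} (h : ∀ p q, dp (σ p) (σ q) = dp (τ p) (τ q)) : σ = τ := by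
  refine Equiv.ext fun p => ?_
  obtain ⟨q, -, hq⟩ := Finset.exists_mem_notMem_of_card_lt_card
    (lt_of_le_of_lt (Finset.card_le_one_iff.mpr fun ha hb => (Finset.mem_singleton.mp ha).trans
      (Finset.mem_singleton.mp hb).symm) (by decide +kernel) : ({p} : Finset GolayPt).card < Finset.univ.card)
  obtain ⟨r, -, hr⟩ := Finset.exists_mem_notMem_of_card_lt_card
    (lt_of_le_of_lt Finset.card_le_two (by decide +kernel) : ({p, q} : Finset GolayPt).card < Finset.univ.card)
  simp only [Finset.mem_insert, Finset.mem_singleton, not_or] at hq hr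
  have hne : ∀ {a b : GolayPt}, a ≠ b → σ a ≠ σ b := fun h e => h (σ.injective e)
  rcases dp_inj (hne (Ne.symm hq)) (h p q) with ⟨h1, -⟩ | ⟨h1, -⟩
  · exact h1
  rcases dp_inj (hne (Ne.symm hr.1)) (h p r) with ⟨h2, -⟩ | ⟨h2, -⟩
  · exact h2
  exact absurd (τ.injective (h1.symm.trans h2)) (Ne.symm hr.2)

/-- the pairs span everything -/
theorem pairs_span : ∀ n < 2048, ∃ t, sumD pairD t = n := by
  have hfold : ∀ (l : List ℕ) (a n : ℕ), (l.foldl (fun a d => a ||| 1 <<< d) a).testBit n = true →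
      a.testBit n = true ∨ n ∈ l := by
    intro l
    induction l with
    | nil => exact fun a n h => Or.inl h
    | cons d l ih =>
      intro a n h
      rcases ih _ _ h with h1 | h1
      · rw [Nat.testBit_or, Bool.or_eq_true, Nat.testBit_shiftLeft, Bool.and_eq_true, decide_eq_true_eq] at h1
        rcases h1 with h1 | ⟨h1, h2⟩
        · exact Or.inl h1
        · refine Or.inr (List.mem_cons.mpr (Or.inl ?_))
          have : n - d = 0 := by
            by_contra hne
            obtain ⟨k, hk⟩ := Nat.exists_eq_succ_of_ne_zero hne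
            rw [hk] at h2
            simp [Nat.testBit_succ] at h2
          omega
      · exact Or.inr (List.mem_cons_of_mem _ h1)
  have hall : (((List.range 4096).map fun t => sumD pairD (t * 4096)).foldl (fun a d => a ||| 1 <<< d) 0) =
      2 ^ 2048 - 1 := by decide +kernel
  intro n hn
  have h := hfold _ 0 n (by rw [hall, Nat.testBit_two_pow_sub_one]; exact decide_eq_true hn)
  rcases h with h | h
  · rw [Nat.zero_testBit] at h; exact absurd h Bool.false_ne_true
  · obtain ⟨t, -, et⟩ := List.mem_map.mp h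
    exact ⟨_, et⟩

/-- a map fixing every pair fixes everything -/
theorem eq_id_of_pairs (L : ℕ → ℕ) (hadd : ∀ a < 2048, ∀ b < 2048, L (a ^^^ b) = L a ^^^ L b)
    (hfix : ∀ p q, L (dp p q) = dp p q) : ∀ n < 2048, L n = n := by
  intro n hn
  obtain ⟨t, rfl⟩ := pairs_span n hn
  have h0 := hadd 0 (by norm_num) 0 (by norm_num)
  rw [Nat.xor_self, Nat.xor_self] at h0
  have key : ∀ (l : List ℕ), (∀ d ∈ l, d < 2048 ∧ L d = d) → ∀ i, L (comb l i) = comb l i := by
    intro l
    induction l with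
    | nil => intro _ i; rw [comb, h0]
    | cons r rs ih =>
      intro hl i
      have hrs : ∀ d ∈ rs, d < 2048 ∧ L d = d := fun d hd => hl d (List.mem_cons_of_mem _ hd)
      have hr := hl r List.mem_cons_self
      rw [comb, hadd _ (by split_ifs <;> omega) _ (comb_lt _ (fun d hd => (hrs d hd).1) _), ih hrs]
      split_ifs
      · rw [hr.2]
      · rw [h0]
  refine key pairD (fun d hd => ⟨Nat.blt_eq.mp (List.all_eq_true.mp pairs_ok.2.1 d hd), ?_⟩) t
  obtain ⟨i, hi, rfl⟩ := List.getElem_of_mem hd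
  have := hfix (pt i) none
  rwa [dp_none, idx_pt i (hi.trans_eq pairs_ok.1), List.getD_eq_getElem _ _ hi] at this

end CfsgLib.LargeFischer
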