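import Cfsg.Agent.Lib.LargeFischer.Checks
import Cfsg.Agent.Lib.USixUFour.Twist
import Cfsg.Agent.Lib.Schur.FamilyAction

/-!
The maps of the tables as elements of the unitary group and as permutations of vectors.
-/

set_option autoImplicit false
set_option maxRecDepth 100000

namespace CfsgLib.LargeFischer

open Matrix
open CfsgLib.HePres (K4)
open CfsgLib.Fi22USix (V6 SU62 el code vec vec_code hval nrm pr mem_pr pr_smul)
open CfsgLib.USixUFour (pV InP mv act stabP coreK)

theorem act_apply (g : SU62) (v : V6) : act g v = mv g v := rfl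

theorem act_inj : Function.Injective act := fun _ _ h => USixUFour.su_ext fun v => Equiv.congr_fun h v

/-- the product is additive in both places -/
theorem hval_add (x y u : V6) : hval (x + y) u = hval x u + hval y u ∧ hval u (x + y) = hval u x + hval u y := by
  constructor
  · simp only [hval, Pi.add_apply]; ring
  · have h2 : (2 : K4) = 0 := K4.two_eq_zero
    simp only [hval, Pi.add_apply]
    linear_combination (u 0 * x 0 * y 0 + u 1 * x 1 * y 1 + u 2 * x 2 * y 2 + u 3 * x 3 * y 3 +
      u 4 * x 4 * y 4 + u 5 * x 5 * y 5) * h2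

theorem hval_smul (a : K4) (x u : V6) :
    hval (a • x) u = a * hval x u ∧ hval x (a • u) = a * a * hval x u := by
  constructor <;> simp only [hval, Pi.smul_apply, smul_eq_mul] <;> ring

theorem bas_sum (v : V6) : ∑ i, v i • bas i = v := by
  funext k
  simp [bas, Finset.sum_apply, Pi.single_apply]

theorem hval_bas : ∀ i j : Fin 6, hval (bas i) (bas j) = if i = j then 1 else 0 := by decide +kernel

/-- a matrix preserving the products of the basis preserves the form -/
theorem hval_of_bas {M : Matrix (Fin 6) (Fin 6) K4}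
    (h : ∀ i j, hval (M *ᵥ bas i) (M *ᵥ bas j) = if i = j then 1 else 0) (u v : V6) :
    hval (M *ᵥ u) (M *ᵥ v) = hval u v := by
  let fL : V6 → V6 →+ K4 := fun y => AddMonoidHom.mk' (fun x => hval x y) fun a b => (hval_add a b y).1
  let fR : V6 → V6 →+ K4 := fun x => AddMonoidHom.mk' (fun y => hval x y) fun a b => (hval_add a b x).2
  have key : ∀ i, hval (M *ᵥ bas i) (M *ᵥ v) = hval (bas i) v := by
    intro i
    conv_lhs => rw [← bas_sum v]
    conv_rhs => rw [← bas_sum v]
    show fR _ (M *ᵥ _) = fR _ _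
    rw [mulVec_sum, map_sum, map_sum]
    refine Finset.sum_congr rfl fun j _ => ?_
    show hval _ (M *ᵥ (v j • bas j)) = hval _ (v j • bas j)
    rw [mulVec_smul, (hval_smul _ _ _).2, (hval_smul _ _ _).2, h, hval_bas]
  conv_lhs => rw [← bas_sum u]
  conv_rhs => rw [← bas_sum u]
  show fL _ (M *ᵥ _) = fL _ _
  rw [mulVec_sum, map_sum, map_sum]
  refine Finset.sum_congr rfl fun i _ => ?_
  show hval (M *ᵥ (u i • bas i)) _ = hval (u i • bas i) _
  rw [mulVec_smul, (hval_smul _ _ _).1, (hval_smul _ _ _).1, key]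

/-- an element of the unitary group from a matrix -/
theorem exists_of_matrix {M : Matrix (Fin 6) (Fin 6) K4} (hform : ∀ u v, hval (M *ᵥ u) (M *ᵥ v) = hval u v)
    (hd : M.det = 1) : ∃ g : SU62, ∀ v, mv g v = M *ᵥ v :=
  ⟨⟨⟨M, hd⟩, fun u v => by rw [Fi22USix.herm_eq, Fi22USix.herm_eq]; exact hform u v⟩, fun _ => rfl⟩

/-- a form preserving matrix keeping the points lies in the stabiliser of the points -/
theorem exists_stab {M : Matrix (Fin 6) (Fin 6) K4} (hform : ∀ u v, hval (M *ᵥ u) (M *ᵥ v) = hval u v)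
    (hP : ∀ v, InP 0 v → InP 0 (M *ᵥ v)) : ∃ g ∈ stabP, ∀ v, mv g v = M *ᵥ v := by
  obtain ⟨g, hg⟩ := exists_of_matrix hform (USixUFour.det_points hform hP)
  exact ⟨g, USixUFour.mem_stabP fun v hv => by rw [hg]; exact hP v hv, hg⟩

/-- the matrix of columns given by codes -/
def linM (cols : List ℕ) : Matrix (Fin 6) (Fin 6) K4 := Matrix.of fun r c => vec (cols.getD c 0) r

theorem linF_eq (cols : List ℕ) (v : V6) : linF cols v = linM cols *ᵥ v := by
  funext r
  simp only [linF, linM, mulVec, dotProduct, Fin.sum_univ_six, Matrix.of_apply]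
  simp only [Fin.val_zero, Fin.val_one, Fin.val_two, show ((3 : Fin 6) : ℕ) = 3 from rfl,
    show ((4 : Fin 6) : ℕ) = 4 from rfl, show ((5 : Fin 6) : ℕ) = 5 from rfl]
  ring

theorem exists_core (cols : List ℕ)
    (h3 : ∀ i, linF cols (linF cols (linF cols (bas i))) = bas i)
    (hform : ∀ i j, hval (linF cols (bas i)) (linF cols (bas j)) = if i = j then 1 else 0)
    (hP : ∀ i : Fin 126, InP 0 (linF cols (pV i))) : ∃ g ∈ coreK, ∀ v, mv g v = linF cols v := by
  simp only [linF_eq] at h3 hform hP ⊢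
  obtain ⟨g, hg, hgv⟩ := exists_stab (hval_of_bas hform) fun v hv => by
    obtain ⟨i, hi, a, ha, rfl⟩ := USixUFour.inP_point hv
    rw [mulVec_smul, USixUFour.inP_smul ha]
    exact hP ⟨i, hi⟩
  refine ⟨g, USixUFour.cube_mem hg (USixUFour.su_ext fun v => ?_), hgv⟩
  rw [pow_succ, pow_two, USixUFour.mv_mul, USixUFour.mv_mul, USixUFour.mv_one, hgv, hgv, hgv]
  conv_lhs => rw [← bas_sum v]
  conv_rhs => rw [← bas_sum v]
  simp only [mulVec_sum, mulVec_smul, h3]

theorem exists_rEl (k : Fin 3) : ∃ g ∈ coreK, ∀ v, mv g v = rF k v :=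
  exists_core _ (rF_ok k).1 (rF_ok k).2.1 (rF_ok k).2.2.2

/-- a generator of the point stabiliser -/
noncomputable def rEl (k : Fin 3) : SU62 := (exists_rEl k).choose

theorem rEl_mem (k : Fin 3) : rEl k ∈ coreK := (exists_rEl k).choose_spec.1

theorem rEl_apply (k : Fin 3) (v : V6) : mv (rEl k) v = rF k v := (exists_rEl k).choose_spec.2 v

theorem exists_xEl (k : Fin 2) : ∃ g ∈ coreK, ∀ v, mv g v = xF k v :=
  exists_core _ (xF_ok k).1 (xF_ok k).2.1 (xF_ok k).2.2.2

/-- a generator of the stabiliser of the off vector -/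
noncomputable def xEl (k : Fin 2) : SU62 := (exists_xEl k).choose

theorem xEl_mem (k : Fin 2) : xEl k ∈ coreK := (exists_xEl k).choose_spec.1

theorem xEl_apply (k : Fin 2) (v : V6) : mv (xEl k) v = xF k v := (exists_xEl k).choose_spec.2 v

theorem oddF_inv : Function.Involutive oddF := fun v => funext fun i => by
  simp [oddF]

theorem k4_conj : ∀ a : K4, a * a * (a * a) = a := by decide +kernel

theorem sigF_inv : Function.Involutive sigF := fun v => funext fun i => k4_conj (v i)

theorem oF_inv (o : Fin 3) : Function.Involutive (oF o) := by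
  fin_cases o
  · exact oddF_inv
  · exact sigF_inv
  · intro v
    show sigF (oddF (sigF (oddF v))) = v
    have hc : ∀ w, oddF (sigF w) = sigF (oddF w) := fun w => rfl
    rw [hc, sigF_inv, oddF_inv]

/-- an outer map as a permutation -/
def oP (o : Fin 3) : Equiv.Perm V6 := (oF_inv o).toPerm _

theorem oP_apply (o : Fin 3) (v : V6) : oP o v = oF o v := rfl

theorem oF_spec (o : Fin 3) (v : V6) : nrm (oF o v) = nrm v ∧ (InP 0 (oF o v) ↔ InP 0 v) := by
  have h := of_decide_eq_true (USixUFour.all_vec oF_all v) o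
  rwa [vec_code] at h

theorem exists_odEl : ∃ g ∈ stabP, ∀ v, mv g v = oddF v := by
  let M : Matrix (Fin 6) (Fin 6) K4 := Matrix.of fun r c => if c = Equiv.swap 0 1 r then 1 else 0
  have hM : ∀ v, M *ᵥ v = oddF v := fun v => funext fun r => by
    simp [M, oddF, mulVec, dotProduct]
  obtain ⟨g, hg, hgv⟩ := exists_stab (M := M)
    (hval_of_bas (M := M) (by simp only [hM]; decide +kernel))
    (fun v hv => by rw [hM]; exact (oF_spec 0 v).2.mpr hv)
  exact ⟨g, hg, fun v => (hgv v).trans (hM v)⟩

/-- the swap in the unitary group -/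
noncomputable def odEl : SU62 := exists_odEl.choose

theorem odEl_mem : odEl ∈ stabP := exists_odEl.choose_spec.1

theorem odEl_apply (v : V6) : mv odEl v = oddF v := exists_odEl.choose_spec.2 v

theorem act_odEl : act odEl = oP 0 := Equiv.ext fun v => odEl_apply v

/-- a family moved by generators gives an action with the tabulated images -/
theorem exists_fam {n m : ℕ} (fam : Fin n → Finset V6) (hinj : Function.Injective fam)
    (gen : Fin m → Equiv.Perm V6) (tab : List (List ℕ)) (h : ∀ k : Fin m, agrees fam (gen k) tab k = true) :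
    ∃ φ : ↥(Subgroup.closure (Set.range gen)) →* Equiv.Perm (Fin n),
      (∀ g i, fam (φ g i) = (fam i).image (fun v => (g : Equiv.Perm V6) v)) ∧
      ∀ (k : Fin m) (i : Fin n),
        (φ ⟨gen k, Subgroup.subset_closure ⟨k, rfl⟩⟩ i : ℕ) = entry tab k i := by
  classical
  have hk : ∀ (k : Fin m) (i : Fin n), ∃ hlt : entry tab k i < n, (fam i).image (gen k) = fam ⟨_, hlt⟩ := by
    intro k i
    have h1 := List.all_eq_true.mp (h k) i (List.mem_finRange i)
    by_cases hlt : entry tab k i < n
    · rw [dif_pos hlt, decide_eq_true_eq] at h1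
      exact ⟨hlt, h1⟩
    · rw [dif_neg hlt] at h1; exact absurd h1 Bool.false_ne_true
  obtain ⟨φ, hφ⟩ := CfsgLib.Schur.exists_familyHom
    (fun (g : ↥(Subgroup.closure (Set.range gen))) (S : Finset V6) => S.image fun v => (g : Equiv.Perm V6) v)
    fam hinj (fun i => by simp)
    (fun g g' i => by rw [Finset.image_image]; exact Finset.image_congr fun v _ => rfl)
    (Subgroup.closure_closure_coe_preimage (k := Set.range gen)) (by
      rintro ⟨s, _⟩ ⟨k, rfl⟩ i
      obtain ⟨hlt, e⟩ := hk k i
      exact ⟨_, e⟩)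
  refine ⟨φ, hφ, fun k i => ?_⟩
  obtain ⟨hlt, e⟩ := hk k i
  exact congrArg Fin.val (hinj ((hφ _ i).trans e) : φ _ i = ⟨_, hlt⟩)

theorem fam45_inj : Function.Injective fam45 := fun i j h =>
  fam_disjoint i j (h ▸ mem_pr.2 ⟨1, one_ne_zero, (one_smul _ _).symm⟩)

theorem fam15_inj : Function.Injective fam15 := fun i j h =>
  fam_disjoint' i j (h ▸ Finset.mem_union_left _ (mem_pr.2 ⟨1, one_ne_zero, (one_smul _ _).symm⟩))

theorem fam126_inj : Function.Injective fam126 := USixUFour.pr_pV_inj

theorem exists_six : ∃ ι : Equiv.Perm (Fin 6) →* Equiv.Perm (Fin 15),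
    Function.Injective ι ∧ ∀ σ i, pairF (ι σ i) = (pairF i).image σ := by
  classical
  obtain ⟨ι, hι⟩ := CfsgLib.Schur.exists_familyHom
    (fun (σ : Equiv.Perm (Fin 6)) (S : Finset (Fin 6)) => S.image σ) pairF (fun i j h => pair_inj i j h)
    (fun i => by simp)
    (fun g g' i => by rw [Finset.image_image]; exact Finset.image_congr fun v _ => rfl)
    (S := Set.univ) Subgroup.closure_univ (fun σ _ i => by
      have hne : ∀ i : Fin 15, ∃ a b : Fin 6, a ≠ b ∧ pairF i = {a, b} := by decide +kernel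
      obtain ⟨a, b, hab, e⟩ := hne i
      obtain ⟨j, hj⟩ := pair_all (σ a) (σ b) fun h => hab (σ.injective h)
      exact ⟨j, by rw [hj, e]; simp [Finset.image_insert]⟩)
  refine ⟨ι, (injective_iff_map_eq_one ι).mpr fun σ hσ => Equiv.ext fun a => ?_, hι⟩
  obtain ⟨i, j, hij⟩ := pair_sep a
  have hi := hι σ i
  have hj := hι σ j
  rw [hσ, Equiv.Perm.one_apply] at hi hj
  have h1 : (pairF i ∩ pairF j).image σ = pairF i ∩ pairF j := by
    rw [Finset.image_inter _ _ σ.injective, ← hi, ← hj]
  rw [hij, Finset.image_singleton, Finset.singleton_inj] at h1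
  exact h1

end CfsgLib.LargeFischer
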