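import Cfsg.Agent.Lib.LargeFischer.Pre

/-!
An element of order three of the middle layer rotates the coordinates without fixed points.
-/

set_option autoImplicit false
set_option linter.style.haveILetI false

namespace CfsgLib.LargeFischer

open CfsgLib.Extraspecial

variable {G : Type*} [Group G] [Finite G] {z : G} {K : Type} [Field K] [Fintype K]

/-- the layers above the extraspecial group -/
structure Layers (Q : Subgroup (CZ z)) (N M : Subgroup (CZ z)) (π : M →* Cfsg.PSU 4 K 3) : Prop where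
  nN : N.Normal
  nM : M.Normal
  hK : Fintype.card K = 9
  leN : Q ≤ N
  leM : N ≤ M
  cardN : Nat.card N = 3 * Nat.card Q
  surj : Function.Surjective π
  ker : π.ker = N.subgroupOf M
  index : M.index = 2

variable {Q N M : Subgroup (CZ z)} {π : M →* Cfsg.PSU 4 K 3}

/-- a subgroup of the top layer with the middle one and the commutators is everything -/
theorem Layers.eq_top (l : Layers Q N M π) {C : Subgroup M} (h1 : N.subgroupOf M ≤ C)
    (h2 : commutator M ≤ C) : C = ⊤ := by
  have hc : (⊤ : Subgroup _) ≤ C.map π := by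
    refine le_trans ?_ (Subgroup.map_mono h2)
    rw [commutator_def, Subgroup.map_commutator, Subgroup.map_top_of_surjective _ l.surj, ← commutator_def,
      psu_perfect l.hK]
  have h := Subgroup.comap_map_eq π C
  rw [top_le_iff.mp hc, Subgroup.comap_top, l.ker, sup_eq_left.mpr h1] at h
  exact h.symm

theorem Layers.axis (l : Layers Q N M π) (hQ : Nat.card Q = 2 ^ 13) :
    ∃ x ∈ N, x ∉ Q ∧ x ^ 3 = 1 ∧ ∀ n ∈ N, ∃ i : Fin 3, ∃ q ∈ Q, n = x ^ (i : ℕ) * q := by
  haveI := Fact.mk Nat.prime_three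
  have h3 : (3 : ℕ) ∣ Nat.card N := by rw [l.cardN]; exact dvd_mul_right _ _
  obtain ⟨⟨x, hx⟩, ho⟩ := exists_prime_orderOf_dvd_card' (G := N) 3 h3
  rw [Subgroup.orderOf_mk] at ho
  have hxQ : x ∉ Q := fun h => by
    have h1 : orderOf (⟨x, h⟩ : Q) ∣ Nat.card Q := orderOf_dvd_natCard _
    rw [Subgroup.orderOf_mk, ho, hQ] at h1
    norm_num at h1
  have hx3 : x ^ 3 = 1 := by rw [← ho]; exact pow_orderOf_eq_one x
  refine ⟨x, hx, hxQ, hx3, ?_⟩
  let f : Fin 3 × Q → N := fun p => ⟨x ^ (p.1 : ℕ) * p.2, mul_mem (pow_mem hx _) (l.leN p.2.2)⟩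
  have hf : Function.Injective f := by
    rintro ⟨i, a⟩ ⟨j, b⟩ e
    have e' : x ^ (i : ℕ) * (a : CZ z) = x ^ (j : ℕ) * b := congrArg Subtype.val e
    have hq : (x ^ (j : ℕ))⁻¹ * x ^ (i : ℕ) ∈ Q := by
      rw [show (x ^ (j : ℕ))⁻¹ * x ^ (i : ℕ) = (b : CZ z) * (a : CZ z)⁻¹ by
        rw [eq_mul_inv_iff_mul_eq, mul_assoc, e', inv_mul_cancel_left]]
      exact mul_mem b.2 (inv_mem a.2)
    have hij : i = j := by
      have hx2 : x * x ∉ Q := fun h => hxQ (by
        have h4 := mul_mem h h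
        rwa [show x * x * (x * x) = x from by
          rw [← mul_assoc, ← pow_two, ← pow_succ, ← pow_succ, pow_succ, hx3, one_mul]] at h4)
      fin_cases i <;> fin_cases j <;> first
        | rfl
        | (exfalso; simp [pow_two] at hq; first | exact hxQ hq | exact hx2 hq |
            (have h4 := inv_mem hq; simp at h4; first | exact hxQ h4 | exact hx2 h4))
    subst hij
    rw [Subtype.ext (mul_left_cancel e')]
  have hb : Function.Bijective f := by
    refine (Nat.bijective_iff_injective_and_card f).mpr ⟨hf, ?_⟩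
    rw [Nat.card_prod, Nat.card_fin, l.cardN]
  intro n hn
  obtain ⟨⟨i, q⟩, e⟩ := hb.2 ⟨n, hn⟩
  exact ⟨i, q, q.2, (congrArg Subtype.val e).symm⟩

theorem restrict_hom {Γ V : Type*} [Group Γ] [AddCommGroup V] [Module (ZMod 2) V]
    (f : Γ →* (V ≃ₗ[ZMod 2] V)) (W : Submodule (ZMod 2) V) (h : ∀ g, ∀ w ∈ W, f g w ∈ W) :
    ∃ r : Γ →* (W ≃ₗ[ZMod 2] W), ∀ g w, (r g w : V) = f g w := by
  let e : Γ → (W ≃ₗ[ZMod 2] W) := fun g =>
    { toFun := fun w => ⟨f g w, h g w w.2⟩
      map_add' := fun a b => Subtype.ext (map_add (f g) _ _)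
      map_smul' := fun c a => Subtype.ext (map_smul (f g) c _)
      invFun := fun w => ⟨f g⁻¹ w, h g⁻¹ w w.2⟩
      left_inv := fun w => Subtype.ext (by
        show f g⁻¹ (f g w) = _
        rw [← LinearEquiv.mul_apply, ← map_mul, inv_mul_cancel, map_one, LinearEquiv.one_eq_refl,
          LinearEquiv.refl_apply])
      right_inv := fun w => Subtype.ext (by
        show f g (f g⁻¹ w) = _
        rw [← LinearEquiv.mul_apply, ← map_mul, mul_inv_cancel, map_one, LinearEquiv.one_eq_refl,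
          LinearEquiv.refl_apply]) }
  refine ⟨MonoidHom.mk' e fun a b => LinearEquiv.ext fun w => Subtype.ext ?_, fun g w => rfl⟩
  show f (a * b) w = f a (f b w)
  rw [map_mul, LinearEquiv.mul_apply]

theorem two_self {V : Type*} [AddCommGroup V] [Module (ZMod 2) V] (v : V) : v + v = 0 := by
  rw [← two_smul (ZMod 2) v, show (2 : ZMod 2) = 0 from rfl, zero_smul]

/-- maps sending an element of order three to itself or its inverse have commutators fixing it -/
theorem comm_fix {A : Type*} [Group A] {a b l : A} (h3 : l * l * l = 1)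
    (ha : a * l * a⁻¹ = l ∨ a * l * a⁻¹ = l * l) (hb : b * l * b⁻¹ = l ∨ b * l * b⁻¹ = l * l) :
    a * b * a⁻¹ * b⁻¹ * l * (a * b * a⁻¹ * b⁻¹)⁻¹ = l := by
  have hsq : l * l * (l * l) = l := by rw [← mul_assoc, h3, one_mul]
  have tw : ∀ c : A, c * (l * l) * c⁻¹ = c * l * c⁻¹ * (c * l * c⁻¹) := fun c => by group
  have e : a * (b * l * b⁻¹) * a⁻¹ = b * (a * l * a⁻¹) * b⁻¹ := by
    rcases ha with ha | ha <;> rcases hb with hb | hb <;> simp only [ha, hb, tw, hsq]
  set c := a * b * a⁻¹ * b⁻¹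
  have hc : c * (b * (a * l * a⁻¹) * b⁻¹) * c⁻¹ = b * (a * l * a⁻¹) * b⁻¹ := by
    conv_rhs => rw [← e]
    simp only [c]; group
  have hd : b * (a * l * a⁻¹) * b⁻¹ = l ∨ b * (a * l * a⁻¹) * b⁻¹ = l * l := by
    rcases ha with ha | ha <;> rcases hb with hb | hb <;> simp only [ha, hb, tw, hsq, true_or, or_true]
  rcases hd with hd | hd <;> rw [hd] at hc
  · exact hc
  · calc c * l * c⁻¹ = c * (l * l * (l * l)) * c⁻¹ := by rw [hsq]
      _ = c * (l * l) * c⁻¹ * (c * (l * l) * c⁻¹) := by group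
      _ = _ := by rw [hc, hsq]

/-- a fixed point free map of order three moves every nonzero vector in threes -/
theorem card_mod_three {W : Type*} [AddCommGroup W] [Finite W] (p : Equiv.Perm W) (h3 : p ^ 3 = 1)
    (h0 : ∀ w, p w = w ↔ w = 0) : Nat.card W % 3 = 1 := by
  classical
  haveI := Fintype.ofFinite W
  haveI := Fact.mk Nat.prime_three
  have h := Equiv.Perm.card_compl_support_modEq (p := 3) (n := 1) (σ := p) (by rw [pow_one]; exact h3)
  have hs : p.supportᶜ = {0} := by
    ext w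
    simp [Equiv.Perm.mem_support, h0]
  rw [hs, Finset.card_singleton] at h
  rw [Nat.card_eq_fintype_card]
  exact h.symm

theorem fix_free {Q : Subgroup (CZ z)} [Q.Normal] {N M : Subgroup (CZ z)} {π : M →* Cfsg.PSU 4 K 3}
    (l : Layers Q N M π) {e : Fin 6 → ZMod 2} {u : CZ z → Coord 6} {σ : CZ z →* isoGrp e}
    (P : Pre z Q e u σ) :
    ∃ x ∈ N, x ∉ Q ∧ x ^ 3 = 1 ∧ (∀ n ∈ N, ∃ i : Fin 3, ∃ q ∈ Q, n = x ^ (i : ℕ) * q) ∧
      (∀ v, (σ x).1 ((σ x).1 v) = v + (σ x).1 v) ∧ ∀ m ∈ M, σ m * σ x = σ x * σ m := by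
  classical
  have hQ : Nat.card Q = 2 ^ 13 :=
    (Subgroup.card_map_of_injective (Subgroup.subtype_injective (CZ z))).symm.trans P.card
  obtain ⟨x, hx, hxQ, hx3, hN⟩ := l.axis hQ
  haveI := l.nN
  -- the middle layer acts through the powers
  have hσN : ∀ n ∈ N, σ n = 1 ∨ σ n = σ x ∨ σ n = σ x * σ x := by
    intro n hn
    obtain ⟨i, q, hq, rfl⟩ := hN n hn
    rw [map_mul, (P.ker q).mpr hq, mul_one, map_pow]
    fin_cases i
    · exact Or.inl (pow_zero _)
    · exact Or.inr (Or.inl (pow_one _))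
    · exact Or.inr (Or.inr (pow_two _))
  have hL3 : σ x * σ x * σ x = 1 := by rw [← map_mul, ← map_mul, ← pow_two, ← pow_succ, hx3, map_one]
  have hLne : σ x ≠ 1 := fun h => hxQ ((P.ker x).mp h)
  have hconj : ∀ m : M, σ m * σ x * (σ m)⁻¹ = σ x ∨ σ m * σ x * (σ m)⁻¹ = σ x * σ x := by
    intro m
    rcases hσN _ (l.nN.conj_mem x hx m) with h | h | h
    · refine absurd ?_ hLne
      rw [map_mul, map_mul, map_inv] at h
      exact conj_eq_one_iff.mp h
    all_goals rw [map_mul, map_mul, map_inv] at h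
    · exact Or.inl h
    · exact Or.inr h
  let C : Subgroup M :=
    { carrier := {m | σ m * σ x * (σ m)⁻¹ = σ x}
      one_mem' := by simp
      mul_mem' := fun {a b} ha hb => by
        simp only [Set.mem_setOf_eq, Subgroup.coe_mul, map_mul, mul_inv_rev] at *
        calc _ = σ a * (σ b * σ x * (σ b)⁻¹) * (σ a)⁻¹ := by group
          _ = _ := by rw [hb, ha]
      inv_mem' := fun {a} ha => by
        simp only [Set.mem_setOf_eq, InvMemClass.coe_inv, map_inv, inv_inv] at *
        conv_lhs => rw [← ha]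
        group }
  have hC : C = ⊤ := by
    refine l.eq_top ?_ ?_
    · intro m hm
      show σ m * σ x * (σ m)⁻¹ = σ x
      have hm' : (m : CZ z) ∈ N := hm
      rcases hσN _ hm' with h | h | h <;> rw [h] <;> group
    · rw [commutator_def, Subgroup.commutator_le]
      intro a _ b _
      show σ ((a * b * a⁻¹ * b⁻¹ : M) : CZ z) * σ x * (σ ((a * b * a⁻¹ * b⁻¹ : M) : CZ z))⁻¹ = σ x
      simp only [Subgroup.coe_mul, InvMemClass.coe_inv, map_mul, map_inv]
      exact comm_fix hL3 (hconj a) (hconj b)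
  have hcomm : ∀ m ∈ M, σ m * σ x = σ x * σ m := fun m hm => by
    have h : σ m * σ x * (σ m)⁻¹ = σ x := (hC ▸ Subgroup.mem_top (⟨m, hm⟩ : M) : (⟨m, hm⟩ : M) ∈ C)
    exact mul_inv_eq_iff_eq_mul.mp h
  refine ⟨x, hx, hxQ, hx3, hN, ?_, hcomm⟩
  let L : Coord 6 ≃ₗ[ZMod 2] Coord 6 := (σ x).1
  have hL : ∀ v, L (L (L v)) = v := fun v =>
    LinearEquiv.congr_fun (congrArg Subtype.val hL3) v
  have hLm : ∀ m ∈ M, ∀ v, (σ m).1 (L v) = L ((σ m).1 v) := fun m hm v =>
    LinearEquiv.congr_fun (congrArg Subtype.val (hcomm m hm)) v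
  let p : Coord 6 →ₗ[ZMod 2] Coord 6 := LinearMap.id + L.toLinearMap + L.toLinearMap.comp L.toLinearMap
  let d : Coord 6 →ₗ[ZMod 2] Coord 6 := LinearMap.id + L.toLinearMap
  have hp : ∀ v, p v = v + L v + L (L v) := fun _ => rfl
  have hd : ∀ v, d v = v + L v := fun _ => rfl
  by_contra hne
  push Not at hne
  obtain ⟨v0, hv0⟩ := hne
  let W0 := LinearMap.ker d
  let W1 := LinearMap.ker p
  have hW0 : ∀ v, v ∈ W0 ↔ L v = v := fun v => by
    rw [LinearMap.mem_ker, hd]
    constructor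
    · intro h
      calc L v = v + (v + L v) := by rw [← add_assoc, two_self, zero_add]
        _ = v := by rw [h, add_zero]
    · intro h; rw [h, two_self]
  have hpm : ∀ v, p v ∈ W0 := fun v => by
    rw [hW0, hp, map_add, map_add, hL]; abel
  have hqm : ∀ v, v + p v ∈ W1 := fun v => by
    rw [LinearMap.mem_ker, map_add, hp (p v), (hW0 _).mp (hpm v), (hW0 _).mp (hpm v)]
    rw [show p v + (p v + p v + p v) = (p v + p v) + (p v + p v) by abel, two_self]
  let j : W0 × W1 → Coord 6 := fun w => (w.1 : Coord 6) + w.2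
  have hj : Function.Bijective j := by
    refine ⟨?_, fun v => ⟨(⟨p v, hpm v⟩, ⟨_, hqm v⟩), ?_⟩⟩
    · have hpj : ∀ w : W0 × W1, p (j w) = w.1 := fun w => by
        show p (_ + _) = _
        rw [map_add, LinearMap.mem_ker.mp w.2.2, add_zero, hp, (hW0 _).mp w.1.2, (hW0 _).mp w.1.2, two_self,
          zero_add]
      rintro ⟨a, b⟩ ⟨a', b'⟩ h
      have ha : a = a' := Subtype.ext (by simpa [hpj] using congrArg p h)
      subst ha
      obtain rfl : b = b' := Subtype.ext (add_left_cancel h)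
      rfl
    · show p v + (v + p v) = v
      rw [add_comm v, ← add_assoc, two_self, zero_add]
  have hcard : Nat.card W0 * Nat.card W1 = 4096 := by
    rw [← Nat.card_prod, Nat.card_congr (Equiv.ofBijective j hj)]
    simp [Nat.card_eq_fintype_card]
  have h0 : 2 ≤ Nat.card W0 := by
    haveI : Nontrivial W0 := ⟨⟨⟨p v0, hpm v0⟩, 0, fun h => hv0 ?_⟩⟩
    · exact Finite.one_lt_card
    · have h1 : v0 + L v0 + L (L v0) = 0 := congrArg Subtype.val h
      calc L (L v0) = (v0 + L v0 + L (L v0)) + (v0 + L v0) := by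
            rw [show v0 + L v0 + L (L v0) + (v0 + L v0) = (v0 + L v0) + (v0 + L v0) + L (L v0) by abel,
              two_self, zero_add]
        _ = _ := by rw [h1, zero_add]
  have h1 : Nat.card W1 % 3 = 1 := by
    have hmem : ∀ w ∈ W1, L w ∈ W1 := fun w hw => by
      rw [LinearMap.mem_ker, hp] at hw ⊢
      rw [← map_add, ← map_add, hw, map_zero]
    let q : Equiv.Perm W1 :=
      { toFun := fun w => ⟨L w, hmem _ w.2⟩
        invFun := fun w => ⟨L (L w), hmem _ (hmem _ w.2)⟩
        left_inv := fun w => Subtype.ext (hL _)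
        right_inv := fun w => Subtype.ext (hL _) }
    refine card_mod_three q (Equiv.ext fun w => Subtype.ext ?_) fun w => ⟨fun h => Subtype.ext ?_, fun h => ?_⟩
    · rw [pow_succ, pow_two]; exact hL _
    · have h1 : L (w : Coord 6) = w := congrArg Subtype.val h
      have h2 := LinearMap.mem_ker.mp w.2
      rw [hp, h1, h1, two_self, zero_add] at h2
      exact h2
    · subst h; exact Subtype.ext (map_zero L)
  have h2 : Nat.card W1 ≠ 1 := by
    intro h
    haveI := (Nat.card_eq_one_iff_unique.mp h).1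
    refine hLne (Subtype.ext (LinearEquiv.ext fun v => ?_))
    have : (⟨v + p v, hqm v⟩ : W1) = 0 := Subsingleton.elim _ _
    have h3 : v + p v = 0 := congrArg Subtype.val this
    have h4 : v = p v := by
      calc v = v + p v + p v := by rw [add_assoc, two_self, add_zero]
        _ = _ := by rw [h3, zero_add]
    show L v = v
    rw [h4, (hW0 _).mp (hpm v)]
  have hle : Nat.card W0 ≤ 1024 ∧ Nat.card W1 ≤ 1024 := by
    obtain ⟨k, hk, ek⟩ := (Nat.dvd_prime_pow Nat.prime_two).mp
      (show Nat.card W1 ∣ 2 ^ 12 from ⟨Nat.card W0, by rw [mul_comm, hcard]; norm_num⟩)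
    rw [ek] at h1 h2 hcard ⊢
    interval_cases k <;> omega
  haveI := l.nM
  haveI : (Q.subgroupOf M).Normal := inferInstance
  let s : M →* (Coord 6 ≃ₗ[ZMod 2] Coord 6) := (isoGrp e).subtype.comp (σ.comp M.subtype)
  have hsk : ∀ m : M, s m = 1 ↔ (m : CZ z) ∈ Q := fun m => by
    rw [← P.ker]
    exact ⟨fun h => Subtype.ext h, fun h => congrArg Subtype.val h⟩
  let f := QuotientGroup.lift (Q.subgroupOf M) s fun m hm => (hsk m).mpr hm
  let π' := QuotientGroup.lift (Q.subgroupOf M) π fun m hm => l.ker.ge (l.leN hm)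
  have hs' : Function.Surjective π' := fun y => by
    obtain ⟨m, rfl⟩ := l.surj y
    exact ⟨QuotientGroup.mk m, rfl⟩
  haveI : Finite (Cfsg.PSU 4 K 3) := Finite.of_surjective π l.surj
  have hM : Nat.card M = Nat.card N * Nat.card (Cfsg.PSU 4 K 3) := by
    rw [Subgroup.card_eq_card_quotient_mul_card_subgroup π.ker,
      Nat.card_congr (QuotientGroup.quotientKerEquivOfSurjective π l.surj).toEquiv, l.ker,
      Nat.card_congr (Subgroup.subgroupOfEquivOfLe l.leM).toEquiv, mul_comm]
  have hk3 : Nat.card π'.ker = 3 := by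
    have a := Subgroup.card_eq_card_quotient_mul_card_subgroup π'.ker
    rw [Nat.card_congr (QuotientGroup.quotientKerEquivOfSurjective π' hs').toEquiv] at a
    have b := Subgroup.card_eq_card_quotient_mul_card_subgroup (Q.subgroupOf M)
    rw [Nat.card_congr (Subgroup.subgroupOfEquivOfLe (l.leN.trans l.leM)).toEquiv, a, hM, l.cardN] at b
    have hpos : 0 < Nat.card (Cfsg.PSU 4 K 3) * Nat.card Q := Nat.mul_pos Nat.card_pos Nat.card_pos
    nlinarith
  have hkeep : ∀ (W : Submodule (ZMod 2) (Coord 6)) (q : Coord 6 →ₗ[ZMod 2] Coord 6),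
      W = LinearMap.ker q → (∀ m : M, ∀ v, q (s m v) = s m (q v)) → ∀ g, ∀ w ∈ W, f g w ∈ W := by
    intro W q hW hq g w hw
    induction g using QuotientGroup.induction_on with
    | H m =>
      rw [hW, LinearMap.mem_ker] at hw ⊢
      show q (s m w) = 0
      rw [hq, hw, map_zero]
  obtain ⟨r0, hr0⟩ := restrict_hom f W0 (hkeep W0 d rfl fun m v => by
    show d ((σ m).1 v) = (σ m).1 (d v)
    rw [hd, hd, map_add, hLm m m.2])
  obtain ⟨r1, hr1⟩ := restrict_hom f W1 (hkeep W1 p rfl fun m v => by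
    show p ((σ m).1 v) = (σ m).1 (p v)
    rw [hp, hp, map_add, map_add, hLm m m.2, hLm m m.2, hLm m m.2])
  have k0 := small_hom l.hK π' hs' hk3 hle.1 r0
  have k1 := small_hom l.hK π' hs' hk3 hle.2 r1
  have htriv : ∀ g ∈ commutator (↥M ⧸ Q.subgroupOf M), g = 1 := by
    intro g hg
    have hfg : ∀ v, f g v = v := fun v => by
      obtain ⟨⟨a, b⟩, rfl⟩ := hj.2 v
      show f g ((a : Coord 6) + b) = _
      rw [map_add, ← hr0, ← hr1, MonoidHom.mem_ker.mp (k0 hg), MonoidHom.mem_ker.mp (k1 hg)]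
      rfl
    induction g using QuotientGroup.induction_on with
    | H m => exact (QuotientGroup.eq_one_iff m).mpr ((hsk m).mp (LinearEquiv.ext hfg))
  have hb : commutator (↥M ⧸ Q.subgroupOf M) = ⊥ := (Subgroup.eq_bot_iff_forall _).mpr htriv
  have hperf := psu_perfect l.hK
  rw [commutator_def, ← Subgroup.map_top_of_surjective π' hs', ← Subgroup.map_commutator, ← commutator_def, hb,
    Subgroup.map_bot, Subgroup.map_top_of_surjective π' hs'] at hperf
  obtain ⟨hsim, -⟩ := psu_simple l.hK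
  haveI := hsim
  exact bot_ne_top hperf

end CfsgLib.LargeFischer
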