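import Mathlib

/-!
A lower bound for a permutation group from tables of generators, a program and a chain of orbits.
-/

set_option autoImplicit false

namespace CfsgLib.LargeFischer

/-- an entry of a table of permutations -/
def entry (tab : List (List ℕ)) (k i : ℕ) : ℕ := (tab.getD k []).getD i 0

/-- a level: base, generators, edges with their new points -/
abbrev Lev : Type := ℕ × List ℕ × List (ℕ × ℕ × ℕ)

/-- the generators of a list of levels -/
def allGens (ls : List Lev) : List ℕ := ls.flatMap fun l => l.2.1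

/-- the points of a level -/
def levPts (l : Lev) : List ℕ := l.1 :: l.2.2.map fun e => e.2.2

/-- the product of the orbit lengths -/
def chainProd : List Lev → ℕ
  | [] => 1
  | l :: ls => (levPts l).length * chainProd ls

/-- one edge -/
def edgeOK (n : ℕ) (tab : List (List ℕ)) (l : Lev) (i : ℕ) : Bool :=
  let e := l.2.2.getD i (0, 0, 0)
  decide (e.1 ≤ i) && decide (e.2.1 ∈ l.2.1) && decide (e.2.2 < n) &&
    decide (entry tab e.2.1 ((levPts l).getD e.1 0) = e.2.2)

/-- the check of a chain -/
def chainOK (n : ℕ) (tab : List (List ℕ)) : List Lev → Bool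
  | [] => true
  | l :: ls =>
    decide (l.1 < n) && (l.2.1.all fun k => decide (k < tab.length)) &&
      (List.range l.2.2.length).all (edgeOK n tab l) && decide (levPts l).Nodup &&
      ((allGens ls).all fun k => decide (entry tab k l.1 = l.1)) && chainOK n tab ls

/-- one line of a program -/
def progAt (n m : ℕ) (tab : List (List ℕ)) (prog : List (ℕ × ℕ)) (i : ℕ) : Bool :=
  let p := prog.getD i (0, 0)
  decide (p.1 < m + i) && decide (p.2 < m + i) &&
    (List.range n).all fun x => decide (entry tab (m + i) x = entry tab p.1 (entry tab p.2 x))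

/-- the check of everything -/
def tabOK (n m : ℕ) (tab : List (List ℕ)) (prog : List (ℕ × ℕ)) (ls : List Lev) : Bool :=
  decide (tab.length = m + prog.length) && (List.range prog.length).all (progAt n m tab prog) &&
    chainOK n tab ls

variable {n : ℕ}

theorem allGens_lt {tab : List (List ℕ)} : ∀ {ls : List Lev}, chainOK n tab ls = true →
    ∀ k ∈ allGens ls, k < tab.length
  | [], _, k, hk => by simp [allGens] at hk
  | l :: ls, h, k, hk => by
    simp only [chainOK, Bool.and_eq_true, List.all_eq_true, decide_eq_true_eq] at h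
    rw [allGens, List.flatMap_cons, List.mem_append] at hk
    rcases hk with hk | hk
    · exact h.1.1.1.1.2 k hk
    · exact allGens_lt h.2 k hk

/-- the listed points of a level are reached -/
theorem level_orbit (tab : List (List ℕ)) (g : ℕ → Equiv.Perm (Fin n)) (l : Lev)
    (hg : ∀ k ∈ l.2.1, ∀ i : Fin n, (g k i : ℕ) = entry tab k i) (b : Fin n) (hb : (b : ℕ) = l.1)
    (hedge : ∀ i < l.2.2.length, edgeOK n tab l i = true)
    (A : Subgroup (Equiv.Perm (Fin n))) (hA : ∀ k ∈ l.2.1, g k ∈ A) :
    ∀ i < (levPts l).length, ∃ a ∈ A, ((a b : Fin n) : ℕ) = (levPts l).getD i 0 := by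
  intro i
  induction i using Nat.strong_induction_on with
  | _ i ih =>
    intro hi
    cases i with
    | zero => exact ⟨1, one_mem A, by simp [levPts, hb]⟩
    | succ i =>
      have hi' : i < l.2.2.length := by simpa [levPts] using hi
      have he := hedge i hi'
      simp only [edgeOK, Bool.and_eq_true, decide_eq_true_eq] at he
      obtain ⟨⟨⟨he1, he2⟩, -⟩, he4⟩ := he
      obtain ⟨a, ha, hab⟩ := ih _ (Nat.lt_succ_of_le he1) (lt_of_le_of_lt he1 (Nat.lt_of_succ_lt hi))
      refine ⟨g _ * a, mul_mem (hA _ he2) ha, ?_⟩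
      rw [Equiv.Perm.mul_apply, hg _ he2, hab, he4]
      simp [levPts, hi']

theorem chain_card (tab : List (List ℕ)) (g : ℕ → Equiv.Perm (Fin n))
    (hg : ∀ k < tab.length, ∀ i : Fin n, (g k i : ℕ) = entry tab k i) : ∀ (ls : List Lev),
    chainOK n tab ls = true → ∀ A : Subgroup (Equiv.Perm (Fin n)), (∀ k ∈ allGens ls, g k ∈ A) →
      chainProd ls ≤ Nat.card A
  | [], _, A, _ => Nat.one_le_iff_ne_zero.mpr Nat.card_pos.ne'
  | l :: ls, h, A, hA => by
    classical
    have hlt := allGens_lt h
    simp only [chainOK, Bool.and_eq_true, List.all_eq_true, decide_eq_true_eq, List.mem_range] at h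
    obtain ⟨⟨⟨⟨⟨hb, -⟩, hedge⟩, hnd⟩, hfix⟩, hok⟩ := h
    have hl : ∀ k ∈ l.2.1, k ∈ allGens (l :: ls) := fun k hk => by
      rw [allGens, List.flatMap_cons]; exact List.mem_append_left _ hk
    have hls : ∀ k ∈ allGens ls, k ∈ allGens (l :: ls) := fun k hk => by
      rw [allGens, List.flatMap_cons]; exact List.mem_append_right _ hk
    let b : Fin n := ⟨l.1, hb⟩
    have horb : ∀ i < (levPts l).length, ∃ a ∈ A, ((a b : Fin n) : ℕ) = (levPts l).getD i 0 :=
      level_orbit tab g l (fun k hk => hg k (hlt _ (hl k hk))) b rfl hedge A (fun k hk => hA k (hl k hk))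
    let B : Subgroup (Equiv.Perm (Fin n)) := A ⊓ MulAction.stabilizer (Equiv.Perm (Fin n)) b
    have hB : chainProd ls ≤ Nat.card B := chain_card tab g hg ls hok B fun k hk =>
      ⟨hA k (hls k hk), Fin.ext (by
        show ((g k b : Fin n) : ℕ) = l.1
        rw [hg k (hlt k (hls k hk))]; exact hfix k hk)⟩
    choose a ha hab using fun i : Fin (levPts l).length => horb i i.2
    let F : Fin (levPts l).length × B → A := fun p => ⟨a p.1 * p.2, mul_mem (ha p.1) p.2.2.1⟩
    have hF : Function.Injective F := by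
      rintro ⟨i, u⟩ ⟨j, v⟩ e
      have e' : a i * (u : Equiv.Perm (Fin n)) = a j * v := congrArg Subtype.val e
      have hu : (u : Equiv.Perm (Fin n)) b = b := u.2.2
      have hv : (v : Equiv.Perm (Fin n)) b = b := v.2.2
      have h1 := congrArg (fun s : Equiv.Perm (Fin n) => ((s b : Fin n) : ℕ)) e'
      simp only [Equiv.Perm.mul_apply, hu, hv, hab] at h1
      rw [List.getD_eq_getElem _ _ i.2, List.getD_eq_getElem _ _ j.2] at h1
      obtain rfl : i = j := Fin.ext ((List.Nodup.getElem_inj_iff hnd).mp h1)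
      rw [Subtype.ext (mul_left_cancel e') (a2 := v)]
    refine le_trans ?_ (Nat.card_le_card_of_injective F hF)
    rw [Nat.card_prod, Nat.card_fin, chainProd]
    exact Nat.mul_le_mul_left _ hB

/-- tables of the images of generators give a lower bound of the image -/
theorem image_ge {Γ : Type*} [Group Γ] (φ : Γ →* Equiv.Perm (Fin n)) {m : ℕ} (x : Fin m → Γ)
    (tab : List (List ℕ)) (prog : List (ℕ × ℕ)) (ls : List Lev)
    (hx : ∀ (k : Fin m) (i : Fin n), (φ (x k) i : ℕ) = entry tab k i)
    (hok : tabOK n m tab prog ls = true) :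
    chainProd ls ≤ Nat.card (Subgroup.closure (Set.range fun k => φ (x k))) := by
  classical
  set A := Subgroup.closure (Set.range fun k => φ (x k))
  simp only [tabOK, Bool.and_eq_true, decide_eq_true_eq, List.all_eq_true, List.mem_range] at hok
  obtain ⟨⟨hlen, hprog⟩, hchain⟩ := hok
  have hex : ∀ k, k < tab.length → ∃ a ∈ A, ∀ i : Fin n, ((a i : Fin n) : ℕ) = entry tab k i := by
    intro k
    induction k using Nat.strong_induction_on with
    | _ k ih =>
      intro hk
      by_cases hkm : k < m
      · exact ⟨_, Subgroup.subset_closure ⟨⟨k, hkm⟩, rfl⟩, hx ⟨k, hkm⟩⟩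
      · obtain ⟨i, rfl⟩ : ∃ i, k = m + i := ⟨k - m, by omega⟩
        have h := hprog i (by omega)
        simp only [progAt, Bool.and_eq_true, decide_eq_true_eq, List.all_eq_true, List.mem_range] at h
        obtain ⟨a, ha, ha'⟩ := ih _ h.1.1 (by omega)
        obtain ⟨c, hc, hc'⟩ := ih _ h.1.2 (by omega)
        refine ⟨a * c, mul_mem ha hc, fun y => ?_⟩
        rw [Equiv.Perm.mul_apply, ha', hc', h.2 y y.2]
  let g : ℕ → Equiv.Perm (Fin n) := fun k => if h : k < tab.length then (hex k h).choose else 1
  refine chain_card tab g (fun k hk i => ?_) ls hchain A fun k hk => ?_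
  · simp only [g, dif_pos hk]; exact (hex k hk).choose_spec.2 i
  · simp only [g, dif_pos (allGens_lt hchain k hk)]; exact (hex k (allGens_lt hchain k hk)).choose_spec.1

/-- a full first level gives transitivity -/
theorem image_trans {Γ : Type*} [Group Γ] (φ : Γ →* Equiv.Perm (Fin n)) {m : ℕ} (x : Fin m → Γ)
    (tab : List (List ℕ)) (l : Lev) (ls : List Lev)
    (hx : ∀ (k : Fin m) (i : Fin n), (φ (x k) i : ℕ) = entry tab k i)
    (hok : chainOK n tab (l :: ls) = true) (hgen : ∀ k ∈ l.2.1, k < m) (hfull : (levPts l).length = n) :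
    ∀ j : Fin n, ∃ b : Fin n, (b : ℕ) = l.1 ∧ ∃ a ∈ Subgroup.closure (Set.range fun k => φ (x k)), a b = j := by
  classical
  intro j
  simp only [chainOK, Bool.and_eq_true, List.all_eq_true, decide_eq_true_eq, List.mem_range] at hok
  obtain ⟨⟨⟨⟨⟨hb, -⟩, hedge⟩, hnd⟩, -⟩, -⟩ := hok
  refine ⟨⟨l.1, hb⟩, rfl, ?_⟩
  let g : ℕ → Equiv.Perm (Fin n) := fun k => if h : k < m then φ (x ⟨k, h⟩) else 1
  have horb := level_orbit tab g l (fun k hk i => by simp only [g, dif_pos (hgen k hk)]; exact hx _ i) ⟨l.1, hb⟩ rfl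
    hedge (Subgroup.closure (Set.range fun k => φ (x k))) fun k hk => by
      simp only [g, dif_pos (hgen k hk)]; exact Subgroup.subset_closure ⟨_, rfl⟩
  choose a ha hab using fun i : Fin (levPts l).length => horb i i.2
  let f : Fin (levPts l).length → Fin n := fun i => a i ⟨l.1, hb⟩
  have hf : Function.Injective f := by
    intro i i' e
    have h1 := congrArg Fin.val e
    simp only [f, hab] at h1
    rw [List.getD_eq_getElem _ _ i.2, List.getD_eq_getElem _ _ i'.2] at h1
    exact Fin.ext ((List.Nodup.getElem_inj_iff hnd).mp h1)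
  obtain ⟨i, hi⟩ := ((Fintype.bijective_iff_injective_and_card f).mpr ⟨hf, by simp [hfull]⟩).2 j
  exact ⟨a i, ha i, hi⟩

end CfsgLib.LargeFischer
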