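import Cfsg.Agent.Lib.LargeFischer.Defs

/-!
Kernel checks for the tables.
-/

set_option autoImplicit false
set_option Elab.async false
set_option maxRecDepth 100000

namespace CfsgLib.LargeFischer

open Matrix CfsgLib.CosetEnum
open CfsgLib.HePres (K4)
open CfsgLib.Fi22USix (V6 el code vec hval nrm pr)
open CfsgLib.USixUFour (pV InP covers stepK isOff)

theorem rF_ok : ∀ k : Fin 3, (∀ i, rF k (rF k (rF k (bas i))) = bas i) ∧
    (∀ i j, hval (rF k (bas i)) (rF k (bas j)) = if i = j then 1 else 0) ∧ rF k v0 = v0 ∧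
    ∀ i : Fin 126, InP 0 (rF k (pV i)) := by decide +kernel

theorem xF_ok : ∀ k : Fin 2, (∀ i, xF k (xF k (xF k (bas i))) = bas i) ∧
    (∀ i j, hval (xF k (bas i)) (xF k (bas j)) = if i = j then 1 else 0) ∧ xF k s0 = s0 ∧
    ∀ i : Fin 126, InP 0 (xF k (pV i)) := by decide +kernel

theorem oF_fix : ∀ o : Fin 3, oF o v0 = v0 ∧ oF o s0 = s0 := by decide +kernel

theorem oF_all_low : (List.range' 0 2048).all (fun n => decide (∀ o : Fin 3,
    nrm (oF o (vec n)) = nrm (vec n) ∧ (InP 0 (oF o (vec n)) ↔ InP 0 (vec n)))) = true := by decide +kernel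

theorem oF_all_high : (List.range' 2048 2048).all (fun n => decide (∀ o : Fin 3,
    nrm (oF o (vec n)) = nrm (vec n) ∧ (InP 0 (oF o (vec n)) ↔ InP 0 (vec n)))) = true := by decide +kernel

theorem oF_all : (List.range 4096).all (fun n => decide (∀ o : Fin 3,
    nrm (oF o (vec n)) = nrm (vec n) ∧ (InP 0 (oF o (vec n)) ↔ InP 0 (vec n)))) = true := by
  rw [List.range_eq_range', ← List.range'_append_1 (s := 0) (m := 2048) (n := 2048), List.all_append,
    oF_all_low, Nat.zero_add, oF_all_high]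
  rfl

theorem v0_spec : InP 0 v0 ∧ nrm v0 = 0 ∧ v0 ≠ 0 ∧ nrm s0 = 0 ∧ s0 ≠ 0 ∧ ¬ InP 0 s0 := by decide +kernel

theorem inP_cover : covers stepK 5 inPTree (fun n => decide (InP 0 (vec n))) = true := by decide +kernel

theorem off_number : (List.range 4096).countP isOff = 1701 := by decide +kernel

theorem r45_ok : tabOK 45 3 r45Perm r45Prog r45Lev = true ∧ chainProd r45Lev = 25920 := by decide +kernel

theorem s45_ok : tabOK 45 4 s45Perm s45Prog s45Lev = true ∧ chainProd s45Lev = 51840 := by decide +kernel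

theorem x126_ok : tabOK 126 2 x126Perm x126Prog x126Lev = true ∧ chainProd x126Lev = 5760 := by decide +kernel

theorem x15_ok : tabOK 15 2 x15Perm x15Prog x15Lev = true ∧ chainProd x15Lev = 360 := by decide +kernel

theorem y0_ok : tabOK 15 3 y0Perm y0Prog y0Lev = true ∧ chainProd y0Lev = 720 := by decide +kernel

theorem y1_ok : tabOK 15 3 y1Perm y1Prog y1Lev = true ∧ chainProd y1Lev = 720 := by decide +kernel

theorem r45_agree : ∀ k : Fin 3, agrees fam45 (rF k) r45Perm k = true := by decide +kernel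

theorem s45_agree : (∀ k : Fin 3, agrees fam45 (rF k) s45Perm k = true) ∧
    agrees fam45 (oF 2) s45Perm 3 = true := by decide +kernel

theorem x126_agree : ∀ k : Fin 2, agrees fam126 (xF k) x126Perm k = true := by decide +kernel

theorem x15_agree : ∀ k : Fin 2, agrees fam15 (xF k) x15Perm k = true ∧
    agrees fam15 (xF k) y0Perm k = true ∧ agrees fam15 (xF k) y1Perm k = true := by decide +kernel

theorem y_agree : agrees fam15 (oF 0) y0Perm 2 = true ∧ agrees fam15 (oF 1) y1Perm 2 = true ∧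
    agrees fam15 (oF 2) y2Perm 2 = true := by decide +kernel

theorem fam_disjoint : ∀ i j : Fin 45, pV (p45.getD i 0) ∈ fam45 j → i = j := by decide +kernel

theorem fam_disjoint' : ∀ i j : Fin 15, pV (p15.getD i (0, 0)).1 ∈ fam15 j → i = j := by decide +kernel

theorem pair_sep : ∀ a : Fin 6, ∃ i j : Fin 15, pairF i ∩ pairF j = {a} := by decide +kernel

theorem pair_all : ∀ a b : Fin 6, a ≠ b → ∃ i : Fin 15, pairF i = {a, b} := by decide +kernel

theorem pair_inj : ∀ i j : Fin 15, pairF i = pairF j → i = j := by decide +kernel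

theorem six_image : ∀ i : Fin 15, (∀ k : Fin 2, ∀ h : entry x15Perm k i < 15,
      (pairF i).image (sixF ⟨k, by omega⟩) = pairF ⟨_, h⟩) ∧
    (∀ h : entry y0Perm 2 i < 15, (pairF i).image (sixF 2) = pairF ⟨_, h⟩) ∧
    ∀ h : entry y2Perm 2 i < 15, (pairF i).image (sixF 4) = pairF ⟨_, h⟩ := by decide +kernel

theorem six_sign : ∀ k : Fin 5, k ≠ 3 → ∃ σ : Equiv.Perm (Fin 6), (∀ a, σ a = sixF k a) ∧
    Equiv.Perm.sign σ = if k = 2 then -1 else 1 := by decide +kernel

theorem line_spec : ∀ i : Fin 45, ∀ a ∈ lineF i, qm a = 0 ∧ a ≠ 0 := by decide +kernel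

theorem line_pair : ∀ i : Fin 45, ∀ a ∈ lineF i, ∀ b ∈ lineF i, a ≠ b →
    lineF i = {a, b, a + b} := by decide +kernel

theorem line_inj : ∀ i j : Fin 45, lineF i = lineF j → i = j := by decide +kernel

theorem line_all : ∀ a b : Fin 64, qm (dec6 a) = 0 → qm (dec6 b) = 0 → (a : ℕ) ≠ 0 → (b : ℕ) ≠ 0 → a ≠ b →
    qm (dec6 a + dec6 b) = 0 → ∃ i : Fin 45, (a : ℕ) ∈ lines.getD i [] ∧ (b : ℕ) ∈ lines.getD i [] := by
  decide +kernel

theorem line_mem : ∀ i : Fin 45, ∀ a ∈ lines.getD i [], dec6 a ∈ lineF i := by decide +kernel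

theorem orth_ok : ∀ k : Fin 4,
    omat (orthCols.getD k ([], [])).1 * omat (orthCols.getD k ([], [])).2 = 1 ∧
    omat (orthCols.getD k ([], [])).2 * omat (orthCols.getD k ([], [])).1 = 1 ∧
    (∀ v : I6 → ZMod 2, qm (omat (orthCols.getD k ([], [])).1 *ᵥ v) = qm v) ∧
    agreesLine (omat (orthCols.getD k ([], [])).1) s45Perm k = true := by
  unfold qm Cfsg.quadFormMinus
  decide +kernel

end CfsgLib.LargeFischer
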