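import Cfsg.Agent.Lib.LargeFischer.Act

/-!
Additive maps of the hermitian space commuting with the scalars and keeping the norm.
-/

set_option autoImplicit false
set_option maxRecDepth 100000

namespace CfsgLib.LargeFischer

open Matrix
open CfsgLib.HePres (K4)
open CfsgLib.Fi22USix (V6 SU62 el code vec vec_code hval nrm)
open CfsgLib.USixUFour (InP mv act coreK)

theorem el_vals : el 1 = 1 ∧ el 3 = el 2 * el 2 ∧ el 2 * el 3 = 1 ∧ el 2 ^ 6 = 1 ∧ el 2 ≠ 0 ∧ el 2 ≠ 1 ∧
    el 2 + el 3 = 1 := by decide +kernel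

theorem k4_cases : ∀ a : K4, a = 0 ∨ a = 1 ∨ a = el 2 ∨ a = el 3 := by decide +kernel

theorem sig_el (c : K4) (v : V6) : sigF (c • v) = (c * c) • sigF v := funext fun i => by
  simp only [sigF, Pi.smul_apply, smul_eq_mul]; ring

theorem sig_add (u v : V6) : sigF (u + v) = sigF u + sigF v := funext fun i => by
  have h2 : (2 : K4) = 0 := K4.two_eq_zero
  simp only [sigF, Pi.add_apply]
  linear_combination (u i * v i) * h2

theorem nrm_hval (v : V6) : hval v v = nrm v := rfl

theorem herm_pair : ∀ h : K4, ∀ h' : K4, h + h * h = h' + h' * h' →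
    el 3 * h + el 2 * (h * h) = el 3 * h' + el 2 * (h' * h') → h = h' := by decide +kernel

theorem nrm_add (a b : V6) : nrm (a + b) = nrm a + nrm b + (hval a b + hval a b * hval a b) := by
  have h2 : (2 : K4) = 0 := K4.two_eq_zero
  have hsw : hval b a = hval a b * hval a b := by
    rw [← Fi22USix.herm_eq, ← Fi22USix.herm_eq, Classical.USixTwoLift.swap K4.card_eq a b, pow_two]
  rw [← nrm_hval, ← nrm_hval, ← nrm_hval, (hval_add a b _).1, (hval_add a b a).2, (hval_add a b b).2, hsw]
  ring

/-- linear maps keeping the norm preserve the form -/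
theorem exists_mat (f : V6 → V6) (hadd : ∀ u v, f (u + v) = f u + f v)
    (hw : ∀ v, f (el 2 • v) = el 2 • f v) (hn : ∀ v, nrm (f v) = nrm v) :
    ∃ A : Matrix (Fin 6) (Fin 6) K4, (∀ v, f v = A *ᵥ v) ∧ ∀ u v, hval (A *ᵥ u) (A *ᵥ v) = hval u v := by
  have hs : ∀ (c : K4) (v : V6), f (c • v) = c • f v := by
    intro c v
    have h0 : f 0 = 0 := by
      have h := hadd 0 0
      rw [add_zero] at h
      exact left_eq_add.mp h
    rcases k4_cases c with rfl | rfl | rfl | rfl
    · rw [zero_smul, zero_smul, h0]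
    · rw [one_smul, one_smul]
    · exact hw v
    · rw [el_vals.2.1, mul_smul, mul_smul, hw, hw]
  let l : V6 →ₗ[K4] V6 := { toFun := f, map_add' := hadd, map_smul' := hs }
  refine ⟨LinearMap.toMatrix' l, fun v => ?_, fun u v => ?_⟩
  · rw [← Matrix.toLin'_apply, Matrix.toLin'_toMatrix']; rfl
  · rw [← Matrix.toLin'_apply, ← Matrix.toLin'_apply, Matrix.toLin'_toMatrix']
    show hval (f u) (f v) = hval u v
    have key : ∀ a b, hval (f a) (f b) + hval (f a) (f b) * hval (f a) (f b) =
        hval a b + hval a b * hval a b := fun a b => by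
      have h := hn (a + b)
      rw [hadd, nrm_add, nrm_add, hn, hn] at h
      exact add_left_cancel h
    refine herm_pair _ _ (key u v) ?_
    have h := key u (el 2 • v)
    rw [hs, (hval_smul _ _ _).2, (hval_smul _ _ _).2, ← el_vals.2.1] at h
    have e : ∀ a : K4, el 3 * a * (el 3 * a) = el 2 * (a * a) := by decide +kernel
    rwa [e, e] at h

/-- the points and the off vectors -/
theorem isotropic_cases {v : V6} (h0 : nrm v = 0) (hne : v ≠ 0) :
    InP 0 v ∨ USixUFour.isOff (code v) = true := by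
  by_cases h : InP 0 v
  · exact Or.inl h
  · refine Or.inr ?_
    rw [USixUFour.isOff, decide_eq_true_eq, vec_code]
    exact ⟨fun e => hne (by rw [← vec_code v, e]; decide +kernel), h0, h⟩

theorem inP_iso {v : V6} (h : InP 0 v) : nrm v = 0 ∧ v ≠ 0 := by
  have h0 := USixUFour.inP_iso ⟨code v, Fi22USix.code_lt v⟩
  simp only [vec_code] at h0
  obtain ⟨h1, h2⟩ := h0 h
  refine ⟨h1, fun e => h2 ?_⟩
  rw [e]; decide +kernel

/-- a permutation of the isotropic vectors normalising the core keeps the points -/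
theorem keep_points (f : Equiv.Perm V6) (hn : ∀ v, nrm (f v) = nrm v) (h0 : f 0 = 0)
    (hnorm : ∀ c ∈ coreK, ∃ c' ∈ coreK, f * act c' * f⁻¹ = act c) : ∀ v, InP 0 v → InP 0 (f v) := by
  intro v hv
  by_contra hnp
  have hfne : f v ≠ 0 := fun e => (inP_iso hv).2 (f.injective (e.trans h0.symm))
  have hoff := (isotropic_cases ((hn v).trans (inP_iso hv).1) hfne).resolve_left hnp
  have hmove : ∀ w, USixUFour.isOff (code w) = true → InP 0 (f.symm w) := by
    intro w hw
    obtain ⟨c, hc, e⟩ := USixUFour.off_move hoff hw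
    obtain ⟨c', hc', ec⟩ := hnorm c hc
    have h1 := Equiv.congr_fun ec (f v)
    rw [Equiv.Perm.mul_apply, Equiv.Perm.mul_apply, Equiv.Perm.coe_inv, Equiv.symm_apply_apply] at h1
    rw [show f.symm w = mv c' v from f.symm_apply_eq.mpr (by rw [← e]; exact h1.symm)]
    exact (USixUFour.coreK_stab hc' v).mpr hv
  have hle : Nat.card {w : V6 // USixUFour.isOff (code w) = true} ≤
      Nat.card {w : V6 // decide (InP 0 (vec (code w))) = true} :=
    Nat.card_le_card_of_injective (fun w => ⟨f.symm w.1, by rw [decide_eq_true_eq, vec_code]; exact hmove _ w.2⟩)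
      fun a b h => Subtype.ext (f.symm.injective (congrArg Subtype.val h))
  rw [USixUFour.count_vec USixUFour.isOff, USixUFour.count_vec (fun n => decide (InP 0 (vec n))),
    USixUFour.off_card, USixUFour.inP_number] at hle
  omega

theorem linF_fix {g : SU62} {F : V6 → V6} (h : ∀ v, mv g v = F v) {w : V6} (hw : F w = w) : mv g w = w :=
  (h w).trans hw

theorem inP_move {v : V6} (hv : InP 0 v) : ∃ c ∈ coreK, mv c v0 = v := by
  obtain ⟨c, hc, e⟩ := USixUFour.cover_move (S := coreK) inP_cover (fun x k _ => USixUFour.stepK_mem x k) v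
    (by rw [decide_eq_true_eq, vec_code]; exact hv)
  exact ⟨c, hc, e.symm⟩

theorem od_not_core : odEl ∉ coreK := by
  classical
  intro hod
  let S0 : Subgroup SU62 :=
    { carrier := {c | c ∈ coreK ∧ mv c s0 = s0}
      one_mem' := ⟨one_mem _, USixUFour.mv_one _⟩
      mul_mem' := fun {a b} ha hb => ⟨mul_mem ha.1 hb.1, by rw [USixUFour.mv_mul, hb.2, ha.2]⟩
      inv_mem' := fun {a} ha => ⟨inv_mem ha.1, by conv_lhs => rw [← ha.2, USixUFour.mv_inv]⟩ }
  have hod0 : odEl ∈ S0 := ⟨hod, (odEl_apply _).trans (oF_fix 0).2⟩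
  let gen : Fin 2 → Equiv.Perm V6 := fun k => act (xEl k)
  have hgen : ∀ k, (gen k : V6 → V6) = xF k := fun k => funext fun v => xEl_apply k v
  obtain ⟨φ, hφ, hφt⟩ := exists_fam fam126 fam126_inj gen x126Perm fun k => by rw [hgen]; exact x126_agree k
  have hge := image_ge φ (fun k => ⟨gen k, Subgroup.subset_closure ⟨k, rfl⟩⟩) x126Perm x126Prog x126Lev hφt
    x126_ok.1
  rw [x126_ok.2] at hge
  have h1 : 5760 ≤ Nat.card (Subgroup.closure (Set.range gen)) := by
    refine hge.trans ?_
    refine le_trans (Subgroup.card_le_of_le ?_) (Nat.le_of_dvd Nat.card_pos (Subgroup.card_range_dvd φ))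
    exact (Subgroup.closure_le _).mpr (by rintro _ ⟨k, rfl⟩; exact ⟨_, rfl⟩)
  have hle : Subgroup.closure (Set.range gen) ≤ S0.map act :=
    (Subgroup.closure_le _).mpr (by
      rintro _ ⟨k, rfl⟩
      exact ⟨xEl k, ⟨xEl_mem k, linF_fix (xEl_apply k) (xF_ok k).2.2.1⟩, rfl⟩)
  letI : MulAction coreK V6 := MulAction.compHom V6 (act.comp coreK.subtype)
  have hst : (MulAction.stabilizer coreK s0).map coreK.subtype = S0 := by
    ext c
    constructor
    · rintro ⟨d, hd, rfl⟩
      exact ⟨d.2, hd⟩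
    · rintro ⟨hc, hc0⟩
      exact ⟨⟨c, hc⟩, hc0, rfl⟩
  have hS : Nat.card S0 ≤ 5760 := by
    have ha := (MulAction.stabilizer coreK s0).card_mul_index
    rw [MulAction.index_stabilizer, USixUFour.coreK_card] at ha
    rw [← hst, Subgroup.card_map_of_injective coreK.subtype_injective]
    have horb : {w : V6 | USixUFour.isOff (code w) = true}.ncard ≤ (MulAction.orbit coreK s0).ncard := by
      refine Set.ncard_le_ncard ?_ (Set.toFinite _)
      intro w hw
      obtain ⟨c, hc, e⟩ := USixUFour.off_move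
        ((isotropic_cases v0_spec.2.2.2.1 v0_spec.2.2.2.2.1).resolve_left v0_spec.2.2.2.2.2) hw
      exact ⟨⟨c, hc⟩, e⟩
    rw [← Nat.card_coe_set_eq, Set.coe_setOf, USixUFour.count_vec USixUFour.isOff, USixUFour.off_card] at horb
    have := Nat.mul_le_mul_left (Nat.card (MulAction.stabilizer coreK s0)) horb
    have := this.trans ha.le
    omega
  have heq : Subgroup.closure (Set.range gen) = S0.map act :=
    Subgroup.eq_of_le_of_card_ge hle ((Subgroup.card_map_of_injective act_inj).le.trans (hS.trans h1))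
  have hodC : act odEl ∈ Subgroup.closure (Set.range gen) := heq ▸ ⟨odEl, hod0, rfl⟩
  obtain ⟨φ', hφ', hφt'⟩ := exists_fam fam15 fam15_inj gen x15Perm fun k => by rw [hgen]; exact (x15_agree k).1
  obtain ⟨ι, hι, hιs⟩ := exists_six
  have hmem : ∀ g, φ' g ∈ (alternatingGroup (Fin 6)).map ι := by
    intro g
    obtain ⟨g, hg⟩ := g
    induction hg using Subgroup.closure_induction with
    | mem y hy =>
      obtain ⟨k, rfl⟩ := hy
      obtain ⟨σ, hσ, hsgn⟩ := six_sign ⟨k, by omega⟩ (by intro h; have := congrArg Fin.val h; simp at this; omega)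
      refine ⟨σ, ?_, Equiv.ext fun i => fam15_inj ?_⟩
      · rw [SetLike.mem_coe, Equiv.Perm.mem_alternatingGroup, hsgn, if_neg]
        intro h; have := congrArg Fin.val h; simp at this; omega
      · have ht := hφt' k i
        have hlt : entry x15Perm k i < 15 := by rw [← ht]; exact Fin.is_lt _
        have e1 : φ' ⟨gen k, Subgroup.subset_closure ⟨k, rfl⟩⟩ i = ⟨_, hlt⟩ := Fin.ext ht
        rw [e1]
        refine congrArg fam15 (pair_inj _ _ ?_)
        rw [hιs, ← (six_image i).1 k hlt]
        exact Finset.image_congr fun a _ => hσ a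
    | one => exact (congrArg (· ∈ _) (map_one φ')).mpr (one_mem _)
    | mul a b ha hb iha ihb =>
      have := mul_mem iha ihb
      rwa [← map_mul] at this
    | inv a ha iha =>
      have := inv_mem iha
      rwa [← map_inv] at this
  obtain ⟨τ, hτ, eτ⟩ := hmem ⟨_, hodC⟩
  obtain ⟨σ, hσ, hsgn⟩ := six_sign 2 (by decide)
  have hag := y_agree.1
  have e : φ' ⟨_, hodC⟩ = ι σ := by
    refine Equiv.ext fun i => ?_
    have h1 := List.all_eq_true.mp hag i (List.mem_finRange i)
    by_cases hlt : entry y0Perm 2 i < 15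
    · rw [dif_pos hlt, decide_eq_true_eq] at h1
      have e1 : φ' ⟨_, hodC⟩ i = ⟨_, hlt⟩ := fam15_inj ((hφ' _ i).trans (by
        rw [← h1]
        exact Finset.image_congr fun v _ => odEl_apply v))
      rw [e1]
      refine pair_inj _ _ ?_
      rw [hιs, ← (six_image i).2.1 hlt]
      exact Finset.image_congr fun a _ => (hσ a).symm
    · rw [dif_neg hlt] at h1; exact absurd h1 Bool.false_ne_true
  rw [e] at eτ
  rw [hι eτ, SetLike.mem_coe, Equiv.Perm.mem_alternatingGroup, hsgn] at hτ
  simp at hτ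

theorem stab_split {g : SU62} (hg : g ∈ USixUFour.stabP) : g ∈ coreK ∨ odEl * g ∈ coreK := by
  have hi := USixUFour.core_index
  have hne : (coreK.subgroupOf USixUFour.stabP).index ≠ 0 := Subgroup.index_ne_zero_of_finite
  have h2 : (coreK.subgroupOf USixUFour.stabP).index = 2 := by
    refine (show (coreK.subgroupOf USixUFour.stabP).index = 1 ∨ (coreK.subgroupOf USixUFour.stabP).index = 2 by omega).resolve_left fun h => od_not_core ?_
    have : (⟨odEl, odEl_mem⟩ : USixUFour.stabP) ∈ coreK.subgroupOf USixUFour.stabP :=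
      Subgroup.index_eq_one.mp h ▸ Subgroup.mem_top _
    exact this
  have h : ((⟨odEl, odEl_mem⟩ : USixUFour.stabP) * ⟨g, hg⟩ ∈ coreK.subgroupOf USixUFour.stabP) ↔ _ :=
    Subgroup.mul_mem_iff_of_index_two h2
  simp only [Subgroup.mem_subgroupOf, Subgroup.coe_mul] at h
  by_cases hgc : g ∈ coreK
  · exact Or.inl hgc
  · exact Or.inr (h.mpr (iff_of_false od_not_core hgc))

end CfsgLib.LargeFischer
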