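import Cfsg.Agent.Lib.LargeFischer.Axis
import Cfsg.Agent.Lib.LargeFischer.Lin
import Cfsg.Agent.Lib.USixUFour.Unique

/-!
Coordinates in which the centraliser acts through the tables.
-/

set_option autoImplicit false
set_option maxRecDepth 100000
set_option linter.style.haveILetI false
set_option maxHeartbeats 800000

namespace CfsgLib.LargeFischer

open Matrix CfsgLib.Extraspecial
open CfsgLib.HePres (K4)
open CfsgLib.Fi22USix (V6 SU62 el code vec vec_code hval nrm)
open CfsgLib.USixUFour (InP mv act coreK dv dg subK Triple)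

variable {G : Type*} [Group G] [Finite G] {z : G}

/-- the centraliser in coordinates -/
structure Co (z : G) (Q : Subgroup (CZ z)) (v : CZ z → V6) (ρ : CZ z →* Equiv.Perm V6) (o : Fin 3) :
    Prop where
  st : Setting (QG Q) z
  card : Nat.card (QG Q) = 2 ^ 13
  vmul : ∀ x ∈ Q, ∀ y ∈ Q, v (x * y) = v x + v y
  vzero : ∀ x ∈ Q, (v x = 0 ↔ (x : G) = 1 ∨ (x : G) = z)
  vsq : ∀ x ∈ Q, ((x : G) * x = 1 ↔ nrm (v x) = 0)
  vsurj : ∀ a, ∃ x ∈ Q, v x = a
  vconj : ∀ h x : CZ z, x ∈ Q → v (h * x * h⁻¹) = ρ h (v x)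
  ker : ∀ h, ρ h = 1 ↔ h ∈ Q
  range : ∀ f : Equiv.Perm V6, f ∈ ρ.range ↔ ∃ c ∈ coreK, f = act c ∨ f = oP o * act c

variable {K : Type} [Field K] [Fintype K] {Q N M : Subgroup (CZ z)} {π : M →* Cfsg.PSU 4 K 3}

theorem dv_add (j : ℕ) (a b : V6) : dv j (a + b) = dv j a + dv j b := funext fun i => by
  simp [dv, mul_add]

theorem card_coord : Nat.card (Coord 6) = 4096 := by
  rw [Nat.card_fun, Nat.card_prod, Nat.card_zmod, Nat.card_fin]; norm_num

theorem bb_nondeg (e : Fin 6 → ZMod 2) (a : Coord 6) (ha : ∀ b, bb e a b = 0) : a = 0 := by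
  have hm : (⟨a, 0⟩ : Model e) ∈ Subgroup.center (Model e) := by
    rw [Subgroup.mem_center_iff]
    intro g
    have h1 : cocycle e a g.v + cocycle e g.v a = 0 := by
      rw [← cBil_apply, ← cBil_apply]; exact ha g.v
    have h2 : cocycle e g.v a = cocycle e a g.v := (CharTwo.add_eq_zero.mp h1).symm
    exact (Model.comm_iff g (⟨a, 0⟩ : Model e)).mpr h2
  exact (Model.mem_center_iff _).mp hm

/-- the linear part -/
theorem exists_frame [Q.Normal] (l : Layers Q N M π) {e : Fin 6 → ZMod 2} {u : CZ z → Coord 6}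
    {σ : CZ z →* isoGrp e} (P : Pre z Q e u σ) :
    ∃ (φ : V6 ≃ Coord 6) (x : CZ z), (∀ a b, φ (a + b) = φ a + φ b) ∧ (∀ a, ιK (qq e (φ a)) = nrm a) ∧
      x ∈ N ∧ x ∉ Q ∧ (∀ a, φ.symm ((σ x).1 (φ a)) = el 2 • a) ∧
      (∀ n ∈ N, ∃ c : K4, ∀ a, φ.symm ((σ n).1 (φ a)) = c • a) ∧
      (∀ m ∈ M, ∃ c ∈ coreK, ∀ a, φ.symm ((σ m).1 (φ a)) = mv c a) ∧
      ∀ c ∈ coreK, ∃ m ∈ M, ∀ a, φ.symm ((σ m).1 (φ a)) = mv c a := by
  classical
  obtain ⟨x, hx, hxQ, hx3, hN, hsq, hcomm⟩ := fix_free l P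
  have hnd := bb_nondeg e
  have hrot : Rot (qq e) (bb e) (σ x).1 :=
    { pol := fun a b => by
        show cBil e (a + b) (a + b) = cBil e a a + cBil e b b + (cBil e a b + cBil e b a)
        simp only [map_add, LinearMap.add_apply]; abel
      nd := hnd
      iso := (σ x).2
      sq := hsq }
  obtain ⟨φ, hφa, hφw, hφq⟩ := hrot.exists_coord (card_coord)
  let f : M → V6 → V6 := fun m a => φ.symm ((σ m).1 (φ a))
  have hφ0 : φ 0 = 0 := by
    have h := hφa 0 0
    rw [add_zero] at h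
    exact left_eq_add.mp h
  have hφs : ∀ a b, φ.symm (a + b) = φ.symm a + φ.symm b := fun a b =>
    φ.injective (by rw [hφa, φ.apply_symm_apply, φ.apply_symm_apply, φ.apply_symm_apply])
  have hfm : ∀ m : M, ∃ A : Matrix (Fin 6) (Fin 6) K4, (∀ a, f m a = A *ᵥ a) ∧
      ∀ a b, hval (A *ᵥ a) (A *ᵥ b) = hval a b := by
    intro m
    refine exists_mat (f m) (fun a b => by simp only [f]; rw [hφa, map_add, hφs]) (fun a => ?_) fun a => ?_
    · simp only [f]
      rw [hφw]
      refine φ.injective ?_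
      rw [hφw, φ.apply_symm_apply, φ.apply_symm_apply]
      exact LinearEquiv.congr_fun (congrArg Subtype.val (hcomm m m.2)) (φ a)
    · show nrm (φ.symm _) = _
      rw [← hφq, φ.apply_symm_apply, ← hφq]
      exact congrArg ιK ((σ (m : CZ z)).2 (φ a))
  choose A hA hAh using hfm
  have hAuniq : ∀ (m : M) (B : Matrix (Fin 6) (Fin 6) K4), (∀ a, f m a = B *ᵥ a) → A m = B := fun m B h =>
    Matrix.toLin'.injective (LinearMap.ext fun a => by
      rw [Matrix.toLin'_apply, Matrix.toLin'_apply, ← hA, h])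
  let D : M →* K4 :=
    { toFun := fun m => (A m).det
      map_one' := by
        rw [hAuniq 1 1 fun a => by
          show φ.symm ((σ (1 : CZ z)).1 (φ a)) = _
          rw [map_one, Matrix.one_mulVec]
          exact φ.symm_apply_apply a]
        exact Matrix.det_one
      map_mul' := fun m n => by
        rw [hAuniq (m * n) (A m * A n) fun a => by
          rw [← Matrix.mulVec_mulVec, ← hA, ← hA]
          show φ.symm ((σ ((m : CZ z) * n)).1 (φ a)) = φ.symm ((σ m).1 (φ (φ.symm ((σ n).1 (φ a)))))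
          rw [map_mul, φ.apply_symm_apply]
          rfl]
        exact Matrix.det_mul _ _ }
  have hQker : ∀ m : M, (m : CZ z) ∈ Q → A m = 1 := fun m hm => hAuniq m 1 fun a => by
    show φ.symm ((σ m).1 (φ a)) = _
    rw [(P.ker _).mpr hm, Matrix.one_mulVec]
    exact φ.symm_apply_apply a
  let xM : M := ⟨x, l.leM hx⟩
  have hxA : A xM = el 2 • 1 := hAuniq xM _ fun a => by
    show φ.symm ((σ x).1 (φ a)) = _
    rw [← hφw, φ.symm_apply_apply, Matrix.smul_mulVec, Matrix.one_mulVec]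
  have hD : D.toHomUnits.ker = ⊤ := by
    refine l.eq_top ?_ (Abelianization.commutator_subset_ker _)
    intro m hm
    obtain ⟨i, q, hq, e1⟩ := hN m hm
    have hm' : m = xM ^ (i : ℕ) * ⟨q, l.leM (l.leN hq)⟩ := Subtype.ext (by simpa [xM] using e1)
    rw [MonoidHom.mem_ker, hm', map_mul, map_pow]
    have h1 : D.toHomUnits xM = 1 := Units.ext (by
      show (A xM).det = 1
      rw [hxA, Matrix.det_smul, Matrix.det_one, mul_one, Fintype.card_fin, el_vals.2.2.2.1])
    have h2 : D.toHomUnits ⟨q, l.leM (l.leN hq)⟩ = 1 := Units.ext (by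
      show (A _).det = 1
      rw [hQker _ hq, Matrix.det_one])
    rw [h1, h2, one_pow, mul_one]
  have hdet : ∀ m, (A m).det = 1 := fun m =>
    congrArg Units.val (MonoidHom.mem_ker.mp (hD ▸ Subgroup.mem_top m : m ∈ D.toHomUnits.ker))
  choose t ht using fun m => exists_of_matrix (hAh m) (hdet m)
  let τ : M →* SU62 := MonoidHom.mk' t fun m n => USixUFour.su_ext fun a => by
    rw [USixUFour.mv_mul, ht, ht, ht, ← hA, ← hA, ← hA]
    show φ.symm ((σ ((m : CZ z) * n)).1 (φ a)) = φ.symm ((σ m).1 (φ (φ.symm ((σ n).1 (φ a)))))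
    rw [map_mul, φ.apply_symm_apply]
    rfl
  have hτ : ∀ m a, mv (τ m) a = f m a := fun m a => (ht m a).trans (hA m a).symm
  have hker : ∀ m : M, τ m = 1 ↔ (m : CZ z) ∈ Q := by
    intro m
    rw [← P.ker]
    constructor
    · intro h
      refine Subtype.ext (LinearEquiv.ext fun a => ?_)
      have h1 := hτ m (φ.symm a)
      rw [h, USixUFour.mv_one] at h1
      simp only [f, φ.apply_symm_apply] at h1
      exact (φ.symm.injective h1).symm
    · intro h
      refine USixUFour.su_ext fun a => ?_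
      rw [hτ, USixUFour.mv_one]
      show φ.symm ((σ m).1 (φ a)) = a
      rw [h]; exact φ.symm_apply_apply a
  haveI := l.nN
  haveI : Finite (Cfsg.PSU 4 K 3) := Finite.of_surjective π l.surj
  let K0 := τ.range
  let p : K0 →* Cfsg.PSU 4 K 3 := MonoidHom.liftOfSurjective τ.rangeRestrict τ.rangeRestrict_surjective
    ⟨π, fun m hm => l.ker.ge (l.leN ((hker m).mp (by simpa using congrArg Subtype.val hm)))⟩
  have hp : ∀ m, p (τ.rangeRestrict m) = π m := fun m =>
    MonoidHom.liftOfRightInverse_comp_apply _ _ _ _ _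
  have hps : Function.Surjective p := fun y => by
    obtain ⟨m, rfl⟩ := l.surj y
    exact ⟨_, hp m⟩
  have hpk : p.ker = (N.subgroupOf M).map τ.rangeRestrict := by
    ext k
    obtain ⟨m, rfl⟩ := τ.rangeRestrict_surjective k
    rw [MonoidHom.mem_ker, hp, ← MonoidHom.mem_ker, l.ker]
    refine ⟨fun h => ⟨m, h, rfl⟩, ?_⟩
    rintro ⟨n, hn, e1⟩
    have h1 : τ (n⁻¹ * m) = 1 := by
      rw [map_mul, map_inv, inv_mul_eq_one]
      exact congrArg Subtype.val e1
    have := mul_mem hn (show n⁻¹ * m ∈ N.subgroupOf M from l.leN ((hker _).mp h1))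
    rwa [mul_inv_cancel_left] at this
  have hcen : Subgroup.center K0 = p.ker := by
    refine le_antisymm (fun k hk => ?_) ?_
    · obtain ⟨hsim, -⟩ := psu_simple l.hK
      haveI := hsim
      rcases (inferInstance : (Subgroup.center (Cfsg.PSU 4 K 3)).Normal).eq_bot_or_eq_top with hb | hT
      · rw [MonoidHom.mem_ker, ← Subgroup.mem_bot, ← hb, Subgroup.mem_center_iff]
        intro y
        obtain ⟨k', rfl⟩ := hps y
        rw [← map_mul, ← map_mul, Subgroup.mem_center_iff.mp hk k']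
      · exfalso
        have hperf := psu_perfect l.hK
        rw [commutator_def, ← hT, Subgroup.commutator_eq_bot_iff_le_centralizer.mpr
          (fun a ha => Subgroup.mem_centralizer_iff.mpr fun b _ => Subgroup.mem_center_iff.mp ha b)] at hperf
        exact bot_ne_top (hperf.trans hT)
    · rw [hpk]
      rintro _ ⟨n, hn, rfl⟩
      rw [Subgroup.mem_center_iff]
      intro k
      obtain ⟨m, rfl⟩ := τ.rangeRestrict_surjective k
      refine Subtype.ext ?_
      show τ m * τ n = τ n * τ m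
      obtain ⟨i, q, hq, e1⟩ := hN n hn
      have hn' : n = xM ^ (i : ℕ) * ⟨q, l.leM (l.leN hq)⟩ := Subtype.ext (by simpa [xM] using e1)
      rw [hn', map_mul, (hker ⟨q, l.leM (l.leN hq)⟩).mpr hq, mul_one, map_pow]
      have hc : Commute (τ m) (τ xM) := USixUFour.su_ext fun a => by
        have hx1 : ∀ b, mv (τ xM) b = el 2 • b := fun b => by
          rw [show mv (τ xM) b = A xM *ᵥ b from ht xM b, hxA, Matrix.smul_mulVec, Matrix.one_mulVec]
        rw [USixUFour.mv_mul, USixUFour.mv_mul, hx1, hx1, USixUFour.mv_smul]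
      exact hc.pow_right _
  have hk3 : Nat.card (Subgroup.center K0) = 3 := by
    rw [hcen]
    have hτk : τ.ker = Q.subgroupOf M := by
      ext m; rw [MonoidHom.mem_ker, hker]; rfl
    have a := Subgroup.card_eq_card_quotient_mul_card_subgroup τ.ker
    rw [Nat.card_congr (QuotientGroup.quotientKerEquivRange τ).toEquiv, hτk,
      Nat.card_congr (Subgroup.subgroupOfEquivOfLe (l.leN.trans l.leM)).toEquiv] at a
    have b := Subgroup.card_eq_card_quotient_mul_card_subgroup p.ker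
    rw [Nat.card_congr (QuotientGroup.quotientKerEquivOfSurjective p hps).toEquiv] at b
    have c := Subgroup.card_eq_card_quotient_mul_card_subgroup π.ker
    rw [Nat.card_congr (QuotientGroup.quotientKerEquivOfSurjective π l.surj).toEquiv, l.ker,
      Nat.card_congr (Subgroup.subgroupOfEquivOfLe l.leM).toEquiv, l.cardN] at c
    have hb : Nat.card τ.range = Nat.card (Cfsg.PSU 4 K 3) * Nat.card p.ker := b
    rw [hb, c] at a
    have hpos : 0 < Nat.card (Cfsg.PSU 4 K 3) * Nat.card Q := Nat.mul_pos Nat.card_pos Nat.card_pos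
    nlinarith
  have htri : Triple K K0 :=
    ⟨hk3, ⟨(QuotientGroup.quotientMulEquivOfEq hcen).trans (QuotientGroup.quotientKerEquivOfSurjective p hps)⟩⟩
  obtain ⟨g, j, hgj⟩ := USixUFour.exists_class l.hK htri
  let τe : V6 ≃ V6 :=
    { toFun := fun b => mv g⁻¹ (dv j b)
      invFun := fun a => dv (2 * (j : ℕ)) (mv g a)
      left_inv := fun b => by
        have : mv g (mv g⁻¹ (dv j b)) = dv j b := by rw [← USixUFour.mv_mul, mul_inv_cancel, USixUFour.mv_one]
        simp only [this, (USixUFour.dv_inv _ _).2]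
      right_inv := fun a => by simp only [(USixUFour.dv_inv _ _).1, USixUFour.mv_inv] }
  have hτs : ∀ (c : K4) (b : V6), τe (c • b) = c • τe b := fun c b => by
    show mv g⁻¹ (dv j (c • b)) = c • mv g⁻¹ (dv j b)
    rw [USixUFour.dv_smul, USixUFour.mv_smul]
  have hτa : ∀ a b : V6, τe (a + b) = τe a + τe b := fun a b => by
    show mv g⁻¹ (dv j (a + b)) = _
    rw [dv_add, USixUFour.mv_add]; rfl
  have key : ∀ m : M, ∀ c : SU62, MulAut.conj g (τ m) = dg j c →
      ∀ a, τe.symm (φ.symm ((σ m).1 (φ (τe a)))) = mv c a := by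
    intro m c hc a
    rw [τe.symm_apply_eq]
    show f m (τe a) = _
    rw [← hτ]
    show mv (τ m) (mv g⁻¹ (dv j a)) = mv g⁻¹ (dv j (mv c a))
    rw [← USixUFour.mv_dg, ← hc, MulAut.conj_apply, USixUFour.mv_mul, USixUFour.mv_mul, USixUFour.mv_inv]
  have hsc : ∀ n ∈ N, ∃ c : K4, ∀ a, φ.symm ((σ n).1 (φ a)) = c • a := by
    intro n hn
    obtain ⟨i, q, hq, rfl⟩ := hN n hn
    refine ⟨el 2 ^ (i : ℕ), fun a => ?_⟩
    rw [map_mul, (P.ker q).mpr hq, mul_one, map_pow]
    induction (i : ℕ) with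
    | zero => rw [pow_zero, pow_zero, one_smul]; exact φ.symm_apply_apply a
    | succ k ih =>
      rw [pow_succ', pow_succ', mul_smul, ← ih]
      refine φ.injective ?_
      rw [hφw, φ.apply_symm_apply, φ.apply_symm_apply]
      rfl
  refine ⟨τe.trans φ, x, fun a b => by simp [hτa, hφa], fun a => ?_, hx, hxQ, fun a => ?_, ?_, ?_, ?_⟩
  · show ιK (qq e (φ (τe a))) = nrm a
    rw [hφq]
    show nrm (mv g⁻¹ (dv j a)) = nrm a
    rw [USixUFour.mv_nrm, USixUFour.dv_nrm]
  · show τe.symm (φ.symm ((σ x).1 (φ (τe a)))) = el 2 • a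
    rw [← hφw, φ.symm_apply_apply, ← hτs, τe.symm_apply_apply]
  · intro n hn
    obtain ⟨c, hc⟩ := hsc n hn
    exact ⟨c, fun a => by
      show τe.symm (φ.symm ((σ n).1 (φ (τe a)))) = c • a
      rw [hc, ← hτs, τe.symm_apply_apply]⟩
  · intro m hm
    have h : MulAut.conj g (τ ⟨m, hm⟩) ∈ subK j := hgj ▸ ⟨_, ⟨_, rfl⟩, rfl⟩
    obtain ⟨c, hc, e1⟩ := h
    exact ⟨c, hc, key ⟨m, hm⟩ c e1.symm⟩
  · intro c hc
    have h : dg j c ∈ K0.map (MulAut.conj g).toMonoidHom := hgj.symm ▸ ⟨c, hc, rfl⟩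
    obtain ⟨_, ⟨m, rfl⟩, e1⟩ := h
    exact ⟨m, m.2, key m c e1⟩

theorem exists_co [Q.Normal] (hS : Cfsg.IsExtraspecialCentralizerSetting z Q 6) (l : Layers Q N M π) :
    ∃ (v : CZ z → V6) (ρ : CZ z →* Equiv.Perm V6) (o : Fin 3), Co z Q v ρ o := by
  classical
  obtain ⟨e, u, σ, P⟩ := exists_pre Q hS
  obtain ⟨φ, x, hφa, hφq, hx, hxQ, hxs, hNs, hMK, hKM⟩ := exists_frame l P
  let ρ : CZ z →* Equiv.Perm V6 := MonoidHom.mk'
    (fun h => (φ.trans (σ h).1.toEquiv).trans φ.symm) fun g h => Equiv.ext fun a => by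
      show φ.symm ((σ (g * h)).1 (φ a)) = φ.symm ((σ g).1 (φ (φ.symm ((σ h).1 (φ a)))))
      rw [map_mul, φ.apply_symm_apply]; rfl
  have hρ : ∀ h a, ρ h a = φ.symm ((σ h).1 (φ a)) := fun _ _ => rfl
  have hφ0 : φ 0 = 0 := by
    have h := hφa 0 0
    rw [add_zero] at h
    exact left_eq_add.mp h
  have hφs : ∀ a b, φ.symm (a + b) = φ.symm a + φ.symm b := fun a b =>
    φ.injective (by rw [hφa, φ.apply_symm_apply, φ.apply_symm_apply, φ.apply_symm_apply])
  have hadd : ∀ h a b, ρ h (a + b) = ρ h a + ρ h b := fun h a b => by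
    simp only [hρ]; rw [hφa, map_add, hφs]
  have hnrm : ∀ h a, nrm (ρ h a) = nrm a := fun h a => by
    rw [hρ, ← hφq, φ.apply_symm_apply, ← hφq]
    exact congrArg ιK ((σ h).2 (φ a))
  have hker : ∀ h, ρ h = 1 ↔ h ∈ Q := fun h => by
    rw [← P.ker]
    constructor
    · intro e1
      refine Subtype.ext (LinearEquiv.ext fun a => ?_)
      have h1 := Equiv.congr_fun e1 (φ.symm a)
      rw [hρ, φ.apply_symm_apply, Equiv.Perm.one_apply] at h1
      exact φ.symm.injective h1
    · intro e1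
      refine Equiv.ext fun a => ?_
      rw [hρ, e1]; exact φ.symm_apply_apply a
  obtain ⟨h0, hh0⟩ : ∃ h0, h0 ∉ M := by
    by_contra hh
    push Not at hh
    have : M = ⊤ := eq_top_iff.mpr fun a _ => hh a
    have h2 := l.index
    rw [this, Subgroup.index_top] at h2
    omega
  haveI := l.nN
  haveI := l.nM
  have hnorm : ∀ c ∈ coreK, ∃ c' ∈ coreK, ρ h0 * act c' * (ρ h0)⁻¹ = act c := by
    intro c hc
    obtain ⟨m, hm, e1⟩ := hKM c hc
    obtain ⟨c', hc', e2⟩ := hMK (h0⁻¹ * m * h0) (by simpa using l.nM.conj_mem m hm h0⁻¹)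
    refine ⟨c', hc', ?_⟩
    have h2 : ρ (h0⁻¹ * m * h0) = act c' := Equiv.ext e2
    have h1 : ρ m = act c := Equiv.ext e1
    rw [← h2, ← h1, ← map_inv, ← map_mul, ← map_mul]
    congr 1; group
  have hkeep := keep_points (ρ h0) (hnrm h0) (by
    have h := hadd h0 0 0
    rw [add_zero] at h
    exact left_eq_add.mp h) hnorm
  -- the outer element turns the scalar to a scalar
  obtain ⟨c, hc⟩ := hNs (h0 * x * h0⁻¹) (l.nN.conj_mem x hx h0)
  have hturn : ∀ a, ρ h0 (el 2 • a) = c • ρ h0 a := fun a => by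
    rw [← hxs, ← hc]
    show (ρ h0 * ρ x) a = ρ (h0 * x * h0⁻¹) (ρ h0 a)
    rw [← Equiv.Perm.mul_apply, ← map_mul, ← map_mul]
    congr 2; group
  have hcne : c ≠ 0 ∧ c ≠ 1 := by
    have hb : ∀ a b, c • a = c • b → a = b := fun a b h => by
      rw [← hc, ← hc] at h
      exact (ρ (h0 * x * h0⁻¹)).injective h
    refine ⟨fun h => ?_, fun h => hxQ ?_⟩
    · subst h
      exact v0_spec.2.2.1 (hb v0 0 (by simp))
    · subst h
      have h1 : h0 * x * h0⁻¹ ∈ Q := (hker _).mp (Equiv.ext fun a => by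
        rw [hρ, hc, one_smul, Equiv.Perm.one_apply])
      have := (inferInstance : Q.Normal).conj_mem _ h1 h0⁻¹
      simpa [mul_assoc] using this
  obtain ⟨o, c0, hc0, hh⟩ : ∃ o : Fin 3, ∃ c0 ∈ coreK, ρ h0 = oP o * act c0 := by
    have hnot : ∀ c0 ∈ coreK, ρ h0 ≠ act c0 := by
      intro c0 hc0 e1
      obtain ⟨m, hm, e2⟩ := hKM c0 hc0
      have h1 : ρ m = act c0 := Equiv.ext e2
      have h2 : ρ (m⁻¹ * h0) = 1 := by rw [map_mul, map_inv, h1, e1, inv_mul_cancel]
      have := mul_mem hm ((l.leN.trans l.leM) ((hker _).mp h2))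
      rw [mul_inv_cancel_left] at this
      exact hh0 this
    rcases k4_cases c with rfl | rfl | rfl | rfl
    · exact absurd rfl hcne.1
    · exact absurd rfl hcne.2
    · obtain ⟨A, hA, hAh⟩ := exists_mat _ (hadd h0) hturn (hnrm h0)
      obtain ⟨g, hg, hgv⟩ := exists_stab hAh fun v hv => by rw [← hA]; exact hkeep v hv
      have e1 : ρ h0 = act g := Equiv.ext fun a => (hA a).trans (hgv a).symm
      rcases stab_split hg with h | h
      · exact absurd e1 (hnot g h)
      · refine ⟨0, _, h, ?_⟩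
        rw [e1, map_mul, ← mul_assoc, act_odEl]
        rw [show oP 0 * oP 0 = 1 from Equiv.ext (oF_inv 0), one_mul]
    · obtain ⟨A, hA, hAh⟩ := exists_mat (fun a => sigF (ρ h0 a))
        (fun a b => by show sigF _ = _; rw [hadd, sig_add])
        (fun a => by
          show sigF _ = _
          rw [hturn, sig_el]
          congr 1)
        (fun a => ((oF_spec 1 _).1).trans (hnrm h0 a))
      obtain ⟨g, hg, hgv⟩ := exists_stab hAh fun v hv => by
        rw [← hA]; exact (oF_spec 1 _).2.mpr (hkeep v hv)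
      have e1 : ρ h0 = oP 1 * act g := Equiv.ext fun a => by
        rw [Equiv.Perm.mul_apply, act_apply, hgv, ← hA, oP_apply]
        exact (sigF_inv _).symm
      rcases stab_split hg with h | h
      · exact ⟨1, g, h, e1⟩
      · refine ⟨2, _, h, ?_⟩
        rw [e1, map_mul, act_odEl]
        refine Equiv.ext fun a => ?_
        show sigF (mv g a) = sigF (oddF (oddF (mv g a)))
        rw [oddF_inv]
  refine ⟨fun h => φ.symm (u h), ρ, o, P.st, P.card, ?_, ?_, ?_, ?_, ?_, hker, ?_⟩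
  · intro a ha b hb; rw [P.umul a ha b hb, hφs]
  · intro a ha
    rw [φ.symm_apply_eq, hφ0, P.uzero a ha]
  · intro a ha
    rw [P.usq a ha, ← hφq, φ.apply_symm_apply]
    exact ⟨fun h => by rw [h]; rfl, fun h => ιK_inj _ 0 h⟩
  · intro a
    obtain ⟨w, hw, e1⟩ := P.usurj (φ a)
    exact ⟨w, hw, by rw [e1, φ.symm_apply_apply]⟩
  · intro h a ha
    rw [P.uconj h a ha, hρ, φ.apply_symm_apply]
  · intro f
    constructor
    · rintro ⟨h, rfl⟩
      by_cases hm : h ∈ M
      · obtain ⟨c', hc', e1⟩ := hMK h hm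
        exact ⟨c', hc', Or.inl (Equiv.ext e1)⟩
      · have hm' : h0⁻¹ * h ∈ M := (Subgroup.mul_mem_iff_of_index_two l.index).mpr
          (by simp [hh0, hm])
        obtain ⟨c', hc', e1⟩ := hMK _ hm'
        refine ⟨c0 * c', mul_mem hc0 hc', Or.inr ?_⟩
        have e2 : ρ (h0⁻¹ * h) = act c' := Equiv.ext e1
        rw [map_mul, map_inv, inv_mul_eq_iff_eq_mul] at e2
        rw [e2, hh, map_mul, mul_assoc]
    · rintro ⟨c', hc', rfl | rfl⟩
      · obtain ⟨m, -, e1⟩ := hKM c' hc'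
        exact ⟨m, Equiv.ext e1⟩
      · obtain ⟨m, -, e1⟩ := hKM (c0⁻¹ * c') (mul_mem (inv_mem hc0) hc')
        refine ⟨h0 * m, ?_⟩
        rw [map_mul, hh, show ρ m = act (c0⁻¹ * c') from Equiv.ext e1, mul_assoc, ← map_mul,
          mul_inv_cancel_left]

end CfsgLib.LargeFischer
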