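import Cfsg.Agent.Lib.LargeFischer.Section
import Cfsg.Prelude.Def_CaseTheorems

/-!
The centraliser of the normal element of order three is a six-fold cover of the unitary group.
-/

set_option autoImplicit false
set_option maxRecDepth 100000
set_option linter.style.haveILetI false

namespace CfsgLib.LargeFischer

open CfsgLib.Extraspecial
open scoped commutatorElement
open CfsgLib.HePres (K4)
open CfsgLib.Fi22USix (V6 SU62 el vec nrm)
open CfsgLib.USixUFour (mv act coreK scalSub)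

namespace Co

variable {G : Type*} [Group G] [Finite G] {z : G} {Q : Subgroup (CZ z)} {v : CZ z → V6}
  {ρ : CZ z →* Equiv.Perm V6} {o : Fin 3} (C : Co z Q v ρ o)
include C

theorem core_centralizer [Q.Normal] {K : Type} [Field K] [Fintype K] (hK : Fintype.card K = 9) {x : CZ z}
    (hx : orderOf x = 3) (hn : (Subgroup.zpowers x ⊔ Q).Normal)
    (hex : ∃ g : G, g * z * g⁻¹ ∈ QG Q ∧ g * z * g⁻¹ ≠ z) :
    Cfsg.IsQuasisimple ↥(Subgroup.centralizer ({x} : Set (CZ z))) ∧
    IsCyclic ↥(Subgroup.center ↥(Subgroup.centralizer ({x} : Set (CZ z)))) ∧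
    Nat.card ↥(Subgroup.center ↥(Subgroup.centralizer ({x} : Set (CZ z)))) = 6 ∧
    Nonempty (↥(Subgroup.centralizer ({x} : Set (CZ z))) ⧸
      Subgroup.center ↥(Subgroup.centralizer ({x} : Set (CZ z))) ≃* Cfsg.PSU 4 K 3) := by
  classical
  obtain rfl := C.outer_two hex
  obtain ⟨a, ha0, ha1, hxa⟩ := C.scalar_of hK rfl hx hn
  obtain ⟨zc, hzc, ezc⟩ : ∃ w ∈ Q, (w : G) = z := C.st.z_mem
  have hzcc : ∀ h : CZ z, h * zc = zc * h := fun h => Subtype.ext (by
    show (h : G) * zc = zc * h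
    rw [ezc]; exact Subgroup.mem_centralizer_singleton_iff.mp h.2)
  have hx3 : x ^ 3 = 1 := hx ▸ pow_orderOf_eq_one x
  have hmeet : ∀ k ∈ Subgroup.centralizer ({x} : Set (CZ z)), k ∈ Q → k = 1 ∨ k = zc := fun k hk hq => by
    rcases C.q_meet ha1 hxa hq (Subgroup.mem_centralizer_singleton_iff.mp hk).symm with e | e
    · exact Or.inl (Subtype.ext e)
    · exact Or.inr (Subtype.ext (e.trans ezc.symm))
  have hmap : (Subgroup.centralizer ({x} : Set (CZ z))).map ρ = KKp := by
    refine le_antisymm ?_ fun f hf => ?_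
    · rintro _ ⟨h, hh, rfl⟩
      exact C.comm_linear rfl ha0 ha1 hxa (Subgroup.mem_centralizer_singleton_iff.mp hh).symm
    · obtain ⟨h, rfl⟩ := C.kkp_le hf
      obtain ⟨q, hq, e⟩ := C.lift_comm ha0 ha1 hx3 hxa h hf
      exact ⟨q * h, Subgroup.mem_centralizer_singleton_iff.mpr e.symm,
        by rw [map_mul, (C.ker q).mpr hq, one_mul]⟩
  set Cx := Subgroup.centralizer ({x} : Set (CZ z)) with hCx
  have hKle : ⁅Cx, Cx⁆ ≤ Cx := Subgroup.commutator_le.mpr fun p hp q hq => by
    rw [commutatorElement_def]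
    exact mul_mem (mul_mem (mul_mem hp hq) (inv_mem hp)) (inv_mem hq)
  have hmap' : (⁅Cx, Cx⁆).map ρ = KKp := by rw [Subgroup.map_commutator, hmap, kkp_perfect hK]
  have hzK : zc ∈ ⁅Cx, Cx⁆ := by
    by_contra hz
    exact C.no_section hex hmap' fun k hk hq =>
      (hmeet k (hKle hk) hq).resolve_right fun e => hz (e ▸ hk)
  have hperf : ⁅Cx, Cx⁆ = Cx := by
    refine le_antisymm hKle fun h hh => ?_
    obtain ⟨k, hk, ek⟩ : ρ h ∈ (⁅Cx, Cx⁆).map ρ := hmap'.symm ▸ hmap ▸ ⟨h, hh, rfl⟩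
    have hq : k⁻¹ * h ∈ Q := (C.ker _).mp (by rw [map_mul, map_inv, ek, inv_mul_cancel])
    rcases hmeet _ (mul_mem (inv_mem (hKle hk)) hh) hq with e | e
    · rw [← inv_mul_eq_one.mp e]; exact hk
    · rw [← mul_inv_cancel_left k h, e]; exact mul_mem hk hzK
  have hxm : x ∈ Cx := Subgroup.mem_centralizer_singleton_iff.mpr rfl
  have hzm : zc ∈ Cx := Subgroup.mem_centralizer_singleton_iff.mpr (hzcc x).symm
  -- the map to the core
  have hlift : ∀ h : Cx, ∃ c : coreK, act (c : SU62) = ρ h := fun h => by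
    obtain ⟨c, hc, e⟩ := hmap.le ⟨h, h.2, rfl⟩
    exact ⟨⟨c, hc⟩, e⟩
  choose f hf using hlift
  let φ : Cx →* coreK := MonoidHom.mk' f fun p q => Subtype.ext (act_inj (by
    rw [Subgroup.coe_mul, map_mul, hf, hf, hf, ← map_mul]; rfl))
  have hφs : Function.Surjective φ := fun c => by
    obtain ⟨h, hh, e⟩ := hmap.ge ⟨c, c.2, rfl⟩
    exact ⟨⟨h, hh⟩, Subtype.ext (act_inj ((hf ⟨h, hh⟩).trans e))⟩
  obtain ⟨-, π, hπ, hπk, hcen⟩ := USixUFour.core_structure (K := K) hK
  let w : Cx := ⟨x * zc, mul_mem hxm hzm⟩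
  have hw : w ∈ Subgroup.center Cx := by
    rw [Subgroup.mem_center_iff]
    intro g
    refine Subtype.ext ?_
    have hg : Commute (g : CZ z) x := Subgroup.mem_centralizer_singleton_iff.mp g.2
    exact hg.mul_right (hzcc g)
  have hzz : zc * zc = 1 := Subtype.ext (by rw [Subgroup.coe_mul, ezc, C.st.zz]; rfl)
  have hxz : Commute x zc := hzcc x
  have hpow : ∀ i j : ℕ, ((w ^ (4 * i + 3 * j) : Cx) : CZ z) = x ^ i * zc ^ j := fun i j => by
    rw [Subgroup.coe_pow, show ((w : Cx) : CZ z) = x * zc from rfl, hxz.mul_pow]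
    congr 1
    · rw [show 4 * i + 3 * j = 3 * (i + j) + i by omega, pow_add, pow_mul, hx3, one_pow, one_mul]
    · rw [show 4 * i + 3 * j = 2 * (2 * i + j) + j by omega, pow_add, pow_mul, pow_two, hzz, one_pow, one_mul]
  have hxi : ∀ n : ℕ, ∀ u, ρ (x ^ n) u = a ^ n • u := by
    intro n
    induction n with
    | zero => intro u; rw [pow_zero, map_one, pow_zero, one_smul]; rfl
    | succ n ih => intro u; rw [pow_succ', map_mul, Equiv.Perm.mul_apply, ih, hxa, smul_smul, ← pow_succ']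
  have hscal : ∀ h : Cx, h ∈ (π.comp φ).ker → h ∈ Subgroup.zpowers w := by
    intro h hh
    rw [MonoidHom.mem_ker, MonoidHom.comp_apply, ← MonoidHom.mem_ker, hπk, hcen] at hh
    obtain ⟨b, hb, hs⟩ := hh
    have hρ : ∀ u, ρ h u = b • u := fun u => by rw [← hf h]; exact hs u
    have key : ∀ a b : K4, a ≠ 0 → a ≠ 1 → b ≠ 0 → ∃ i : Fin 3, a ^ (i : ℕ) = b := by decide +kernel
    obtain ⟨i, hi⟩ : ∃ i : ℕ, a ^ i = b := (key a b ha0 ha1 hb).elim fun i e => ⟨i, e⟩
    have hq : (x ^ i)⁻¹ * h ∈ Q := (C.ker _).mp (by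
      rw [map_mul, map_inv, inv_mul_eq_one]
      exact Equiv.ext fun u => by rw [hxi, hρ, hi])
    obtain ⟨j, hj⟩ : ∃ j : ℕ, (h : CZ z) = x ^ i * zc ^ j := by
      rcases hmeet _ (mul_mem (inv_mem (pow_mem hxm i)) h.2) hq with e | e
      · exact ⟨0, by rw [pow_zero, mul_one]; exact (inv_mul_eq_one.mp e).symm⟩
      · exact ⟨1, by rw [pow_one, ← e, mul_inv_cancel_left]⟩
    rw [show h = w ^ (4 * i + 3 * j) from Subtype.ext (hj.trans (hpow i j).symm)]
    exact pow_mem (Subgroup.mem_zpowers w) _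
  have hker : (π.comp φ).ker = Subgroup.center Cx := by
    refine le_antisymm (fun h hh => Subgroup.zpowers_le.mpr hw (hscal h hh)) fun h hh => ?_
    rw [MonoidHom.mem_ker, MonoidHom.comp_apply, ← MonoidHom.mem_ker, hπk, Subgroup.mem_center_iff]
    intro c
    obtain ⟨g, rfl⟩ := hφs c
    rw [← map_mul, ← map_mul, Subgroup.mem_center_iff.mp hh g]
  have hψs : Function.Surjective (π.comp φ) := hπ.comp hφs
  let e : ↥Cx ⧸ Subgroup.center Cx ≃* Cfsg.PSU 4 K 3 :=
    (QuotientGroup.quotientMulEquivOfEq hker.symm).trans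
      (QuotientGroup.quotientKerEquivOfSurjective (π.comp φ) hψs)
  have hcentre : Subgroup.center Cx = Subgroup.zpowers w :=
    le_antisymm (fun h hh => hscal h (hker.ge hh)) (Subgroup.zpowers_le.mpr hw)
  have hw6 : orderOf w = 6 := by
    have hz2 : orderOf zc = 2 := by
      rw [← orderOf_injective (CZ z).subtype Subtype.coe_injective, show (CZ z).subtype zc = z from ezc]
      exact C.st.ordz
    rw [← orderOf_injective Cx.subtype Subtype.coe_injective]
    show orderOf (x * zc) = 6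
    rw [hxz.orderOf_mul_eq_mul_orderOf_of_coprime (by rw [hx, hz2]; norm_num), hx, hz2]
  refine ⟨⟨?_, ?_⟩, ?_, ?_, ⟨e⟩⟩
  · rw [Group.isPerfect_def, commutator_def]
    refine Subgroup.map_injective Cx.subtype_injective ?_
    rw [Subgroup.map_commutator, ← MonoidHom.range_eq_map, Subgroup.range_subtype]
    exact hperf
  · haveI := (psu_simple (K := K) hK).1
    haveI := e.toEquiv.nontrivial
    exact IsSimpleGroup.isSimpleGroup_of_surjective e.symm.toMonoidHom e.symm.surjective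
  · rw [hcentre]; infer_instance
  · rw [hcentre, Nat.card_zpowers, hw6]

end Co

end CfsgLib.LargeFischer
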