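import Cfsg.Agent.Lib.LargeFischer.Data
import Cfsg.Agent.Lib.LargeFischer.Chain
import Cfsg.Agent.Lib.USixUFour.Defs
import Cfsg.Prelude.Def_Classical

/-!
The maps behind the tables: semilinear maps of the hermitian space and the fifteen and 45 objects.
-/

set_option autoImplicit false
set_option maxRecDepth 100000

namespace CfsgLib.LargeFischer

open Matrix
open CfsgLib.HePres (K4)
open CfsgLib.Fi22USix (V6 el code vec hval nrm pr)
open CfsgLib.USixUFour (pV InP)

/-- a linear map by the codes of its columns -/
def linF (cols : List ℕ) (v : V6) : V6 := fun r =>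
  v 0 * vec (cols.getD 0 0) r + v 1 * vec (cols.getD 1 0) r + v 2 * vec (cols.getD 2 0) r +
    v 3 * vec (cols.getD 3 0) r + v 4 * vec (cols.getD 4 0) r + v 5 * vec (cols.getD 5 0) r

/-- a generator of the stabiliser of the point vector -/
def rF (k : Fin 3) : V6 → V6 := linF (rCols.getD k [])

/-- a generator of the stabiliser of the off vector -/
def xF (k : Fin 2) : V6 → V6 := linF (xCols.getD k [])

/-- the swap of the first two coordinates -/
def oddF (v : V6) : V6 := fun i => v (Equiv.swap 0 1 i)

/-- the conjugation of coordinates -/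
def sigF (v : V6) : V6 := fun i => v i * v i

/-- the three outer maps -/
def oF (o : Fin 3) : V6 → V6 :=
  if o = 0 then oddF else if o = 1 then sigF else fun v => sigF (oddF v)

/-- the point vector -/
def v0 : V6 := vec 5

/-- the off vector -/
def s0 : V6 := vec 85

/-- a basis vector -/
def bas (i : Fin 6) : V6 := Pi.single i 1

/-- one of the 45 points -/
def fam45 (i : Fin 45) : Finset V6 := pr (pV (p45.getD i 0))

/-- one of the fifteen pairs of points -/
def fam15 (i : Fin 15) : Finset V6 := pr (pV (p15.getD i (0, 0)).1) ∪ pr (pV (p15.getD i (0, 0)).2)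

/-- one of the 126 points -/
def fam126 (i : Fin 126) : Finset V6 := pr (pV i)

/-- the image of a family agrees with a table -/
def agrees {n : ℕ} (f : Fin n → Finset V6) (g : V6 → V6) (tab : List (List ℕ)) (k : ℕ) : Bool :=
  (List.finRange n).all fun i => if h : entry tab k i < n then decide ((f i).image g = f ⟨_, h⟩) else false

/-- a pair of letters -/
def pairF (i : Fin 15) : Finset (Fin 6) :=
  {Fin.ofNat 6 (pair6.getD i (0, 0)).1, Fin.ofNat 6 (pair6.getD i (0, 0)).2}

/-- a permutation of letters, as a map -/
def sixF (k : Fin 5) (a : Fin 6) : Fin 6 := Fin.ofNat 6 ((six.getD k []).getD a 0)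

/-- the indices of the six dimensional space -/
abbrev I6 : Type := (Fin 2 ⊕ Fin 2) ⊕ Fin 2

/-- the quadratic form of minus type in dimension six -/
abbrev qm : (I6 → ZMod 2) → ZMod 2 := Cfsg.quadFormMinus 2 (ZMod 2) 1 1

/-- the place of an index -/
def pos6 : I6 → ℕ
  | .inl (.inl i) => i
  | .inl (.inr i) => 2 + i
  | .inr i => 4 + i

/-- decoding -/
def dec6 (a : ℕ) : I6 → ZMod 2 := fun i => if a.testBit (pos6 i) then 1 else 0

/-- one of the singular lines -/
def lineF (i : Fin 45) : Finset (I6 → ZMod 2) :=
  {dec6 ((lines.getD i []).getD 0 0), dec6 ((lines.getD i []).getD 1 0), dec6 ((lines.getD i []).getD 2 0)}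

/-- a matrix by the codes of its columns -/
def omat (cols : List ℕ) : Matrix I6 I6 (ZMod 2) := fun r c => dec6 (cols.getD (pos6 c) 0) r

/-- the table of an isometry -/
def agreesLine (M : Matrix I6 I6 (ZMod 2)) (tab : List (List ℕ)) (k : ℕ) : Bool :=
  (List.finRange 45).all fun i =>
    if h : entry tab k i < 45 then decide ((lineF i).image (fun v => M *ᵥ v) = lineF ⟨_, h⟩) else false

end CfsgLib.LargeFischer
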