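import Cfsg.Agent.Lib.LargeFischer.SplitChecks
import Cfsg.Agent.Lib.LargeFischer.Defs

/-!
The isotropic line over the off vector (checks).
-/

set_option autoImplicit false
set_option maxRecDepth 100000

namespace CfsgLib.LargeFischer

open CfsgLib.HePres (K4)
open CfsgLib.Fi22USix (V6 el code vec hval nrm)

/-- the second vector of the line -/
def s1 : V6 := el 2 • s0

/-- the line over the off vector -/
def inLine (u : V6) : Prop := u = 0 ∨ u = s0 ∨ u = s1 ∨ u = s0 + s1

instance (u : V6) : Decidable (inLine u) := by unfold inLine; infer_instance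

/-- real part of the product -/
def trH (a u : V6) : K4 := hval a u + hval a u * hval a u

/-- the line as a list -/
def lineL : List V6 := [0, s0, s1, s0 + s1]

theorem inLine_iff (u : V6) : inLine u ↔ u ∈ lineL := by simp [inLine, lineL]

theorem line_facts : lineL.Nodup ∧ lineL.all (fun u => decide (nrm u = 0) && inW u &&
    decide (el 2 • u ∈ lineL) && decide (el 3 • u ∈ lineL) && lineL.all fun w => decide (u + w ∈ lineL)) = true ∧
    oF 2 s1 ≠ s1 ∧ el 2 • s1 = s0 + s1 ∧ trH s0 s1 = 0 ∧ s0 ≠ 0 ∧ s1 ≠ 0 ∧ s0 + s1 ≠ 0 ∧ s0 ≠ s1 := by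
  decide +kernel

theorem perp_both : (List.range 4096).all (fun n =>
    decide ((trH s0 (vec n) = 0 ∧ trH s1 (vec n) = 0) ↔ hval s0 (vec n) = 0)) = true ∧
    (List.range 4096).countP (fun n => decide (hval s0 (vec n) = 0)) = 1024 := by decide +kernel

theorem sign_pairs : ∀ a b : Bool, (List.range 4096).any (fun n =>
    decide ((trH s0 (vec n) = 0 ↔ a = true) ∧ (trH s1 (vec n) = 0 ↔ b = true))) = true := by decide +kernel

theorem line_meet : (List.range 4096).all (fun n =>
    bif inW (vec n) then (bif inW (el 3 • vec n) then decide (inLine (vec n)) else true) else true) = true := by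
  decide +kernel

theorem double_perp : (List.range 4096).all (fun n => bif decide (inLine (vec n)) then true else
    (List.range 4096).any fun k => bif decide (hval s0 (vec k) = 0 ∧ nrm (vec k) = 0) then decide (trH (vec k) (vec n) ≠ 0) else false) = true := by
  decide +kernel

end CfsgLib.LargeFischer
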