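import Cfsg.Agent.Lib.LargeFischer.ToddCoord
import Cfsg.Agent.Lib.LargeFischer.Trace
import Cfsg.Agent.Lib.LargeFischer.Finish
import Cfsg.Agent.Lib.LargeFischer.EightChecks

/-!
The four-space over an off vector: centraliser and the large 2-group.
-/

set_option autoImplicit false
set_option maxRecDepth 100000
set_option linter.style.haveILetI false

namespace CfsgLib.LargeFischer

open CfsgLib.Extraspecial
open CfsgLib.HePres (K4)
open CfsgLib.Fi22USix (V6 el code vec vec_code hval nrm)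

theorem inLine_spec {u : V6} (h : inLine u) : nrm u = 0 ∧ inW u = true ∧ inLine (el 2 • u) ∧
    inLine (el 3 • u) ∧ ∀ w, inLine w → inLine (u + w) := by
  have h1 := List.all_eq_true.mp line_facts.2.1 u ((inLine_iff u).mp h)
  simp only [Bool.and_eq_true, decide_eq_true_eq, List.all_eq_true] at h1
  obtain ⟨⟨⟨⟨a, b⟩, c⟩, d⟩, e⟩ := h1
  exact ⟨a, b, (inLine_iff _).mpr c, (inLine_iff _).mpr d, fun w hw =>
    (inLine_iff _).mpr (e w ((inLine_iff w).mp hw))⟩

theorem all_codes {p : ℕ → Bool} (h : (List.range 4096).all p = true) (u : V6) : p (code u) = true :=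
  List.all_eq_true.mp h _ (List.mem_range.mpr (code_lt' u))

theorem coreFix_full : Nat.card (coreFix s0) = 5760 := by
  classical
  obtain ⟨φ, -, hφt⟩ := exists_fam fam126 fam126_inj xGen x126Perm fun k => by rw [xGen_coe]; exact x126_agree k
  have hge := range_ge φ hφt x126_ok
  have h3 := Nat.le_of_dvd Nat.card_pos (Subgroup.card_range_dvd φ)
  have h2 := coreFix_off
  rw [← coreFix_eq] at h2 ⊢
  omega

namespace Co

variable {G : Type*} [Group G] [Finite G] {z : G} {Q : Subgroup (CZ z)} {v : CZ z → V6}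
  {ρ : CZ z →* Equiv.Perm V6} (C : Co z Q v ρ 2)
include C

/-- the elements over the line -/
def vSub : Subgroup (CZ z) where
  carrier := {q | q ∈ Q ∧ inLine (v q)}
  one_mem' := ⟨one_mem Q, by rw [C.v_one]; exact Or.inl rfl⟩
  mul_mem' := fun {a b} ha hb => ⟨mul_mem ha.1 hb.1, by
    rw [C.vmul a ha.1 b hb.1]; exact (inLine_spec ha.2).2.2.2.2 _ hb.2⟩
  inv_mem' := fun {a} ha => ⟨inv_mem ha.1, by rw [C.v_inv ha.1]; exact ha.2⟩

/-- the elements over the orthogonal space of the line -/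
def pSub : Subgroup (CZ z) where
  carrier := {q | q ∈ Q ∧ hval s0 (v q) = 0}
  one_mem' := ⟨one_mem Q, by rw [C.v_one]; decide +kernel⟩
  mul_mem' := fun {a b} ha hb => ⟨mul_mem ha.1 hb.1, by
    rw [C.vmul a ha.1 b hb.1, (hval_add (v a) (v b) s0).2, ha.2, hb.2, add_zero]⟩
  inv_mem' := fun {a} ha => ⟨inv_mem ha.1, by rw [C.v_inv ha.1]; exact ha.2⟩

theorem pre_card (P : V6 → Prop) (H : Subgroup (CZ z)) (hH : ∀ q, q ∈ H ↔ q ∈ Q ∧ P (v q)) :
    Nat.card H = Nat.card {u : V6 // P u} * 2 := by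
  classical
  choose s hs hsv using C.vsurj
  have hvz := C.zc_v
  let F : {u : V6 // P u} × Bool → H := fun p => ⟨s p.1 * cond p.2 (zc C) 1, by
    refine (hH _).mpr ⟨mul_mem (hs _) (by cases p.2 <;> [exact one_mem _; exact C.zc_mem]), ?_⟩
    cases p.2
    · rw [cond_false, mul_one, hsv]; exact p.1.2
    · rw [cond_true, C.vmul _ (hs _) _ C.zc_mem, hsv, hvz, add_zero]; exact p.1.2⟩
  have hb : Function.Bijective F := by
    constructor
    · rintro ⟨a, b⟩ ⟨a', b'⟩ e
      have e' : s a * cond b (zc C) 1 = s a' * cond b' (zc C) 1 := congrArg Subtype.val e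
      have hc0 : ∀ b : Bool, cond b (zc C) 1 ∈ Q ∧ v (cond b (zc C) 1) = 0 := fun b => by
        cases b
        · exact ⟨one_mem _, C.v_one⟩
        · exact ⟨C.zc_mem, hvz⟩
      have h1 := congrArg v e'
      rw [C.vmul _ (hs _) _ (hc0 b).1, C.vmul _ (hs _) _ (hc0 b').1, (hc0 b).2, (hc0 b').2, hsv, hsv, add_zero,
        add_zero] at h1
      obtain rfl := Subtype.ext h1
      have h2 := mul_left_cancel e'
      cases b <;> cases b' <;> first
        | rfl
        | exact absurd h2 C.zc_ne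
        | exact absurd h2.symm C.zc_ne
    · rintro ⟨q, hq⟩
      obtain ⟨hq, hu⟩ := (hH q).mp hq
      rcases C.eq_cases' (hs (v q)) hq (hsv (v q)) with e | e
      · exact ⟨(⟨v q, hu⟩, false), Subtype.ext (by
          show s (v q) * 1 = q
          rw [mul_one]; exact e.symm)⟩
      · exact ⟨(⟨v q, hu⟩, true), Subtype.ext (by
          show s (v q) * zc C = q
          exact (C.zc_comm _).trans e.symm)⟩
  rw [← Nat.card_eq_of_bijective F hb, Nat.card_prod, Nat.card_eq_fintype_card (α := Bool), Fintype.card_bool]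

theorem vSub_card : Nat.card C.vSub = 8 := by
  rw [C.pre_card inLine C.vSub fun q => Iff.rfl,
    Nat.card_congr (Equiv.subtypeEquivRight fun u => (inLine_iff u).trans List.mem_toFinset.symm),
    Nat.card_eq_finsetCard, List.toFinset_card_of_nodup line_facts.1]
  rfl

theorem pSub_card : Nat.card C.pSub = 2 ^ 11 := by
  rw [C.pre_card (fun u => hval s0 u = 0) C.pSub fun q => Iff.rfl,
    Nat.card_congr (Equiv.subtypeEquivRight fun u => show hval s0 u = 0 ↔
      (fun n => decide (hval s0 (vec n) = 0)) (code u) = true by simp [vec_code]),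
    USixUFour.count_vec (fun n => decide (hval s0 (vec n) = 0)), perp_both.2]
  norm_num

theorem vSub_sq {q : CZ z} (hq : q ∈ C.vSub) : q * q = 1 :=
  Subtype.ext ((C.vsq q hq.1).mpr (inLine_spec hq.2).1)

end Co

/-- a frame over the off vector: a conjugate of the central involution and the scalar -/
structure Oct {G : Type*} [Group G] [Finite G] {z : G} {Q : Subgroup (CZ z)} {v : CZ z → V6}
    {ρ : CZ z →* Equiv.Perm V6} (C : Co z Q v ρ 2) (g : G) (t x : CZ z) : Prop where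
  pair : Pair (QG Q) z g
  mem : t ∈ Q
  eq : (t : G) = g * z * g⁻¹
  v_eq : v t = s0
  x3 : x ^ 3 = 1
  scal : ∀ u, ρ x u = el 2 • u

namespace Oct

variable {G : Type*} [Group G] [Finite G] {z : G} {Q : Subgroup (CZ z)} {v : CZ z → V6}
  {ρ : CZ z →* Equiv.Perm V6} {C : Co z Q v ρ 2} {g : G} {t x : CZ z} (O : Oct C g t x) [Q.Normal]
include O

theorem mem1 : x * t * x⁻¹ ∈ Q := (inferInstance : Q.Normal).conj_mem t O.mem x

theorem v1 : v (x * t * x⁻¹) = s1 := by rw [C.vconj x t O.mem, O.scal, O.v_eq]; rfl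

theorem mem_vSub : t ∈ C.vSub ∧ x * t * x⁻¹ ∈ C.vSub :=
  ⟨⟨O.mem, Or.inr (Or.inl O.v_eq)⟩, ⟨O.mem1, Or.inr (Or.inr (Or.inl O.v1))⟩⟩

theorem vSub_cases {q : CZ z} (hq : q ∈ C.vSub) :
    ∃ w, (w = 1 ∨ w = t ∨ w = x * t * x⁻¹ ∨ w = t * (x * t * x⁻¹)) ∧ (q = w ∨ q = Co.zc C * w) := by
  rcases hq.2 with e | e | e | e
  · exact ⟨1, Or.inl rfl, C.eq_cases' (one_mem Q) hq.1 (by rw [C.v_one, e])⟩
  · exact ⟨t, Or.inr (Or.inl rfl), C.eq_cases' O.mem hq.1 (by rw [O.v_eq, e])⟩
  · exact ⟨_, Or.inr (Or.inr (Or.inl rfl)), C.eq_cases' O.mem1 hq.1 (by rw [O.v1, e])⟩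
  · exact ⟨_, Or.inr (Or.inr (Or.inr rfl)), C.eq_cases' (mul_mem O.mem O.mem1) hq.1
      (by rw [C.vmul _ O.mem _ O.mem1, O.v_eq, O.v1, e])⟩

/-- the centraliser of the four-space -/
def cSub (_O : Oct C g t x) : Subgroup (CZ z) := Subgroup.centralizer {t, x * t * x⁻¹}

theorem mem_cSub {h : CZ z} :
    h ∈ O.cSub ↔ h * t = t * h ∧ h * (x * t * x⁻¹) = x * t * x⁻¹ * h := by
  simp only [cSub, Subgroup.mem_centralizer_iff, Set.mem_insert_iff, Set.mem_singleton_iff, forall_eq_or_imp,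
    forall_eq]
  exact ⟨fun h => ⟨h.1.symm, h.2.symm⟩, fun h => ⟨h.1.symm, h.2.symm⟩⟩

theorem cSub_comm {h q : CZ z} (hh : h ∈ O.cSub) (hq : q ∈ C.vSub) : h * q = q * h := by
  obtain ⟨h1, h2⟩ := O.mem_cSub.mp hh
  obtain ⟨w, hw, hqw⟩ := O.vSub_cases hq
  have hw' : Commute h w := by
    rcases hw with rfl | rfl | rfl | rfl
    · exact Commute.one_right h
    · exact h1
    · exact h2
    · exact (show Commute h t from h1).mul_right h2
  rcases hqw with rfl | rfl
  · exact hw'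
  · exact (show Commute h (Co.zc C) from C.zc_comm h).mul_right hw'

theorem inter_Q {q : CZ z} : q ∈ Q ∧ q ∈ O.cSub ↔ q ∈ C.pSub := by
  have key : q ∈ Q → (q ∈ O.cSub ↔ hval s0 (v q) = 0) := fun hq => by
    have ht2 := congrArg Subtype.val (C.vSub_sq O.mem_vSub.1)
    have ht2' := congrArg Subtype.val (C.vSub_sq O.mem_vSub.2)
    have a := C.comm_iff O.mem hq ht2
    have b := C.comm_iff O.mem1 hq ht2'
    rw [O.v_eq] at a
    rw [O.v1] at b
    have h3 := all_codes perp_both.1 (v q)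
    simp only [vec_code, decide_eq_true_eq, trH] at h3
    rw [O.mem_cSub, ← h3, a, b]
    exact ⟨fun h => ⟨congrArg Subtype.val h.1.symm, congrArg Subtype.val h.2.symm⟩,
      fun h => ⟨Subtype.ext h.1.symm, Subtype.ext h.2.symm⟩⟩
  exact ⟨fun h => ⟨h.1, (key h.1).mp h.2⟩, fun h => ⟨h.1, (key h.1).mpr h.2⟩⟩

/-- the image of the centraliser -/
theorem image_iff {f : Equiv.Perm V6} : f ∈ coreFix s0 ↔ ∃ h ∈ O.cSub, ρ h = f := by
  classical
  constructor
  · intro hf
    obtain ⟨h0, rfl⟩ := C.kkp_le hf.1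
    have hfix : ρ h0 s0 = s0 := hf.2
    have hfix1 : ρ h0 s1 = s1 := by rw [s1, kkp_smul hf.1, hfix]
    have hc : ∀ w ∈ Q, v w ≠ 0 → ρ h0 (v w) = v w →
        h0 * w * h0⁻¹ = w ∨ h0 * w * h0⁻¹ = Co.zc C * w := fun w hw _ e =>
      C.eq_cases' hw ((inferInstance : Q.Normal).conj_mem w hw h0) (by rw [C.vconj h0 w hw, e])
    have c0 := hc t O.mem (by rw [O.v_eq]; exact line_facts.2.2.2.2.2.1) (by rw [O.v_eq]; exact hfix)
    have c1 := hc _ O.mem1 (by rw [O.v1]; exact line_facts.2.2.2.2.2.2.1) (by rw [O.v1]; exact hfix1)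
    obtain ⟨n, -, hn⟩ := List.any_eq_true.mp (sign_pairs (decide (h0 * t * h0⁻¹ = t))
      (decide (h0 * (x * t * x⁻¹) * h0⁻¹ = x * t * x⁻¹)))
    simp only [decide_eq_true_eq] at hn
    obtain ⟨q, hq, eq⟩ := C.vsurj (vec n)
    rw [← eq] at hn
    refine ⟨q * h0, O.mem_cSub.mpr ?_, by rw [map_mul, (C.ker q).mpr hq, one_mul]⟩
    have move : ∀ {w : CZ z}, w ∈ C.vSub → (trH (v w) (v q) = 0 ↔ h0 * w * h0⁻¹ = w) →
        (h0 * w * h0⁻¹ = w ∨ h0 * w * h0⁻¹ = Co.zc C * w) → q * h0 * w = w * (q * h0) := by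
      intro w hw hiff hcases
      have hci := C.comm_iff hw.1 hq (congrArg Subtype.val (C.vSub_sq hw))
      refine mul_inv_eq_iff_eq_mul.mp ?_
      rw [show q * h0 * w * (q * h0)⁻¹ = q * (h0 * w * h0⁻¹) * q⁻¹ by group]
      rcases hcases with e | e
      · rw [e]
        have h1 : (w : G) * q = q * w := hci.mp (hiff.mpr e)
        exact Subtype.ext (mul_inv_eq_iff_eq_mul.mpr h1.symm)
      · rw [e]
        have hne : h0 * w * h0⁻¹ ≠ w := fun e' => C.zc_ne (mul_eq_right.mp (e.symm.trans e'))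
        have hqw : ¬ ((q : G) * w * (q : G)⁻¹ = w) := fun h1 =>
          hne (hiff.mp (hci.mpr (mul_inv_eq_iff_eq_mul.mp h1).symm))
        have h2 := (C.st.comm_cases (mem_QG hq) (mem_QG hw.1)).resolve_left hqw
        refine Subtype.ext ?_
        show (q : G) * (z * w) * (q : G)⁻¹ = w
        have hqz : (q : G) * z = z * q := C.st.z_comm (mem_QG hq)
        calc (q : G) * (z * w) * (q : G)⁻¹ = z * ((q : G) * w * (q : G)⁻¹) := by rw [← mul_assoc, hqz]; group
          _ = w := by rw [h2, ← mul_assoc, C.st.zz, one_mul]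
    refine ⟨move O.mem_vSub.1 (by rw [O.v_eq]; exact hn.1) c0, move O.mem_vSub.2 (by rw [O.v1]; exact hn.2) c1⟩
  · rintro ⟨h, hh, rfl⟩
    obtain ⟨h1, h2⟩ := O.mem_cSub.mp hh
    have e0 : ρ h s0 = s0 := by rw [← O.v_eq, ← C.vconj h t O.mem, h1, mul_inv_cancel_right]
    have e1 : ρ h s1 = s1 := by rw [← O.v1, ← C.vconj h _ O.mem1, h2, mul_inv_cancel_right]
    rcases C.shape.fix_split (oF_fix 2).2 (show ρ h ∈ fixIn ρ.range s0 from ⟨⟨h, rfl⟩, e0⟩) with hf | hf
    · exact hf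
    · exfalso
      refine line_facts.2.2.1 ?_
      have h3 : (oP 2 * ρ h) s1 = el 2 • (oP 2 * ρ h) s0 := kkp_smul hf.1 (el 2) s0
      rw [show (oP 2 * ρ h) s0 = s0 from hf.2, Equiv.Perm.mul_apply, e1] at h3
      exact h3

theorem cSub_card : Nat.card O.cSub = 2 ^ 11 * 5760 := by
  let r := ρ.comp O.cSub.subtype
  have hrange : r.range = coreFix s0 := by
    ext f
    rw [O.image_iff]
    exact ⟨fun ⟨h, e⟩ => ⟨h, h.2, e⟩, fun ⟨h, hh, e⟩ => ⟨⟨h, hh⟩, e⟩⟩
  have hker : Nat.card r.ker = 2 ^ 11 := by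
    rw [← C.pSub_card]
    exact Nat.card_congr
      { toFun := fun h => ⟨h.1.1, O.inter_Q.mp ⟨(C.ker _).mp h.2, h.1.2⟩⟩
        invFun := fun h => ⟨⟨h.1, (O.inter_Q.mpr h.2).2⟩, (C.ker _).mpr h.2.1⟩
        left_inv := fun h => rfl
        right_inv := fun h => rfl }
  rw [Subgroup.card_eq_card_quotient_mul_card_subgroup r.ker,
    Nat.card_congr (QuotientGroup.quotientKerEquivRange r).toEquiv, hrange, hker, coreFix_full, mul_comm]

/-- the large 2-group -/
def rSub (O : Oct C g t x) : Subgroup (CZ z) := O.cSub ⊓ ((Co.PH Q g).map ρ).comap ρ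

theorem six_hom : ∃ φ : ↥O.cSub →* alternatingGroup (Fin 6),
    Function.Surjective φ ∧ φ.ker = O.rSub.subgroupOf O.cSub ∧ Nat.card O.rSub = 2 ^ 15 ∧
      IsPGroup 2 O.rSub := by
  classical
  obtain ⟨hle, hn, hp, -, -, -⟩ := C.trace_spec O.pair O.mem O.eq
  have h32 := C.trace_ge O.pair O.mem O.eq
  rw [O.v_eq] at hle hn
  obtain ⟨-, hE, π, hπ, hπk, -⟩ := off_structure C.shape _ hle hn hp h32
  let f : ↥O.cSub →* ↥(fixIn ρ.range s0) :=
    (ρ.comp O.cSub.subtype).codRestrict _ fun h =>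
      C.shape.fix_mem (O.image_iff.mpr ⟨h, h.2, rfl⟩)
  have hker : (π.comp f).ker = O.rSub.subgroupOf O.cSub := by
    rw [← MonoidHom.comap_ker, hπk]
    ext h
    exact ⟨fun e => ⟨h.2, e⟩, fun e => e.2⟩
  have hrange : f.range = (coreFix s0).subgroupOf (fixIn ρ.range s0) := by
    ext k
    rw [Subgroup.mem_subgroupOf, O.image_iff]
    exact ⟨fun ⟨h, e⟩ => ⟨h, h.2, congrArg Subtype.val e⟩, fun ⟨h, hh, e⟩ => ⟨⟨h, hh⟩, Subtype.ext e⟩⟩
  have hA6 : Nat.card (alternatingGroup (Fin 6)) = 360 := by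
    rw [nat_card_alternatingGroup, Nat.card_fin]; decide +kernel
  have h180 : 180 ≤ Nat.card (π.comp f).range := by
    rw [MonoidHom.range_comp, hrange]
    set K := (coreFix s0).subgroupOf (fixIn ρ.range s0)
    have hK : Nat.card K = 5760 := by
      rw [Nat.card_congr (Subgroup.subgroupOfEquivOfLe fun _ h => C.shape.fix_mem h).toEquiv, coreFix_full]
    let π' := π.comp K.subtype
    have hs := Subgroup.card_eq_card_quotient_mul_card_subgroup π'.ker
    rw [Nat.card_congr (QuotientGroup.quotientKerEquivRange π').toEquiv, hK,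
      show π'.range = K.map π by rw [MonoidHom.range_comp, Subgroup.range_subtype]] at hs
    have h2 : Nat.card π'.ker ≤ 32 := by
      rw [← hE]
      refine Nat.card_le_card_of_injective (fun a => ⟨((a.1 : fixIn ρ.range s0) : Equiv.Perm V6), ?_⟩) fun a b e => ?_
      · have : (a.1 : fixIn ρ.range s0) ∈ π.ker := a.2
        rw [hπk] at this
        exact this
      · exact Subtype.ext (Subtype.ext (Subtype.ext (congrArg Subtype.val e :)))
    have := Nat.mul_le_mul_left (Nat.card (K.map π)) h2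
    omega
  have htop : (π.comp f).range = ⊤ := by
    haveI : IsSimpleGroup (alternatingGroup (Fin 6)) := alternatingGroup.isSimpleGroup (by simp)
    by_contra hne
    have hidx := (π.comp f).range.card_mul_index
    rw [hA6] at hidx
    have h1 : (π.comp f).range.index ≠ 1 := fun e => hne (Subgroup.index_eq_one.mp e)
    have h0 : (π.comp f).range.index ≠ 0 := Subgroup.index_ne_zero_of_finite
    have h3 : (π.comp f).range.index ≤ 2 := by
      by_contra h4
      have := Nat.mul_le_mul h180 (Nat.not_le.mp h4)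
      omega
    have h2 : (π.comp f).range.index = 2 := by omega
    rcases (Subgroup.normal_of_index_eq_two h2).eq_bot_or_eq_top with e | e
    · rw [e, Subgroup.card_bot] at h180
      omega
    · exact hne e
  have hs := Subgroup.card_eq_card_quotient_mul_card_subgroup (π.comp f).ker
  have hsub : O.rSub ≤ O.cSub := inf_le_left
  rw [Nat.card_congr (QuotientGroup.quotientKerEquivRange (π.comp f)).toEquiv, htop, Subgroup.card_top, hA6,
    hker, O.cSub_card, Nat.card_congr (Subgroup.subgroupOfEquivOfLe hsub).toEquiv] at hs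
  have h15 : Nat.card O.rSub = 2 ^ 15 := by omega
  haveI := Fact.mk Nat.prime_two
  exact ⟨π.comp f, MonoidHom.range_eq_top.mp htop, hker, h15, IsPGroup.of_card h15⟩

end Oct

end CfsgLib.LargeFischer
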