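import Mathlib
import Cfsg.Prelude.Def_Transfer

/-!
A Sylow group with a single largest elementary abelian subgroup.
-/

set_option autoImplicit false
set_option linter.style.haveILetI false

namespace CfsgLib.LargeFischer

variable {G H : Type*} [Group G] [Group H]

/-- involutory subgroups are commutative -/
theorem sq_commute {A : Subgroup G} (hA : ∀ a ∈ A, a * a = 1) {a b : G} (ha : a ∈ A) (hb : b ∈ A) :
    a * b = b * a := by
  have hinv : ∀ r ∈ A, r⁻¹ = r := fun r hr => inv_eq_of_mul_eq_one_right (hA r hr)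
  calc a * b = (a * b)⁻¹ := (hinv _ (mul_mem ha hb)).symm
    _ = b * a := by rw [mul_inv_rev, hinv a ha, hinv b hb]

/-- the bound and uniqueness pass to an injective image -/
theorem largest_map (e : H →* G) (he : Function.Injective e) {T A : Subgroup H} {n : ℕ}
    (h : ∀ B ≤ T, (∀ b ∈ B, b * b = 1) → Nat.card B ≤ n ∧ (Nat.card B = n → B = A)) :
    ∀ B ≤ T.map e, (∀ b ∈ B, b * b = 1) → Nat.card B ≤ n ∧ (Nat.card B = n → B = A.map e) := by
  intro B hB hB2
  have hle : B.comap e ≤ T := fun x hx => by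
    obtain ⟨y, hy, ey⟩ := hB hx
    exact he ey ▸ hy
  have hmap : (B.comap e).map e = B := Subgroup.map_comap_eq_self fun b hb => by
    obtain ⟨y, -, ey⟩ := hB hb
    exact ⟨y, ey⟩
  have hc : Nat.card ↥(B.comap e) = Nat.card B := by
    conv_rhs => rw [← hmap, Subgroup.card_map_of_injective he]
  obtain ⟨h1, h2⟩ := h (B.comap e) hle fun b hb => he (by rw [map_mul, map_one]; exact hB2 _ hb)
  rw [hc] at h1 h2
  exact ⟨h1, fun eq => by rw [← hmap, h2 eq]⟩

/-- the Thompson subgroup is the largest one -/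
theorem thompson_eq {T A : Subgroup G} (hAT : A ≤ T) (hA : ∀ a ∈ A, a * a = 1)
    (h : ∀ B ≤ T, (∀ b ∈ B, b * b = 1) → Nat.card B ≤ Nat.card A ∧ (Nat.card B = Nat.card A → B = A)) :
    Cfsg.thompsonSubgroupOf 2 T = A := by
  have hmap : (A.subgroupOf T).map T.subtype = A := Subgroup.map_subgroupOf_eq_of_le hAT
  have hcard : Nat.card ↥(A.subgroupOf T) = Nat.card A := Nat.card_congr (Subgroup.subgroupOfEquivOfLe hAT).toEquiv
  have helem : Cfsg.IsElementaryAbelian 2 (A.subgroupOf T) := by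
    refine ⟨⟨⟨fun a b => Subtype.ext (Subtype.ext (sq_commute hA a.2 b.2))⟩⟩, fun a ha => ?_⟩
    rw [pow_two]; exact Subtype.ext (hA _ ha)
  have hset : Cfsg.maxElementaryAbelianSubgroups 2 T = {A.subgroupOf T} := by
    ext B
    rw [Set.mem_singleton_iff]
    have hb : ∀ B : Subgroup T, Cfsg.IsElementaryAbelian 2 B → Nat.card B ≤ Nat.card A ∧
        (Nat.card B = Nat.card A → B = A.subgroupOf T) := by
      intro B hB
      have hc : Nat.card ↥(B.map T.subtype) = Nat.card B := Subgroup.card_map_of_injective T.subtype_injective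
      obtain ⟨h1, h2⟩ := h (B.map T.subtype) (by rintro _ ⟨b, -, rfl⟩; exact b.2) (by
        rintro _ ⟨b, hb, rfl⟩
        rw [← map_mul, ← pow_two, hB.2 b hb, map_one])
      rw [hc] at h1 h2
      exact ⟨h1, fun e => Subgroup.map_injective T.subtype_injective ((h2 e).trans hmap.symm)⟩
    refine ⟨fun ⟨hB, hmax⟩ => (hb B hB).2 (le_antisymm (hb B hB).1 (hcard ▸ hmax _ helem)), ?_⟩
    rintro rfl
    exact ⟨helem, fun B hB => hcard.symm ▸ (hb B hB).1⟩
  rw [Cfsg.thompsonSubgroupOf, Cfsg.thompsonSubgroup, hset, sSup_singleton, hmap]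

/-- the normaliser controls fusion in the unique one -/
theorem normalizer_fusion [Finite G] (T : Sylow 2 G) {A : Subgroup G} (hA : ∀ a ∈ A, a * a = 1)
    (huniq : ∀ B ≤ (T : Subgroup G), (∀ b ∈ B, b * b = 1) → Nat.card B = Nat.card A → B = A) {a : G} (ha : a ∈ A)
    (g : G) (hg : g * a * g⁻¹ ∈ A) : ∃ m ∈ Subgroup.normalizer (A : Set G), m * a * m⁻¹ = g * a * g⁻¹ := by
  haveI := Fact.mk Nat.prime_two
  set b := g * a * g⁻¹ with hb
  set C := Subgroup.centralizer ({b} : Set G) with hC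
  let A' : Subgroup G := A.map (MulAut.conj g).toMonoidHom
  have hA' : ∀ x ∈ A', x * x = 1 := by
    rintro _ ⟨x, hx, rfl⟩
    rw [← map_mul, hA x hx, map_one]
  have hc1 : A ≤ C := fun x hx => Subgroup.mem_centralizer_singleton_iff.mpr (sq_commute hA hx hg)
  have hc2 : A' ≤ C := fun x hx =>
    Subgroup.mem_centralizer_singleton_iff.mpr (sq_commute hA' hx ⟨a, ha, rfl⟩)
  have hp : ∀ B : Subgroup G, (∀ x ∈ B, x * x = 1) → IsPGroup 2 (B.subgroupOf C) := fun B hB x =>
    ⟨1, Subtype.ext (Subtype.ext (by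
      show ((((x : ↥C) ^ 2 ^ 1 : ↥C)) : G) = 1
      rw [pow_one, pow_two]; exact hB _ x.2))⟩
  obtain ⟨P1, hP1⟩ := (hp A hA).exists_le_sylow
  obtain ⟨P2, hP2⟩ := (hp A' hA').exists_le_sylow
  obtain ⟨c, hc⟩ := MulAction.exists_smul_eq C P2 P1
  obtain ⟨T', hT'⟩ := (P1.isPGroup'.map C.subtype).exists_le_sylow
  obtain ⟨h, hh⟩ := MulAction.exists_smul_eq G T T'
  have key : ∀ B ≤ (T' : Subgroup G), (∀ x ∈ B, x * x = 1) → Nat.card B = Nat.card A →
      B = A.map (MulAut.conj h).toMonoidHom := by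
    intro B hB hB2 hBc
    have e := huniq (B.map (MulAut.conj h⁻¹).toMonoidHom) (by
      rintro _ ⟨x, hx, rfl⟩
      have hx' : x ∈ ((h • T : Sylow 2 G) : Subgroup G) := hh.symm ▸ hB hx
      rw [Sylow.coe_subgroup_smul, Subgroup.mem_pointwise_smul_iff_inv_smul_mem] at hx'
      rw [map_inv]
      exact hx') (by
      rintro _ ⟨x, hx, rfl⟩
      rw [← map_mul, hB2 x hx, map_one]) ((Subgroup.card_map_of_injective (MulAut.conj h⁻¹).injective).trans hBc)
    rw [← e, Subgroup.map_map]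
    ext x
    simp [Subgroup.mem_map, mul_assoc]
  have e1 := key A (fun x hx => hT' ⟨⟨x, hc1 hx⟩, hP1 hx, rfl⟩) hA rfl
  let A2 : Subgroup G := A.map (MulAut.conj ((c : G) * g)).toMonoidHom
  have e2 := key A2 (by
    rintro _ ⟨x, hx, rfl⟩
    have h1 : (⟨g * x * g⁻¹, hc2 ⟨x, hx, rfl⟩⟩ : C) ∈ (P2 : Subgroup C) := hP2 ⟨x, hx, rfl⟩
    have h2 : c * ⟨g * x * g⁻¹, hc2 ⟨x, hx, rfl⟩⟩ * c⁻¹ ∈ (P1 : Subgroup C) := by
      rw [← hc, Sylow.coe_subgroup_smul, Subgroup.mem_pointwise_smul_iff_inv_smul_mem]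
      show (MulAut.conj c)⁻¹ (c * _ * c⁻¹) ∈ _
      rw [MulAut.conj_inv_apply]
      simpa [mul_assoc] using h1
    have h3 := hT' ⟨_, h2, rfl⟩
    show (c : G) * g * x * ((c : G) * g)⁻¹ ∈ _
    simpa [mul_assoc] using h3) (by
    rintro _ ⟨x, hx, rfl⟩
    rw [← map_mul, hA x hx, map_one]) (Subgroup.card_map_of_injective (MulAut.conj _).injective)
  have e3 : A2 = A := e2.trans e1.symm
  refine ⟨(c : G) * g, Subgroup.mem_normalizer_iff.mpr fun x => ?_, ?_⟩
  · constructor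
    · intro hx
      exact e3.le ⟨x, hx, rfl⟩
    · intro hx
      obtain ⟨y, hy, ey⟩ := e3.ge hx
      exact (MulAut.conj ((c : G) * g)).injective ey ▸ hy
  · have hcb : (c : G) * b = b * c := Subgroup.mem_centralizer_singleton_iff.mp c.2
    calc (c : G) * g * a * ((c : G) * g)⁻¹ = (c : G) * b * (c : G)⁻¹ := by rw [hb]; group
      _ = b := by rw [hcb, mul_inv_cancel_right]

end CfsgLib.LargeFischer
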