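import Cfsg.Agent.S4231

/-!
The linear group of three dimensions over two elements: transvections, and extensions of the alternating group
of six letters by it.
-/

set_option autoImplicit false
set_option linter.style.haveILetI false

namespace CfsgLib.LargeFischer

open Matrix

/-- the linear group of the quotient -/
abbrev SL3 : Type := Matrix.SpecialLinearGroup (Fin 3) (ZMod 2)

theorem det_eq_one {M : Matrix (Fin 3) (Fin 3) (ZMod 2)} (h : M.det ≠ 0) : M.det = 1 :=
  (by decide : ∀ a : ZMod 2, a ≠ 0 → a = 1) _ h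

/-- an elementary transvection -/
def tv (i j : Fin 3) (h : i ≠ j) : SL3 :=
  ⟨Matrix.transvection i j 1, Matrix.det_transvection_of_ne i j h 1⟩

theorem sl3_gen (H : Subgroup SL3) (hH : ∀ i j : Fin 3, ∀ h : i ≠ j, tv i j h ∈ H) : H = ⊤ := by
  refine eq_top_iff.mpr fun A _ => ?_
  suffices h : ∀ M : Matrix (Fin 3) (Fin 3) (ZMod 2), ∀ hM : M.det = 1, (⟨M, hM⟩ : SL3) ∈ H from h A.1 A.2
  intro M hM
  have key : ∀ N : Matrix (Fin 3) (Fin 3) (ZMod 2), N.det ≠ 0 → ∃ B ∈ H, (B : SL3).1 = N := by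
    intro N hN
    refine Matrix.diagonal_transvection_induction_of_det_ne_zero
      (fun N => ∃ B ∈ H, (B : SL3).1 = N) N hN (fun D hD => ?_) (fun t => ?_) ?_
    · refine ⟨1, one_mem _, ?_⟩
      show (1 : Matrix (Fin 3) (Fin 3) (ZMod 2)) = diagonal D
      rw [← Matrix.diagonal_one]
      refine congrArg diagonal (funext fun k => ((by decide : ∀ a : ZMod 2, a ≠ 0 → a = 1) _ fun e => hD ?_).symm)
      rw [Matrix.det_diagonal]
      exact Finset.prod_eq_zero (Finset.mem_univ k) e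
    · rcases (by decide : ∀ a : ZMod 2, a = 0 ∨ a = 1) t.c with e | e
      · refine ⟨1, one_mem _, ?_⟩
        show (1 : Matrix (Fin 3) (Fin 3) (ZMod 2)) = t.toMatrix
        rw [Matrix.TransvectionStruct.toMatrix, e, Matrix.transvection_zero]
      · exact ⟨_, hH t.i t.j t.hij, by rw [Matrix.TransvectionStruct.toMatrix, e]; rfl⟩
    · rintro X Y - - ⟨B, hB, rfl⟩ ⟨C, hC, rfl⟩
      exact ⟨B * C, mul_mem hB hC, rfl⟩
  obtain ⟨B, hB, eB⟩ := key M (by rw [hM]; exact one_ne_zero)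
  rwa [show (⟨M, hM⟩ : SL3) = B from Subtype.ext eB.symm]

theorem tv_square : ∀ i j : Fin 3, i ≠ j → ∃ r : Fin 512,
    (Matrix.of fun a b : Fin 3 => if (r : ℕ).testBit (3 * a + b) then (1 : ZMod 2) else 0) *
      (Matrix.of fun a b : Fin 3 => if (r : ℕ).testBit (3 * a + b) then (1 : ZMod 2) else 0) =
      Matrix.transvection i j 1 := by
  decide +kernel

theorem squares_gen {L : Type*} [Group L] (S : Subgroup L) (ψ : L →* SL3) (hψ : ∀ s : SL3, ∃ l ∈ S, ψ l = s)
    {T : Subgroup L} (hT : ∀ l ∈ S, l * l ∈ T) : ∀ s : SL3, ∃ l ∈ T, ψ l = s := by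
  intro s
  have h : T.map ψ = ⊤ := sl3_gen _ fun i j hij => by
    obtain ⟨r, hr⟩ := tv_square i j hij
    set M := (Matrix.of fun a b : Fin 3 => if (r : ℕ).testBit (3 * a + b) then (1 : ZMod 2) else 0)
    have hd : M.det = 1 := det_eq_one fun e => by
      have := congrArg Matrix.det hr
      rw [Matrix.det_mul, e, zero_mul, Matrix.det_transvection_of_ne i j hij] at this
      exact zero_ne_one this
    obtain ⟨l, hl, el⟩ := hψ ⟨M, hd⟩
    exact ⟨l * l, hT l hl, by rw [map_mul, el]; exact Subtype.ext hr⟩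
  exact Subgroup.mem_map.mp (h.symm ▸ Subgroup.mem_top s)

/-- every automorphism from the extension is inner -/
theorem inner_all {L : Type*} [Group L] (ψ : L →* SL3) (hψ : Function.Surjective ψ)
    (θ : L →* MulAut (alternatingGroup (Fin 6)))
    (hker : ∀ l ∈ ψ.ker, θ l ∈ (MulAut.conj : alternatingGroup (Fin 6) →* _).range) (l : L) :
    θ l ∈ (MulAut.conj : alternatingGroup (Fin 6) →* MulAut (alternatingGroup (Fin 6))).range := by
  classical
  set P := ((MulAut.conjNormal : Equiv.Perm (Fin 6) →* MulAut (alternatingGroup (Fin 6))).range).comap θ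
  set I := ((MulAut.conj : alternatingGroup (Fin 6) →* MulAut (alternatingGroup (Fin 6))).range).comap θ
  have h1 : ∀ a ∈ (⊤ : Subgroup L), a * a ∈ P := fun a _ => by
    obtain ⟨σ, hσ⟩ := CfsgLib.AutAlternating.eq_conj_of_three (by norm_num) (θ a * θ a)
      (fun x hx => Cfsg.Agent.S4231.three_of_sq (θ a) x hx)
    exact ⟨σ, by rw [hσ, map_mul]⟩
  have h2 : ∀ a ∈ P, a * a ∈ I := fun a ha => by
    obtain ⟨σ, hσ⟩ := ha
    refine ⟨⟨σ * σ, by rw [Equiv.Perm.mem_alternatingGroup, map_mul]; exact Int.units_mul_self _⟩, ?_⟩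
    rw [map_mul θ a a, ← hσ, ← map_mul MulAut.conjNormal σ σ]
    refine MulEquiv.ext fun x => Subtype.ext ?_
    rw [MulAut.conjNormal_apply]
    rfl
  obtain ⟨k, hk, ek⟩ := squares_gen P ψ (squares_gen ⊤ ψ (fun s => (hψ s).imp fun x hx => ⟨trivial, hx⟩) h1) h2 (ψ l)
  have h3 : k⁻¹ * l ∈ ψ.ker := by rw [MonoidHom.mem_ker, map_mul, map_inv, ek, inv_mul_cancel]
  rw [show l = k * (k⁻¹ * l) by group, map_mul]
  exact mul_mem hk (hker _ h3)

theorem nonzero_trans : ∀ v : Fin 3 → ZMod 2, v ≠ 0 → ∃ r : Fin 512,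
    (Matrix.of fun a b : Fin 3 => if (r : ℕ).testBit (3 * a + b) then (1 : ZMod 2) else 0).det = 1 ∧
    (Matrix.of fun a b : Fin 3 => if (r : ℕ).testBit (3 * a + b) then (1 : ZMod 2) else 0) *ᵥ ![1, 0, 0] = v := by
  decide +kernel

theorem nonzero_count : Fintype.card {v : Fin 3 → ZMod 2 // v ≠ 0} = 7 := by decide +kernel

theorem e0_ne : (![1, 0, 0] : Fin 3 → ZMod 2) ≠ 0 := by decide

/-- there is no normal 2-subgroup -/
theorem sl3_two {N : Subgroup SL3} (hn : N.Normal) (hN : IsPGroup 2 N) : N = ⊥ := by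
  classical
  haveI := Fact.mk Nat.prime_two
  let X := {v : Fin 3 → ZMod 2 // v ≠ 0}
  have hX : Nat.card X = 7 := by rw [Nat.card_eq_fintype_card]; convert nonzero_count
  letI : MulAction SL3 X :=
    { smul := fun A v => ⟨A.1 *ᵥ v.1, fun e => v.2 (by
        have h := congrArg ((A⁻¹ : SL3).1 *ᵥ ·) e
        simp only [Matrix.mulVec_mulVec, Matrix.mulVec_zero] at h
        rwa [← Matrix.SpecialLinearGroup.coe_mul, inv_mul_cancel, Matrix.SpecialLinearGroup.coe_one,
          Matrix.one_mulVec] at h)⟩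
      one_smul := fun v => Subtype.ext (by
        show (1 : SL3).1 *ᵥ v.1 = v.1
        rw [Matrix.SpecialLinearGroup.coe_one, Matrix.one_mulVec])
      mul_smul := fun A B v => Subtype.ext (by
        show (A * B : SL3).1 *ᵥ v.1 = A.1 *ᵥ (B.1 *ᵥ v.1)
        rw [Matrix.mulVec_mulVec, Matrix.SpecialLinearGroup.coe_mul]) }
  letI : MulAction N X := MulAction.compHom X N.subtype
  obtain ⟨b, hb⟩ := hN.nonempty_fixed_point_of_prime_not_dvd_card X (by rw [hX]; norm_num)
  have htr : ∀ v : X, ∃ A : SL3, A • b = v := by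
    intro v
    obtain ⟨r, hr, er⟩ := nonzero_trans v.1 v.2
    obtain ⟨r', hr', er'⟩ := nonzero_trans b.1 b.2
    let A1 : SL3 := ⟨_, hr⟩
    let A2 : SL3 := ⟨_, hr'⟩
    let e0 : X := ⟨![1, 0, 0], e0_ne⟩
    refine ⟨A1 * A2⁻¹, ?_⟩
    have e2 : A2 • e0 = b := Subtype.ext er'
    rw [← e2, ← mul_smul, inv_mul_cancel_right]
    exact Subtype.ext er
  refine eq_bot_iff.mpr fun A hA => ?_
  have hfix : ∀ v : X, A.1 *ᵥ v.1 = v.1 := by
    intro v
    obtain ⟨B, rfl⟩ := htr v
    have h : (B⁻¹ * A * B) • b = b := hb ⟨B⁻¹ * A * B, by simpa using hn.conj_mem A hA B⁻¹⟩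
    rw [mul_smul, mul_smul, inv_smul_eq_iff] at h
    exact congrArg Subtype.val h
  refine Subgroup.mem_bot.mpr (Subtype.ext (Matrix.toLin'.injective (LinearMap.ext fun v => ?_)))
  rw [Matrix.toLin'_apply, Matrix.toLin'_apply, Matrix.SpecialLinearGroup.coe_one, Matrix.one_mulVec]
  by_cases hv : v = 0
  · rw [hv, Matrix.mulVec_zero]
  · exact hfix ⟨v, hv⟩

end CfsgLib.LargeFischer
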