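import Cfsg.Agent.Lib.LargeFischer.Eight
import Cfsg.Agent.Lib.LargeFischer.LocalSL3
import Cfsg.Agent.Lib.LargeFischer.FusionThompson

/-!
The normaliser of the four-space acts as the linear group of three dimensions.
-/

set_option autoImplicit false
set_option maxRecDepth 100000
set_option linter.style.haveILetI false

namespace CfsgLib.LargeFischer

open CfsgLib.Extraspecial
open CfsgLib.HePres (K4)
open CfsgLib.Fi22USix (V6 el code vec vec_code hval nrm)

theorem inf_card_le {G : Type*} [Group G] [Finite G] (H K : Subgroup G) :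
    Nat.card H * Nat.card K ≤ Nat.card ↥(H ⊔ K) * Nat.card ↥(H ⊓ K) := by
  have h1 : Nat.card H = Nat.card ↥(H ⊓ K) * K.relIndex H := by
    rw [← Subgroup.relIndex_bot_left (H := H), ← Subgroup.relIndex_bot_left (H := H ⊓ K), inf_comm,
      ← Subgroup.inf_relIndex_right K H, Subgroup.relIndex_mul_relIndex ⊥ (K ⊓ H) H bot_le inf_le_right]
  have h2 : Nat.card ↥(H ⊔ K) = Nat.card K * K.relIndex (H ⊔ K) := by
    rw [← Subgroup.relIndex_bot_left (H := H ⊔ K), ← Subgroup.relIndex_bot_left (H := K),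
      Subgroup.relIndex_mul_relIndex ⊥ K (H ⊔ K) bot_le le_sup_right]
  have h3 : K.relIndex H ≤ K.relIndex (H ⊔ K) :=
    Subgroup.relIndex_le_of_le_right le_sup_left (Subgroup.index_ne_zero_of_finite)
  rw [h1, h2]
  calc Nat.card ↥(H ⊓ K) * K.relIndex H * Nat.card K
      ≤ Nat.card ↥(H ⊓ K) * K.relIndex (H ⊔ K) * Nat.card K :=
        Nat.mul_le_mul_right _ (Nat.mul_le_mul_left _ h3)
    _ = _ := by ring

/-- words giving the transvections -/
def tvWords (e : Bool) : List (Fin 3 × Fin 3 × List (Fin 4)) :=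
  if e then [(0, 1, [0]), (0, 2, [1]), (1, 0, [1, 3, 1]), (1, 2, [1, 3, 1, 3]), (2, 0, [3, 2, 3, 2]), (2, 1, [1, 3, 1, 3, 2])]
  else [(0, 1, [0]), (0, 2, [1]), (1, 0, [3]), (1, 2, [1, 3, 1, 3]), (2, 0, [2, 3, 2, 2]), (2, 1, [1, 3, 1, 3, 2])]

/-- the images of the four kinds of elements, by columns -/
def genMat (e : Bool) : Fin 4 → Matrix (Fin 3) (Fin 3) (ZMod 2)
  | 0 => (Matrix.of ![![1, 0, 0], ![1, 1, 0], ![0, 0, 1]]).transpose
  | 1 => (Matrix.of ![![1, 0, 0], ![0, 1, 0], ![1, 0, 1]]).transpose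
  | 2 => (Matrix.of ![![1, 0, 0], ![0, 0, 1], ![0, 1, 1]]).transpose
  | 3 => (Matrix.of ![![1, 1, 0], ![0, 1, 0], ![0, cond e 1 0, 1]]).transpose

theorem tvWords_ok : ∀ e : Bool, ∀ i j : Fin 3, i ≠ j → (tvWords e).any (fun p =>
    decide (p.1 = i ∧ p.2.1 = j ∧ (p.2.2.map (genMat e)).prod = Matrix.transvection i j 1)) = true := by
  decide +kernel

/-- subgroups with the four kinds of elements are everything -/
theorem sl3_four (H : Subgroup SL3) (e : Bool) (h : ∀ k : Fin 4, ∃ A ∈ H, (A : SL3).1 = genMat e k) : H = ⊤ := by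
  refine sl3_gen H fun i j hij => ?_
  obtain ⟨p, -, hp⟩ := List.any_eq_true.mp (tvWords_ok e i j hij)
  rw [decide_eq_true_eq] at hp
  have key : ∀ l : List (Fin 4), ∃ A ∈ H, (A : SL3).1 = (l.map (genMat e)).prod := by
    intro l
    induction l with
    | nil => exact ⟨1, one_mem _, Matrix.SpecialLinearGroup.coe_one⟩
    | cons k l ih =>
      obtain ⟨A, hA, eA⟩ := h k
      obtain ⟨B, hB, eB⟩ := ih
      exact ⟨A * B, mul_mem hA hB, by rw [Matrix.SpecialLinearGroup.coe_mul, eA, eB, List.map_cons, List.prod_cons]⟩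
  obtain ⟨A, hA, eA⟩ := key p.2.2
  rwa [show tv i j hij = A from Subtype.ext (hp.2.2.symm.trans eA.symm)]

namespace Co

variable {G : Type*} [Group G] [Finite G] {z : G} {Q : Subgroup (CZ z)} {v : CZ z → V6}
  {ρ : CZ z →* Equiv.Perm V6} (C : Co z Q v ρ 2)

/-- a conjugate of the extraspecial group -/
abbrev QA (Q : Subgroup (CZ z)) (g : G) : Subgroup G := (QG Q).map (MulAut.conj g).toMonoidHom

theorem mem_QA {g a : G} : a ∈ QA Q g ↔ g⁻¹ * a * g ∈ QG Q := by
  constructor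
  · rintro ⟨q, hq, rfl⟩
    simpa [mul_assoc] using hq
  · exact fun h => ⟨_, h, by simp [mul_assoc]⟩

theorem QA_one : QA Q (1 : G) = QG Q := by
  ext a; rw [mem_QA, inv_one, one_mul, mul_one]

theorem QA_mul (y g : G) : QA Q (y * g) = (QA Q g).map (MulAut.conj y).toMonoidHom := by
  ext a
  rw [mem_QA]
  constructor
  · intro h
    exact ⟨y⁻¹ * a * y, mem_QA.mpr (by rwa [show g⁻¹ * (y⁻¹ * a * y) * g = (y * g)⁻¹ * a * (y * g) by group]),
      by simp [mul_assoc]⟩
  · rintro ⟨b, hb, rfl⟩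
    have h := mem_QA.mp hb
    simpa [mul_assoc] using h

include C in
theorem QA_congr {g h : G} (e : g * z * g⁻¹ = h * z * h⁻¹) : QA Q g = QA Q h := by
  have hk : h⁻¹ * g ∈ Subgroup.normalizer (QG Q : Set G) := C.st.cz (Subgroup.mem_centralizer_singleton_iff.mpr (by
    calc h⁻¹ * g * z = h⁻¹ * (g * z * g⁻¹) * g := by group
      _ = z * (h⁻¹ * g) := by rw [e]; group))
  ext a
  rw [mem_QA, mem_QA, Subgroup.mem_normalizer_iff.mp hk (g⁻¹ * a * g),
    show h⁻¹ * g * (g⁻¹ * a * g) * (h⁻¹ * g)⁻¹ = h⁻¹ * a * h by group]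

end Co

namespace Oct

open Co (QA mem_QA QA_one QA_mul)

variable {G : Type*} [Group G] [Finite G] {z : G} {Q : Subgroup (CZ z)} {v : CZ z → V6}
  {ρ : CZ z →* Equiv.Perm V6} {C : Co z Q v ρ 2} {g : G} {t x : CZ z} (O : Oct C g t x) [Q.Normal]

/-- the four-space in the whole group -/
def eight (_O : Oct C g t x) : Subgroup G := C.vSub.map (CZ z).subtype

include O

theorem eight_mem {a : G} : a ∈ O.eight ↔ ∃ q ∈ C.vSub, (q : G) = a := Iff.rfl

theorem eight_card : Nat.card O.eight = 8 :=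
  (Subgroup.card_map_of_injective (CZ z).subtype_injective).trans C.vSub_card

theorem eight_z : z ∈ O.eight := ⟨Co.zc C, ⟨C.zc_mem, Or.inl C.zc_v⟩, rfl⟩

theorem eight_sq {a : G} (ha : a ∈ O.eight) : a * a = 1 := by
  obtain ⟨q, hq, rfl⟩ := ha
  exact congrArg Subtype.val (C.vSub_sq hq)

theorem eight_le_Q : O.eight ≤ QG Q := Subgroup.map_mono fun _ h => h.1

theorem eight_comm {a b : G} (ha : a ∈ O.eight) (hb : b ∈ O.eight) : a * b = b * a :=
  sq_commute (fun _ h => O.eight_sq h) ha hb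

/-- the centraliser in the whole group -/
theorem cent_eight : Subgroup.centralizer (O.eight : Set G) = O.cSub.map (CZ z).subtype := by
  ext y
  rw [Subgroup.mem_centralizer_iff]
  constructor
  · intro hy
    have hyz : y ∈ CZ z := Subgroup.mem_centralizer_singleton_iff.mpr (hy z O.eight_z).symm
    exact ⟨⟨y, hyz⟩, O.mem_cSub.mpr ⟨Subtype.ext (hy _ ⟨t, O.mem_vSub.1, rfl⟩).symm,
      Subtype.ext (hy _ ⟨_, O.mem_vSub.2, rfl⟩).symm⟩, rfl⟩
  · rintro ⟨h, hh, rfl⟩ _ ⟨q, hq, rfl⟩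
    exact (congrArg Subtype.val (O.cSub_comm hh hq)).symm

theorem eight_le_QA : O.eight ≤ QA Q g := by
  rintro _ ⟨q, hq, rfl⟩
  obtain ⟨p, hp, hpg, ep⟩ := (C.trace_inW O.pair O.mem O.eq O.v_eq (v q)).mp (inLine_spec hq.2).2.1
  rcases C.eq_cases' hp hq.1 ep with rfl | rfl
  · exact hpg
  · exact mul_mem O.pair.mem' hpg

theorem x_norm : (x : G) ∈ Subgroup.normalizer (O.eight : Set G) := by
  refine Subgroup.mem_normalizer_fintype (S := (O.eight : Set G)) fun a ha => ?_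
  obtain ⟨q, hq, rfl⟩ := ha
  exact ⟨x * q * x⁻¹, ⟨(inferInstance : Q.Normal).conj_mem q hq.1 x, by
    rw [C.vconj x q hq.1, O.scal]; exact (inLine_spec hq.2).2.2.1⟩, rfl⟩

theorem eight_le_QA1 : O.eight ≤ QA Q ((x : G) * g) := fun a ha => by
  rw [QA_mul]
  exact ⟨(x : G)⁻¹ * a * x, O.eight_le_QA
    ((Subgroup.mem_normalizer_iff''.mp O.x_norm a).mp ha), by simp [mul_assoc]⟩

theorem conj1 : ((x * t * x⁻¹ : CZ z) : G) = ((x : G) * g) * z * ((x : G) * g)⁻¹ := by
  show (x : G) * t * (x : G)⁻¹ = _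
  rw [O.eq]; group

theorem q_norm {q : CZ z} (hq : q ∈ Q) : (q : G) ∈ Subgroup.normalizer (O.eight : Set G) := by
  refine Subgroup.mem_normalizer_fintype (S := (O.eight : Set G)) fun a ha => ?_
  rcases C.st.comm_cases (mem_QG hq) (O.eight_le_Q ha) with e | e <;> rw [e]
  · exact ha
  · exact mul_mem O.eight_z ha

/-- the element moving the central involution -/
theorem exists_u : ∃ u : G, u ∈ Subgroup.normalizer (O.eight : Set G) ∧ u * z * u⁻¹ = z * t ∧
    u * t * u⁻¹ = t ∧ ∀ a ∈ O.eight, u * a * u⁻¹ = a ∨ u * a * u⁻¹ = t * a := by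
  obtain ⟨u, hu, h1, h2, -⟩ := O.pair.exists_swap'
  have hm : ∀ a ∈ O.eight, u * a * u⁻¹ = a ∨ u * a * u⁻¹ = t * a := fun a ha => by
    rw [O.eq]; exact O.pair.s'.comm_cases hu (O.eight_le_QA ha)
  refine ⟨u, Subgroup.mem_normalizer_fintype (S := (O.eight : Set G)) fun a ha => ?_, by rw [h2, O.eq],
    by rw [O.eq]; exact h1, hm⟩
  rcases hm a ha with e | e <;> rw [e]
  · exact ha
  · exact mul_mem ⟨t, O.mem_vSub.1, rfl⟩ ha

/-- coordinates -/
noncomputable def vec3 (_O : Oct C g t x) (a : Fin 3 → ZMod 2) : G :=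
  (if a 0 = 0 then 1 else z) * (if a 1 = 0 then 1 else (t : G)) *
    (if a 2 = 0 then 1 else ((x * t * x⁻¹ : CZ z) : G))

theorem vec3_mem (a : Fin 3 → ZMod 2) : O.vec3 a ∈ O.eight := by
  unfold vec3
  refine mul_mem (mul_mem ?_ ?_) ?_ <;> split_ifs <;>
    first
      | exact one_mem _
      | exact O.eight_z
      | exact ⟨_, O.mem_vSub.1, rfl⟩
      | exact ⟨_, O.mem_vSub.2, rfl⟩

theorem vec3_add (a b : Fin 3 → ZMod 2) : O.vec3 (a + b) = O.vec3 a * O.vec3 b := by
  have hp : ∀ w ∈ O.eight, ∀ c d : ZMod 2,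
      (if c + d = 0 then (1 : G) else w) = (if c = 0 then 1 else w) * (if d = 0 then 1 else w) := by
    intro w hw c d
    have h2 := O.eight_sq hw
    revert c d
    intro c d
    rcases (by decide : ∀ a : ZMod 2, a = 0 ∨ a = 1) c with rfl | rfl <;>
      rcases (by decide : ∀ a : ZMod 2, a = 0 ∨ a = 1) d with rfl | rfl <;>
      simp [h2, show (1 : ZMod 2) + 1 = 0 by decide]
  have hmem : ∀ w ∈ O.eight, ∀ c : ZMod 2, (if c = 0 then (1 : G) else w) ∈ O.eight := fun w hw c => by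
    split_ifs
    · exact one_mem _
    · exact hw
  have h0 : z ∈ O.eight := O.eight_z
  have h1 : (t : G) ∈ O.eight := ⟨_, O.mem_vSub.1, rfl⟩
  have h2 : ((x * t * x⁻¹ : CZ z) : G) ∈ O.eight := ⟨_, O.mem_vSub.2, rfl⟩
  simp only [vec3, Pi.add_apply, hp z h0, hp _ h1, hp _ h2]
  rw [Commute.mul_mul_mul_comm (O.eight_comm (hmem _ h0 _) (hmem _ h1 _)),
    Commute.mul_mul_mul_comm (O.eight_comm (mul_mem (hmem _ h0 _) (hmem _ h1 _)) (hmem _ h2 _))]

theorem vec3_bij : Function.Bijective (fun a => (⟨O.vec3 a, O.vec3_mem a⟩ : O.eight)) := by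
  classical
  have hsurj : Function.Surjective (fun a => (⟨O.vec3 a, O.vec3_mem a⟩ : O.eight)) := by
    rintro ⟨_, q, hq, rfl⟩
    obtain ⟨w, hw, hqw⟩ := O.vSub_cases hq
    have hex : ∀ i : ZMod 2, ∃ a, O.vec3 a = (if i = 0 then (1 : G) else z) * (w : G) := by
      intro i
      rcases hw with rfl | rfl | rfl | rfl
      · exact ⟨![i, 0, 0], by by_cases hi : i = 0 <;> simp [vec3, hi, mul_assoc]⟩
      · exact ⟨![i, 1, 0], by by_cases hi : i = 0 <;> simp [vec3, hi, mul_assoc]⟩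
      · exact ⟨![i, 0, 1], by by_cases hi : i = 0 <;> simp [vec3, hi, mul_assoc]⟩
      · exact ⟨![i, 1, 1], by by_cases hi : i = 0 <;> simp [vec3, hi, mul_assoc]⟩
    rcases hqw with rfl | rfl
    · obtain ⟨a, ha⟩ := hex 0
      exact ⟨a, Subtype.ext (by simpa using ha)⟩
    · obtain ⟨a, ha⟩ := hex 1
      refine ⟨a, Subtype.ext ?_⟩
      show O.vec3 a = z * (w : G)
      rw [ha, if_neg one_ne_zero]
  exact (Nat.bijective_iff_surjective_and_card _).mpr ⟨hsurj, by
    rw [O.eight_card, Nat.card_eq_fintype_card]; rfl⟩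

/-- the action on the four-space -/
theorem exists_action : ∃ ψ : ↥(Subgroup.normalizer (O.eight : Set G)) →* SL3,
    Function.Surjective ψ ∧ ∀ (l : ↥(Subgroup.normalizer (O.eight : Set G))) a,
      (l : G) * O.vec3 a * (l : G)⁻¹ = O.vec3 ((ψ l).1.mulVec a) := by
  classical
  set L := Subgroup.normalizer (O.eight : Set G)
  have hinj : Function.Injective O.vec3 := fun a b e => O.vec3_bij.1 (Subtype.ext e)
  have hex : ∀ (l : L) a, ∃ b, O.vec3 b = (l : G) * O.vec3 a * (l : G)⁻¹ := fun l a =>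
    (O.vec3_bij.2 ⟨_, (Subgroup.mem_normalizer_iff.mp l.2 _).mp (O.vec3_mem a)⟩).imp fun b hb =>
      congrArg Subtype.val hb
  choose f hf using hex
  let F : L → (Fin 3 → ZMod 2) →+ (Fin 3 → ZMod 2) := fun l => AddMonoidHom.mk' (f l) fun a b => hinj (by
    rw [hf, O.vec3_add, O.vec3_add, hf, hf]; group)
  let M : L → Matrix (Fin 3) (Fin 3) (ZMod 2) := fun l => LinearMap.toMatrix' ((F l).toZModLinearMap 2)
  have hM : ∀ (l : L) a, (M l).mulVec a = f l a := fun l a => by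
    rw [← Matrix.toLin'_apply, Matrix.toLin'_toMatrix']
    rfl
  have hmul : ∀ l l', M (l * l') = M l * M l' := fun l l' =>
    Matrix.toLin'.injective (LinearMap.ext fun a => by
      rw [Matrix.toLin'_apply, Matrix.toLin'_apply, ← Matrix.mulVec_mulVec, hM, hM, hM]
      refine hinj ?_
      rw [hf, hf, hf, Subgroup.coe_mul]; group)
  have hone : M 1 = 1 := Matrix.toLin'.injective (LinearMap.ext fun a => by
    rw [Matrix.toLin'_apply, Matrix.toLin'_apply, Matrix.one_mulVec, hM]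
    refine hinj ?_
    rw [hf, OneMemClass.coe_one]; group)
  have hdet : ∀ l, (M l).det = 1 := fun l => det_eq_one fun e => by
    have h := congrArg Matrix.det (hmul l l⁻¹)
    rw [mul_inv_cancel, hone, Matrix.det_one, Matrix.det_mul, e, zero_mul] at h
    exact one_ne_zero h
  let ψ : L →* SL3 := MonoidHom.mk' (fun l => ⟨M l, hdet l⟩) fun l l' => Subtype.ext (hmul l l')
  have hψ : ∀ (l : L) a, (l : G) * O.vec3 a * (l : G)⁻¹ = O.vec3 ((ψ l).1.mulVec a) := fun l a => by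
    rw [show (ψ l).1.mulVec a = f l a from hM l a, hf]
  refine ⟨ψ, ?_, hψ⟩
  have hcol : ∀ {l : L} {N : Matrix (Fin 3) (Fin 3) (ZMod 2)},
      (∀ j : Fin 3, (l : G) * O.vec3 (Pi.single j 1) * (l : G)⁻¹ = O.vec3 (fun i => N i j)) → (ψ l).1 = N := by
    intro l N h
    funext i j
    have e := hinj ((hψ l (Pi.single j 1)).symm.trans (h j))
    have e' := congrFun e i
    rwa [Matrix.mulVec_single_one] at e'
  have ez : O.vec3 (Pi.single 0 1) = z := by simp [vec3]
  have et : O.vec3 (Pi.single 1 1) = (t : G) := by simp [vec3]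
  have e1 : O.vec3 (Pi.single 2 1) = ((x * t * x⁻¹ : CZ z) : G) := by simp [vec3]
  set t1 : CZ z := x * t * x⁻¹ with ht1
  have hcz : ∀ h : CZ z, (h : G) * z * (h : G)⁻¹ = z := fun h => by
    rw [Subgroup.mem_centralizer_singleton_iff.mp h.2, mul_inv_cancel_right]
  have hgen0 : ∀ a b : Bool, ∃ q : L, ((q : G) * z * (q : G)⁻¹ = z) ∧
      ((q : G) * t * (q : G)⁻¹ = if a then (t : G) else z * t) ∧
      ((q : G) * t1 * (q : G)⁻¹ = if b then (t1 : G) else z * t1) := by
    intro a b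
    obtain ⟨n, -, hn⟩ := List.any_eq_true.mp (sign_pairs a b)
    simp only [decide_eq_true_eq] at hn
    obtain ⟨q, hq, eq⟩ := C.vsurj (vec n)
    rw [← eq] at hn
    refine ⟨⟨q, O.q_norm hq⟩, hcz q, ?_, ?_⟩
    all_goals
      have move : ∀ (w : CZ z) (a : Bool), w ∈ C.vSub → (trH (v w) (v q) = 0 ↔ a = true) →
          (q : G) * w * (q : G)⁻¹ = if a then (w : G) else z * w := by
        intro w a hw hiff
        have hci := C.comm_iff hw.1 hq (congrArg Subtype.val (C.vSub_sq hw))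
        cases a
        · simp only [Bool.false_eq_true, if_false]
          exact (C.st.comm_cases (mem_QG hq) (mem_QG hw.1)).resolve_left fun h =>
            Bool.false_ne_true (hiff.mp (hci.mpr (mul_inv_eq_iff_eq_mul.mp h).symm))
        · simp only [if_true]
          exact mul_inv_eq_iff_eq_mul.mpr (hci.mp (hiff.mpr rfl)).symm
    · exact move t a O.mem_vSub.1 (by rw [O.v_eq]; exact hn.1)
    · exact move t1 b O.mem_vSub.2 (by rw [O.v1]; exact hn.2)
  have hT : ∀ k : Fin 2, ∃ l : L, (ψ l).1 = genMat false (k.castLE (by norm_num)) ∧ ∀ e, genMat e (k.castLE (by norm_num)) = genMat false (k.castLE (by norm_num)) := by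
    intro k
    fin_cases k
    · obtain ⟨q, hz, ht', h1⟩ := hgen0 false true
      refine ⟨q, hcol fun j => ?_, fun e => rfl⟩
      fin_cases j
      · show (q : G) * O.vec3 (Pi.single 0 1) * (q : G)⁻¹ = _
        rw [ez, hz]; simp [vec3, genMat]
      · show (q : G) * O.vec3 (Pi.single 1 1) * (q : G)⁻¹ = _
        rw [et, ht']; simp [vec3, genMat]
      · show (q : G) * O.vec3 (Pi.single 2 1) * (q : G)⁻¹ = _
        rw [e1, h1]; simp [vec3, genMat, ht1]
    · obtain ⟨q, hz, ht', h1⟩ := hgen0 true false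
      refine ⟨q, hcol fun j => ?_, fun e => rfl⟩
      fin_cases j
      · show (q : G) * O.vec3 (Pi.single 0 1) * (q : G)⁻¹ = _
        rw [ez, hz]; simp [vec3, genMat]
      · show (q : G) * O.vec3 (Pi.single 1 1) * (q : G)⁻¹ = _
        rw [et, ht']; simp [vec3, genMat]
      · show (q : G) * O.vec3 (Pi.single 2 1) * (q : G)⁻¹ = _
        rw [e1, h1]; simp [vec3, genMat, ht1]
  -- the scalar
  have hX : ∃ l : L, (ψ l).1 = genMat false 2 := by
    have hv : v (x * t1 * x⁻¹) = s0 + s1 := by rw [C.vconj x t1 O.mem1, O.scal, ht1, O.v1]; exact line_facts.2.2.2.1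
    obtain ⟨q, hz, ht', h1⟩ := hgen0 true false
    rcases C.eq_cases' (mul_mem O.mem O.mem1) ((inferInstance : Q.Normal).conj_mem t1 O.mem1 x)
      (by rw [hv, C.vmul _ O.mem _ O.mem1, O.v_eq, O.v1]) with e | e
    · refine ⟨⟨x, O.x_norm⟩, hcol fun j => ?_⟩
      fin_cases j
      · show (x : G) * O.vec3 (Pi.single 0 1) * (x : G)⁻¹ = _
        rw [ez, hcz]; simp [vec3, genMat]
      · show (x : G) * O.vec3 (Pi.single 1 1) * (x : G)⁻¹ = _
        rw [et]; simp [vec3, genMat]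
      · show (x : G) * O.vec3 (Pi.single 2 1) * (x : G)⁻¹ = _
        rw [e1, show (x : G) * t1 * (x : G)⁻¹ = ((t * t1 : CZ z) : G) from congrArg Subtype.val e]
        simp [vec3, genMat, ht1]
    · refine ⟨⟨x, O.x_norm⟩ * q, hcol fun j => ?_⟩
      have hq : ∀ w : G, ((⟨x, O.x_norm⟩ * q : L) : G) * w * ((⟨x, O.x_norm⟩ * q : L) : G)⁻¹ =
          (x : G) * ((q : G) * w * (q : G)⁻¹) * (x : G)⁻¹ := fun w => by
        rw [Subgroup.coe_mul]; group
      fin_cases j
      · show _ * O.vec3 (Pi.single 0 1) * _ = _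
        rw [hq, ez, hz, hcz]; simp [vec3, genMat]
      · show _ * O.vec3 (Pi.single 1 1) * _ = _
        rw [hq, et, ht']; simp [vec3, genMat, ht1]
      · show _ * O.vec3 (Pi.single 2 1) * _ = _
        rw [hq, e1, h1]
        simp only [Bool.false_eq_true, if_false]
        rw [show (x : G) * (z * t1) * (x : G)⁻¹ = ((x : G) * z * (x : G)⁻¹) * ((x : G) * t1 * (x : G)⁻¹) by group, hcz,
          show (x : G) * t1 * (x : G)⁻¹ = ((Co.zc C * (t * t1) : CZ z) : G) from congrArg Subtype.val e]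
        show z * (z * ((t : G) * t1)) = _
        rw [← mul_assoc z z, C.st.zz, one_mul]
        simp [vec3, genMat, ht1]
  obtain ⟨u, hu, huz, hut, hua⟩ := O.exists_u
  have hU : ∃ e, ∃ l : L, (ψ l).1 = genMat e 3 := by
    have h2 := hua t1 ⟨t1, O.mem_vSub.2, rfl⟩
    rcases h2 with h | h
    · refine ⟨false, ⟨u, hu⟩, hcol fun j => ?_⟩
      fin_cases j
      · show u * O.vec3 (Pi.single 0 1) * u⁻¹ = _
        rw [ez, huz]; simp [vec3, genMat]
      · show u * O.vec3 (Pi.single 1 1) * u⁻¹ = _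
        rw [et, hut]; simp [vec3, genMat]
      · show u * O.vec3 (Pi.single 2 1) * u⁻¹ = _
        rw [e1, h]; simp [vec3, genMat, ht1]
    · refine ⟨true, ⟨u, hu⟩, hcol fun j => ?_⟩
      fin_cases j
      · show u * O.vec3 (Pi.single 0 1) * u⁻¹ = _
        rw [ez, huz]; simp [vec3, genMat]
      · show u * O.vec3 (Pi.single 1 1) * u⁻¹ = _
        rw [et, hut]; simp [vec3, genMat]
      · show u * O.vec3 (Pi.single 2 1) * u⁻¹ = _
        rw [e1, h]; simp [vec3, genMat, ht1]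
  obtain ⟨e, lu, hlu⟩ := hU
  rw [← MonoidHom.range_eq_top]
  refine sl3_four _ e fun k => ?_
  fin_cases k
  · obtain ⟨l, hl, he⟩ := hT 0
    exact ⟨ψ l, ⟨l, rfl⟩, hl.trans (he e).symm⟩
  · obtain ⟨l, hl, he⟩ := hT 1
    exact ⟨ψ l, ⟨l, rfl⟩, hl.trans (he e).symm⟩
  · obtain ⟨l, hl⟩ := hX
    exact ⟨ψ l, ⟨l, rfl⟩, hl⟩
  · exact ⟨ψ lu, ⟨lu, rfl⟩, hlu⟩

end Oct

end CfsgLib.LargeFischer
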