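import Cfsg.Agent.Lib.LargeFischer.EightSpecial

/-!
The four-space local subgroup: a special 2-group extended by a direct product of two simple groups.
-/

set_option autoImplicit false
set_option maxRecDepth 100000
set_option linter.style.haveILetI false

namespace CfsgLib.LargeFischer

open CfsgLib.Extraspecial
open CfsgLib.Fi22USix (V6 el)
open scoped commutatorElement

theorem a6_card : Nat.card (alternatingGroup (Fin 6)) = 360 := by
  rw [nat_card_alternatingGroup, Nat.card_fin]; decide +kernel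

theorem a6_no_two {N : Subgroup (alternatingGroup (Fin 6))} (hn : N.Normal) (hN : IsPGroup 2 N) : N = ⊥ := by
  haveI := Fact.mk Nat.prime_two
  haveI : IsSimpleGroup (alternatingGroup (Fin 6)) := alternatingGroup.isSimpleGroup (by simp)
  refine hn.eq_bot_or_eq_top.resolve_right fun e => ?_
  subst e
  obtain ⟨n, hn⟩ := IsPGroup.iff_card.mp hN
  rw [Subgroup.card_top, a6_card] at hn
  have h5 : 5 ∣ 2 ^ n := hn ▸ (by norm_num : 5 ∣ 360)
  exact absurd ((Nat.prime_dvd_prime_iff_eq (by norm_num) Nat.prime_two).mp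
    ((by norm_num : Nat.Prime 5).dvd_of_dvd_pow h5)) (by norm_num)

theorem a6_center {a : alternatingGroup (Fin 6)} (h : ∀ b, a * b = b * a) : a = 1 := by
  haveI : IsSimpleGroup (alternatingGroup (Fin 6)) := alternatingGroup.isSimpleGroup (by simp)
  have hmem : a ∈ Subgroup.center (alternatingGroup (Fin 6)) := Subgroup.mem_center_iff.mpr fun b => (h b).symm
  rcases (inferInstance : (Subgroup.center (alternatingGroup (Fin 6))).Normal).eq_bot_or_eq_top with e | e
  · rwa [e, Subgroup.mem_bot] at hmem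
  · exfalso
    have hc : ∀ u v : alternatingGroup (Fin 6), u * v = v * u := fun u v =>
      (Subgroup.mem_center_iff.mp (e.ge (Subgroup.mem_top u)) v).symm
    have h1 : ∀ u : alternatingGroup (Fin 6), ∀ v : alternatingGroup (Fin 6), IsConj u v → u = v := by
      intro u v huv
      obtain ⟨c, rfl⟩ := isConj_iff.mp huv
      rw [hc c u, mul_inv_cancel_right]
    have := alternatingGroup.isThreeCycle_isConj (α := Fin 6) (by rw [Nat.card_fin]; norm_num)
      (σ := ⟨Equiv.swap 0 1 * Equiv.swap 1 2, Equiv.Perm.mem_alternatingGroup.mpr (by decide)⟩) (τ := ⟨Equiv.swap 3 4 * Equiv.swap 4 5, Equiv.Perm.mem_alternatingGroup.mpr (by decide)⟩)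
      (CfsgLib.AutAlternating.isThree_tc (α := Fin 6) (a := 0) (b := 1) (c := 2) (by decide) (by decide) (by decide))
      (CfsgLib.AutAlternating.isThree_tc (α := Fin 6) (a := 3) (b := 4) (c := 5) (by decide) (by decide) (by decide))
    exact absurd (congrArg Subtype.val (h1 _ _ this)) (by decide +kernel)

/-- the local subgroup -/
theorem exists_eight {G : Type*} [Group G] [Finite G] (z : G)
    (Q : Subgroup (Subgroup.centralizer ({z} : Set G))) [Q.Normal] (hF : Cfsg.IsOfLargeFischerTypeAt z Q) :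
    ∃ V : Subgroup G, Cfsg.IsElementaryAbelian 2 V ∧ Nat.card V = 8 ∧ z ∈ V ∧ ∃ R : Subgroup G,
      R = (Cfsg.pCore 2 ↥(Subgroup.normalizer (V : Set G))).map (Subgroup.normalizer (V : Set G)).subtype ∧
      Cfsg.IsSpecial 2 ↥R ∧ Nat.card R = 2 ^ 15 ∧ (Subgroup.center ↥R).map R.subtype = V ∧
      ∃ _ : (R.subgroupOf (Subgroup.normalizer (V : Set G))).Normal,
        Nonempty (↥(Subgroup.normalizer (V : Set G)) ⧸ R.subgroupOf (Subgroup.normalizer (V : Set G)) ≃*
          SL3 × ↥(alternatingGroup (Fin 6))) := by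
  classical
  haveI := Fact.mk Nat.prime_two
  have hex := exists_conjugate hF
  obtain ⟨v, ρ, o, C⟩ := exists_coords hF
  obtain rfl := C.outer_two hex
  obtain ⟨g, t, ht, et, hvt, c⟩ := C.exists_std hex
  obtain ⟨x, hx3, hx⟩ := C.exists_scalar
  have O : Oct C g t x := ⟨c, ht, et, hvt, hx3, hx⟩
  obtain ⟨φ0, hφ0, hφ0k, hR15, hR2⟩ := O.six_hom
  obtain ⟨hsq, hcomm, hcen, hVR, hz⟩ := O.structure_big
  set V := O.eight with hV
  set L := Subgroup.normalizer (V : Set G) with hL
  set cV := Subgroup.centralizer (V : Set G) with hcV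
  set RG := O.big with hRG
  obtain ⟨ψ, hψ, hψe⟩ := O.exists_action
  have hbig : Nat.card RG = 2 ^ 15 := (Subgroup.card_map_of_injective (CZ z).subtype_injective).trans hR15
  have hcVL : cV ≤ L := fun a ha => Subgroup.mem_normalizer_fintype (S := (V : Set G)) fun b hb => by
    rw [← Subgroup.mem_centralizer_iff.mp ha b hb, mul_inv_cancel_right]; exact hb
  -- the kernel of the action
  have hker : ψ.ker = cV.subgroupOf L := by
    ext l
    rw [MonoidHom.mem_ker, Subgroup.mem_subgroupOf]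
    constructor
    · intro h
      refine Subgroup.mem_centralizer_iff.mpr fun b hb => ?_
      obtain ⟨a, ha⟩ := O.vec3_bij.2 ⟨b, hb⟩
      have ha' : O.vec3 a = b := congrArg Subtype.val ha
      have h1 := hψe l a
      rw [h, Matrix.SpecialLinearGroup.coe_one, Matrix.one_mulVec, ha'] at h1
      exact (mul_inv_eq_iff_eq_mul.mp h1).symm
    · intro h
      refine Subtype.ext (Matrix.toLin'.injective (LinearMap.ext fun a => ?_))
      rw [Matrix.toLin'_apply, Matrix.toLin'_apply, Matrix.SpecialLinearGroup.coe_one, Matrix.one_mulVec]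
      have h1 := hψe l a
      rw [← Subgroup.mem_centralizer_iff.mp h _ (O.vec3_mem a), mul_inv_cancel_right] at h1
      exact (O.vec3_bij.1 (Subtype.ext h1)).symm
  -- the map of the centraliser onto the alternating group
  have hce : cV = O.cSub.map (CZ z).subtype := O.cent_eight
  let eC : cV ≃* O.cSub := (MulEquiv.subgroupCongr hce).trans
    (O.cSub.equivMapOfInjective _ (CZ z).subtype_injective).symm
  have heC : ∀ a : cV, (((eC a : O.cSub) : CZ z) : G) = a := fun a => by
    show (CZ z).subtype (((O.cSub.equivMapOfInjective _ (CZ z).subtype_injective).symm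
      (MulEquiv.subgroupCongr hce a) : O.cSub) : CZ z) = a
    rw [← Subgroup.coe_equivMapOfInjective_apply _ _ (CZ z).subtype_injective, MulEquiv.apply_symm_apply]
    rfl
  let φ : cV →* alternatingGroup (Fin 6) := φ0.comp eC.toMonoidHom
  have hφ : Function.Surjective φ := hφ0.comp eC.surjective
  have hφk : ∀ a : cV, φ a = 1 ↔ (a : G) ∈ RG := fun a => by
    show φ0 (eC a) = 1 ↔ _
    rw [← MonoidHom.mem_ker, hφ0k, Subgroup.mem_subgroupOf]
    constructor
    · exact fun h => ⟨_, h, heC a⟩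
    · rintro ⟨h, hh, e⟩
      rwa [show ((eC a : O.cSub) : CZ z) = h from Subtype.ext ((heC a).trans e.symm)]
  have hRc : RG ≤ cV := O.big_le
  have hRp : IsPGroup 2 RG := hR2.map _
  -- normal in the local subgroup
  have hmove : ∀ (l : L) (a : G), a ∈ cV → (l : G) * a * (l : G)⁻¹ ∈ cV := fun l a ha => by
    refine Subgroup.mem_centralizer_iff.mpr fun b hb => ?_
    have h := Subgroup.mem_centralizer_iff.mp ha _ ((Subgroup.mem_normalizer_iff''.mp l.2 b).mp hb)
    calc b * ((l : G) * a * (l : G)⁻¹) = (l : G) * ((l : G)⁻¹ * b * l * a) * (l : G)⁻¹ := by group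
      _ = _ := by rw [h]; group
  have hRn : ∀ (l : L) (a : G), a ∈ RG → (l : G) * a * (l : G)⁻¹ ∈ RG := by
    intro l a ha
    let T : Subgroup cV := (RG.map (MulAut.conj (l : G)).toMonoidHom).subgroupOf cV
    have hT : ∀ b ∈ T, ∀ c : cV, c * b * c⁻¹ ∈ T := by
      rintro b ⟨r, hr, er⟩ c
      have hc' : (l : G)⁻¹ * c * l ∈ cV := by
        have := hmove l⁻¹ c c.2; simpa using this
      refine ⟨(l : G)⁻¹ * c * l * r * ((l : G)⁻¹ * c * l)⁻¹, ?_, ?_⟩
      · have h1 : φ ⟨_, cV.mul_mem (cV.mul_mem hc' (hRc hr)) (cV.inv_mem hc')⟩ = 1 := by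
          rw [show (⟨_, cV.mul_mem (cV.mul_mem hc' (hRc hr)) (cV.inv_mem hc')⟩ : cV) =
            ⟨_, hc'⟩ * ⟨r, hRc hr⟩ * (⟨_, hc'⟩ : cV)⁻¹ from rfl, map_mul, map_mul, map_inv,
            (hφk ⟨r, hRc hr⟩).mpr hr, mul_one, mul_inv_cancel]
        exact (hφk _).mp h1
      · have er' : (l : G) * r * (l : G)⁻¹ = b := er
        show (l : G) * _ * (l : G)⁻¹ = (c : G) * b * (c : G)⁻¹
        rw [← er']; group
    haveI : T.Normal := ⟨hT⟩
    have hTp : IsPGroup 2 T :=
      (hRp.map _).comap_of_injective _ cV.subtype_injective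
    have hbot := a6_no_two (N := T.map φ) ((inferInstance : T.Normal).map φ hφ) (hTp.map φ)
    have h1 : φ ⟨_, hmove l a (hRc ha)⟩ ∈ T.map φ := ⟨_, ⟨a, ha, rfl⟩, rfl⟩
    rw [hbot, Subgroup.mem_bot] at h1
    exact (hφk _).mp h1
  -- automorphisms of the quotient
  have hsec : ∀ u : alternatingGroup (Fin 6), ∃ a : cV, φ a = u := hφ
  choose sec hsec using hsec
  have key : ∀ (l : L) (a b : cV), φ a = φ b →
      φ ⟨_, hmove l a a.2⟩ = φ ⟨_, hmove l b b.2⟩ := by
    intro l a b e
    have h1 : ((a * b⁻¹ : cV) : G) ∈ RG := (hφk _).mp (by rw [map_mul, map_inv, e, mul_inv_cancel])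
    have h2 : φ (⟨_, hmove l a a.2⟩ * (⟨_, hmove l b b.2⟩ : cV)⁻¹) = 1 := (hφk _).mpr (by
      show (l : G) * a * (l : G)⁻¹ * ((l : G) * b * (l : G)⁻¹)⁻¹ ∈ RG
      rw [show (l : G) * a * (l : G)⁻¹ * ((l : G) * b * (l : G)⁻¹)⁻¹ = (l : G) * (a * (b : G)⁻¹) * (l : G)⁻¹ by group]
      exact hRn l _ h1)
    rw [map_mul, map_inv] at h2
    exact mul_inv_eq_one.mp h2
  let θf : L → alternatingGroup (Fin 6) → alternatingGroup (Fin 6) := fun l u => φ ⟨_, hmove l (sec u) (sec u).2⟩
  have hθ : ∀ (l : L) (a : cV), θf l (φ a) = φ ⟨_, hmove l a a.2⟩ := fun l a => key l _ _ (hsec _)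
  have hθmul : ∀ (l : L) u w, θf l (u * w) = θf l u * θf l w := fun l u w => by
    conv_lhs => rw [← hsec u, ← hsec w, ← map_mul, hθ]
    rw [← map_mul]
    refine congrArg φ (Subtype.ext ?_)
    show (l : G) * ((sec u : G) * sec w) * (l : G)⁻¹ = (l : G) * sec u * (l : G)⁻¹ * ((l : G) * sec w * (l : G)⁻¹)
    group
  have hθcomp : ∀ (l m : L) u, θf (l * m) u = θf l (θf m u) := fun l m u => by
    conv_lhs => rw [← hsec u, hθ]
    rw [show θf m u = φ ⟨_, hmove m (sec u) (sec u).2⟩ from rfl, hθ]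
    refine congrArg φ (Subtype.ext ?_)
    show ((l : G) * m) * (sec u : G) * ((l : G) * m)⁻¹ = (l : G) * ((m : G) * sec u * (m : G)⁻¹) * (l : G)⁻¹
    group
  have hθone : ∀ u, θf 1 u = u := fun u => by
    conv_lhs => rw [← hsec u, hθ]
    conv_rhs => rw [← hsec u]
    refine congrArg φ (Subtype.ext ?_)
    show (1 : G) * sec u * (1 : G)⁻¹ = sec u
    group
  let θ : L →* MulAut (alternatingGroup (Fin 6)) := MonoidHom.mk' (fun l =>
    { toFun := θf l
      invFun := θf l⁻¹
      left_inv := fun u => by rw [← hθcomp, inv_mul_cancel, hθone]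
      right_inv := fun u => by rw [← hθcomp, mul_inv_cancel, hθone]
      map_mul' := hθmul l }) fun l m => MulEquiv.ext (hθcomp l m)
  have hθc : ∀ (a : cV), θ ⟨a, hcVL a.2⟩ = MulAut.conj (φ a) := fun a => MulEquiv.ext fun u => by
    show θf ⟨a, hcVL a.2⟩ u = φ a * u * (φ a)⁻¹
    conv_lhs => rw [← hsec u, hθ]
    conv_rhs => rw [← hsec u, ← map_inv, ← map_mul, ← map_mul]
    exact congrArg φ (Subtype.ext rfl)
  have hinner : ∀ l, θ l ∈ (MulAut.conj : alternatingGroup (Fin 6) →* _).range := fun l =>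
    inner_all ψ hψ θ (fun k hk => by
      rw [hker] at hk
      exact ⟨φ ⟨k, hk⟩, (hθc ⟨k, hk⟩).symm⟩) l
  choose α hα using hinner
  have hcinj : ∀ {u w : alternatingGroup (Fin 6)}, MulAut.conj u = MulAut.conj w → u = w := fun {u w} e => by
    refine inv_mul_eq_one.mp (a6_center fun b => ?_)
    have h := congrArg (fun f : MulAut (alternatingGroup (Fin 6)) => f b) e
    simp only [MulAut.conj_apply] at h
    calc u⁻¹ * w * b = u⁻¹ * (w * b * w⁻¹) * w := by group
      _ = u⁻¹ * (u * b * u⁻¹) * w := by rw [h]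
      _ = b * (u⁻¹ * w) := by group
  let αh : L →* alternatingGroup (Fin 6) := MonoidHom.mk' α fun l m => hcinj (by rw [map_mul, hα, hα, hα, map_mul])
  have hαc : ∀ a : cV, αh ⟨a, hcVL a.2⟩ = φ a := fun a => hcinj ((hα _).trans (hθc a))
  let Φ := ψ.prod αh
  have hΦ : Function.Surjective Φ := by
    rintro ⟨m, u⟩
    obtain ⟨l, rfl⟩ := hψ m
    refine ⟨⟨sec (u * (αh l)⁻¹), hcVL (sec _).2⟩ * l, Prod.ext ?_ ?_⟩
    · show ψ (_ * l) = ψ l
      have hk : (⟨sec (u * (αh l)⁻¹), hcVL (sec _).2⟩ : L) ∈ ψ.ker := by rw [hker]; exact (sec _).2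
      rw [map_mul, MonoidHom.mem_ker.mp hk, one_mul]
    · show αh (_ * l) = u
      rw [map_mul, hαc, hsec, inv_mul_cancel_right]
  have hΦk : Φ.ker = RG.subgroupOf L := by
    ext l
    rw [MonoidHom.mem_ker, Subgroup.mem_subgroupOf]
    constructor
    · intro h
      have h1 : l ∈ ψ.ker := congrArg Prod.fst h
      rw [hker] at h1
      have h2 := hαc ⟨l, h1⟩
      exact (hφk ⟨l, h1⟩).mp (h2.symm.trans (congrArg Prod.snd h))
    · intro h
      have h1 : l ∈ ψ.ker := by rw [hker]; exact hRc h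
      exact Prod.ext h1 ((hαc ⟨l, hRc h⟩).trans ((hφk ⟨l, hRc h⟩).mpr h))
  haveI hn : (RG.subgroupOf L).Normal := hΦk ▸ Φ.normal_ker
  have hcore : Cfsg.pCore 2 L = RG.subgroupOf L := by
    refine le_antisymm ?_ (le_sSup ⟨hn, hRp.comap_of_injective _ L.subtype_injective⟩)
    refine sSup_le fun N hN => ?_
    obtain ⟨hNn, hNp⟩ := hN
    have h1 : N.map ψ = ⊥ := sl3_two (hNn.map ψ hψ) (hNp.map ψ)
    have h2 : N.map αh = ⊥ := a6_no_two (hNn.map αh fun u => ⟨⟨sec u, hcVL (sec u).2⟩, (hαc _).trans (hsec u)⟩) (hNp.map αh)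
    intro l hl
    rw [← hΦk]
    exact Prod.ext (Subgroup.mem_bot.mp (h1 ▸ Subgroup.mem_map_of_mem ψ hl))
      (Subgroup.mem_bot.mp (h2 ▸ Subgroup.mem_map_of_mem αh hl))
  have hVab : Cfsg.IsElementaryAbelian 2 V :=
    ⟨⟨⟨fun a b => Subtype.ext (O.eight_comm a.2 b.2)⟩⟩, fun a ha => by rw [pow_two]; exact O.eight_sq ha⟩
  have hcenter : Subgroup.center RG = V.subgroupOf RG := by
    ext a
    rw [Subgroup.mem_center_iff, Subgroup.mem_subgroupOf]
    constructor
    · intro h
      exact hcen a a.2 fun b hb => (congrArg Subtype.val (h ⟨b, hb⟩)).symm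
    · intro h b
      exact Subtype.ext (Subgroup.mem_centralizer_iff.mp (hRc b.2) _ h).symm
  have hsqc : ∀ a : RG, a ^ 2 ∈ Subgroup.center RG := fun a => by
    rw [hcenter, Subgroup.mem_subgroupOf, pow_two]; exact hsq a a.2
  have hcommle : commutator RG ≤ Subgroup.center RG := by
    rw [commutator_def, Subgroup.commutator_le]
    intro a _ b _
    rw [hcenter, Subgroup.mem_subgroupOf]
    exact hcomm a a.2 b b.2
  have hcomm_eq : commutator RG = Subgroup.center RG := by
    refine le_antisymm hcommle ?_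
    -- the derived group is stable and holds the central involution
    set K := (commutator RG).map RG.subtype with hK
    have hKn : ∀ (l : L) (a : G), a ∈ K → (l : G) * a * (l : G)⁻¹ ∈ K := by
      intro l a ha
      have e : RG.map (MulAut.conj (l : G)).toMonoidHom = RG :=
        Subgroup.eq_of_le_of_card_ge (by rintro _ ⟨b, hb, rfl⟩; exact hRn l b hb)
          (Subgroup.card_map_of_injective (MulAut.conj (l : G)).injective).ge
      have h1 : K = ⁅RG, RG⁆ := by
        rw [hK, commutator_def, Subgroup.map_commutator, ← MonoidHom.range_eq_map, Subgroup.range_subtype]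
      rw [h1] at ha ⊢
      have := Subgroup.mem_map_of_mem (MulAut.conj (l : G)).toMonoidHom ha
      rw [Subgroup.map_commutator, e] at this
      exact this
    have hzK : z ∈ K := by
      obtain ⟨a, ha, b, hb, e⟩ := hz
      exact ⟨⁅(⟨a, ha⟩ : RG), (⟨b, hb⟩ : RG)⁆, Subgroup.commutator_mem_commutator (Subgroup.mem_top _) (Subgroup.mem_top _), e⟩
    have hcol : ∀ b : Fin 3 → ZMod 2, b ≠ 0 → ∃ M : SL3, M.1.mulVec ![1, 0, 0] = b := fun b hb => by
      obtain ⟨r, hr, er⟩ := nonzero_trans b hb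
      exact ⟨⟨_, hr⟩, er⟩
    intro a ha
    rw [hcenter, Subgroup.mem_subgroupOf] at ha
    obtain ⟨b, hb⟩ := O.vec3_bij.2 ⟨a, ha⟩
    have hb' : O.vec3 b = (a : G) := congrArg Subtype.val hb
    have haK : (a : G) ∈ K := by
      by_cases hb0 : b = 0
      · rw [← hb', hb0]
        have : O.vec3 0 = 1 := by simp [Oct.vec3]
        rw [this]; exact one_mem _
      · obtain ⟨M, hM⟩ := hcol b hb0
        obtain ⟨l, rfl⟩ := hψ M
        have h := hKn l z hzK
        rw [show z = O.vec3 ![1, 0, 0] by simp [Oct.vec3], hψe l, hM, hb'] at h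
        exact h
    obtain ⟨w, hw, ew⟩ := haK
    rwa [show a = w from Subtype.ext ew.symm]
  haveI : (Subgroup.center RG).Normal := inferInstance
  refine ⟨V, hVab, O.eight_card, O.eight_z, RG, ?_, ⟨hRp, le_antisymm ?_ ?_, hcomm_eq⟩, hbig, ?_, hn, ⟨?_⟩⟩
  · rw [hcore, Subgroup.map_subgroupOf_eq_of_le (hRc.trans hcVL)]
  · exact Critical.frattini_le_of_elementary _ hcommle hsqc
  · exact hcomm_eq ▸ (PSolvable.commutator_le_frattini hRp).1
  · rw [hcenter, Subgroup.map_subgroupOf_eq_of_le hVR]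
  · exact (QuotientGroup.quotientMulEquivOfEq hΦk.symm).trans (QuotientGroup.quotientKerEquivOfSurjective Φ hΦ)

end CfsgLib.LargeFischer
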