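import Cfsg.Agent.Lib.LargeFischer.EightGroup

/-!
The large 2-group of the four-space is special.
-/

set_option autoImplicit false
set_option maxRecDepth 100000
set_option linter.style.haveILetI false

namespace CfsgLib.LargeFischer

open CfsgLib.Extraspecial
open CfsgLib.HePres (K4)
open CfsgLib.Fi22USix (V6 el code vec vec_code hval nrm)

theorem el_three : ∀ u : V6, el 2 • (el 3 • u) = u := fun u => by
  rw [smul_smul, show el 2 * el 3 = 1 by decide +kernel, one_smul]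

/-- three pairwise commuting commutative pieces generate a commutative group -/
theorem sup_comm3 {Γ : Type*} [Group Γ] {A B D : Subgroup Γ}
    (hAA : ∀ a ∈ A, ∀ b ∈ A, a * b = b * a) (hBB : ∀ a ∈ B, ∀ b ∈ B, a * b = b * a)
    (hDD : ∀ a ∈ D, ∀ b ∈ D, a * b = b * a) (hAB : ∀ a ∈ A, ∀ b ∈ B, a * b = b * a)
    (hAD : ∀ a ∈ A, ∀ b ∈ D, a * b = b * a) (hBD : ∀ a ∈ B, ∀ b ∈ D, a * b = b * a) :
    ∀ a ∈ A ⊔ B ⊔ D, ∀ b ∈ A ⊔ B ⊔ D, a * b = b * a := by
  have h : ∀ b, (b ∈ A ∨ b ∈ B ∨ b ∈ D) → A ⊔ B ⊔ D ≤ Subgroup.centralizer ({b} : Set Γ) := by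
    intro b hb
    refine sup_le (sup_le ?_ ?_) ?_ <;> intro a ha <;> rw [Subgroup.mem_centralizer_singleton_iff] <;>
      rcases hb with hb | hb | hb
    · exact hAA a ha b hb
    · exact hAB a ha b hb
    · exact hAD a ha b hb
    · exact (hAB b hb a ha).symm
    · exact hBB a ha b hb
    · exact hBD a ha b hb
    · exact (hAD b hb a ha).symm
    · exact (hBD b hb a ha).symm
    · exact hDD a ha b hb
  intro a ha b hb
  have h2 : A ⊔ B ⊔ D ≤ Subgroup.centralizer ({a} : Set Γ) := by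
    refine sup_le (sup_le ?_ ?_) ?_ <;> intro c hc <;> rw [Subgroup.mem_centralizer_singleton_iff]
    · exact (Subgroup.mem_centralizer_singleton_iff.mp (h c (Or.inl hc) ha)).symm
    · exact (Subgroup.mem_centralizer_singleton_iff.mp (h c (Or.inr (Or.inl hc)) ha)).symm
    · exact (Subgroup.mem_centralizer_singleton_iff.mp (h c (Or.inr (Or.inr hc)) ha)).symm
  exact (Subgroup.mem_centralizer_singleton_iff.mp (h2 hb)).symm

/-- the exchange of the first two coordinates -/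
def swapM : SL3 := ⟨Matrix.of ![![0, 1, 0], ![1, 0, 0], ![0, 0, 1]], by decide⟩

theorem swapM_apply : swapM.1.mulVec ![1, 0, 0] = ![0, 1, 0] ∧ swapM.1.mulVec ![0, 1, 0] = ![1, 0, 0] ∧
    swapM.1.mulVec ![0, 0, 1] = ![0, 0, 1] := by decide

namespace Oct

open Co (QA mem_QA QA_one QA_mul)

variable {G : Type*} [Group G] [Finite G] {z : G} {Q : Subgroup (CZ z)} {v : CZ z → V6}
  {ρ : CZ z →* Equiv.Perm V6} {C : Co z Q v ρ 2} {g : G} {t x : CZ z} (O : Oct C g t x) [Q.Normal]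

/-- the large 2-group in the whole group -/
def big (O : Oct C g t x) : Subgroup G := O.rSub.map (CZ z).subtype

include O

theorem cent_le : Subgroup.centralizer (O.eight : Set G) ≤ CZ z := by
  rw [O.cent_eight]; exact Subgroup.map_subtype_le _

theorem big_le : O.big ≤ Subgroup.centralizer (O.eight : Set G) := by
  rw [O.cent_eight]; exact Subgroup.map_mono inf_le_left

theorem inter_Q_map : QG Q ⊓ Subgroup.centralizer (O.eight : Set G) = C.pSub.map (CZ z).subtype := by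
  rw [O.cent_eight]
  ext a
  constructor
  · rintro ⟨⟨q, hq, rfl⟩, h, hh, e⟩
    obtain rfl : h = q := Subtype.ext e
    exact ⟨h, O.inter_Q.mp ⟨hq, hh⟩, rfl⟩
  · rintro ⟨q, hq, rfl⟩
    exact ⟨⟨q, hq.1, rfl⟩, q, (O.inter_Q.mpr hq).2, rfl⟩

theorem x_Q : (QG Q).map (MulAut.conj (x : G)).toMonoidHom = QG Q := by
  have h : QA Q ((x : G) * 1) = QA Q (1 : G) := C.QA_congr (by
    rw [mul_one, Subgroup.mem_centralizer_singleton_iff.mp x.2]; group)
  rw [QA_mul, QA_one] at h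
  exact h

/-- the pieces -/
theorem pieces :
    (∀ a ∈ QG Q ⊓ QA Q g, a * a = 1) ∧ Nat.card ↥(QG Q ⊓ QA Q g) = 2 ^ 7 ∧
      (∀ a ∈ QG Q ⊓ QA Q ((x : G) * g), a * a = 1) ∧ Nat.card ↥(QG Q ⊓ QA Q ((x : G) * g)) = 2 ^ 7 ∧
      (QG Q ⊓ QA Q g) ⊓ (QG Q ⊓ QA Q ((x : G) * g)) ≤ O.eight := by
  obtain ⟨h2, h7, -⟩ := C.conjugate_group O.pair O.mem O.eq _ _ rfl rfl
  have hsq : ∀ a ∈ QG Q ⊓ QA Q g, a * a = 1 := fun a ha => by
    have := h2.2 a ha; rwa [pow_two] at this
  have e : QG Q ⊓ QA Q ((x : G) * g) = (QG Q ⊓ QA Q g).map (MulAut.conj (x : G)).toMonoidHom := by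
    have hxi : Function.Injective (MulAut.conj (x : G)).toMonoidHom := (MulAut.conj (x : G)).injective
    rw [Subgroup.map_inf _ _ _ hxi, O.x_Q, QA_mul]
  refine ⟨hsq, h7, ?_, ?_, ?_⟩
  · rw [e]
    rintro _ ⟨a, ha, rfl⟩
    rw [← map_mul, hsq a ha, map_one]
  · rw [e, Subgroup.card_map_of_injective (MulAut.conj (x : G)).injective]
    exact h7
  · rintro a ⟨⟨⟨p, hp, rfl⟩, hpg⟩, -, hp1⟩
    refine ⟨p, ⟨hp, ?_⟩, rfl⟩
    have w1 : inW (v p) = true := (C.trace_inW O.pair O.mem O.eq O.v_eq _).mpr ⟨p, hp, hpg, rfl⟩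
    have hp' := (inferInstance : Q.Normal).conj_mem p hp x⁻¹
    have w2 : inW (el 3 • v p) = true := by
      refine (C.trace_inW O.pair O.mem O.eq O.v_eq _).mpr ⟨_, hp', ?_, ?_⟩
      · rw [QA_mul] at hp1
        obtain ⟨b, hb, eb⟩ := hp1
        show (x⁻¹ * p * x⁻¹⁻¹ : CZ z).1 ∈ _
        have e2 : ((x⁻¹ * p * x⁻¹⁻¹ : CZ z) : G) = b := by
          show (x : G)⁻¹ * (p : G) * (x : G)⁻¹⁻¹ = b
          rw [← show (MulAut.conj (x : G)).toMonoidHom b = (p : G) from eb]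
          simp [mul_assoc]
        rw [e2]; exact hb
      · rw [C.vconj x⁻¹ p hp, map_inv, Equiv.Perm.inv_eq_iff_eq, O.scal, el_three]
    have h := all_codes line_meet (v p)
    simp only [vec_code, w1, w2, cond_true, decide_eq_true_eq] at h
    exact h

/-- the elements of the extraspecial group centralising the orthogonal part -/
theorem double {b : G} (hb : b ∈ QG Q)
    (hc : ∀ a ∈ QG Q ⊓ Subgroup.centralizer (O.eight : Set G), a * b = b * a) : b ∈ O.eight := by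
  obtain ⟨q, hq, rfl⟩ := hb
  refine ⟨q, ⟨hq, ?_⟩, rfl⟩
  by_contra hline
  have h := all_codes double_perp (v q)
  simp only [vec_code, hline, decide_false, cond_false] at h
  obtain ⟨k, -, hk⟩ := List.any_eq_true.mp h
  cases hd : decide (hval s0 (vec k) = 0 ∧ nrm (vec k) = 0) with
  | false => rw [hd, cond_false] at hk; exact Bool.false_ne_true hk
  | true =>
    rw [hd, cond_true, decide_eq_true_eq] at hk
    rw [decide_eq_true_eq] at hd
    obtain ⟨p, hp, ep⟩ := C.vsurj (vec k)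
    refine hk ?_
    have hp2 : (p : G) * p = 1 := (C.vsq p hp).mpr (by rw [ep]; exact hd.2)
    have := (C.comm_iff hp hq hp2).mpr (hc _ (by
      rw [O.inter_Q_map]; exact ⟨p, ⟨hp, by rw [ep]; exact hd.1⟩, rfl⟩))
    rwa [ep] at this

/-- the properties of the large 2-group -/
theorem structure_big : (∀ a ∈ O.big, a * a ∈ O.eight) ∧ (∀ a ∈ O.big, ∀ b ∈ O.big, a * b * a⁻¹ * b⁻¹ ∈ O.eight) ∧
    (∀ a ∈ O.big, (∀ b ∈ O.big, a * b = b * a) → a ∈ O.eight) ∧ O.eight ≤ O.big ∧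
    ∃ a ∈ O.big, ∃ b ∈ O.big, a * b * a⁻¹ * b⁻¹ = z := by
  classical
  haveI := Fact.mk Nat.prime_two
  obtain ⟨hsq0, hc0, hsq1, hc1, hmeet⟩ := O.pieces
  set cV := Subgroup.centralizer (O.eight : Set G) with hcV
  set g1 : G := (x : G) * g
  set W0 := QG Q ⊓ QA Q g with hW0
  set W1 := QG Q ⊓ QA Q g1 with hW1
  set W2 := QA Q g ⊓ QA Q g1 with hW2
  set P0 := QG Q ⊓ cV with hP0
  have hW0c : W0 ≤ cV := fun a ha => Subgroup.mem_centralizer_iff.mpr fun b hb =>
    sq_commute hsq0 ⟨O.eight_le_Q hb, O.eight_le_QA hb⟩ ha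
  have hW1c : W1 ≤ cV := fun a ha => Subgroup.mem_centralizer_iff.mpr fun b hb =>
    sq_commute hsq1 ⟨O.eight_le_Q hb, O.eight_le_QA1 hb⟩ ha
  have hP0c : Nat.card P0 = 2 ^ 11 := by
    rw [hP0, hcV, O.inter_Q_map, Subgroup.card_map_of_injective (CZ z).subtype_injective, C.pSub_card]
  have hP0W : P0 = W0 ⊔ W1 := by
    refine (Subgroup.eq_of_le_of_card_ge (sup_le (le_inf inf_le_left hW0c) (le_inf inf_le_left hW1c)) ?_).symm
    have h : Nat.card W0 * Nat.card W1 ≤ Nat.card ↥(W0 ⊔ W1) * Nat.card O.eight :=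
      (inf_card_le W0 W1).trans (Nat.mul_le_mul_left _ (Subgroup.card_le_of_le hmeet))
    rw [hc0, hc1, O.eight_card] at h
    rw [hP0c]
    exact Nat.le_of_mul_le_mul_right (le_trans (by norm_num) h) (by norm_num : 0 < 8)
  -- the exchange
  obtain ⟨ψ, hψ, hψe⟩ := O.exists_action
  let Sw : SL3 := swapM
  obtain ⟨l, hl⟩ := hψ Sw
  set y : G := (l : G)
  have hy : ∀ a, y * O.vec3 a * y⁻¹ = O.vec3 (Sw.1.mulVec a) := fun a => hl ▸ hψe l a
  have ez : O.vec3 ![1, 0, 0] = z := by simp [vec3]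
  have et : O.vec3 ![0, 1, 0] = (t : G) := by simp [vec3]
  have e1 : O.vec3 ![0, 0, 1] = ((x * t * x⁻¹ : CZ z) : G) := by simp [vec3]
  have mv : ∀ {a b : Fin 3 → ZMod 2} {p q : G}, O.vec3 a = p → O.vec3 b = q → swapM.1.mulVec a = b →
      y * p * y⁻¹ = q := fun {a b p q} hp hq e => by
    subst hp hq e
    exact hy a
  have hyz : y * z * y⁻¹ = t := mv ez et swapM_apply.1
  have hyt : y * t * y⁻¹ = z := mv et ez swapM_apply.2.1
  have hy1 : y * (g1 * z * g1⁻¹) * y⁻¹ = g1 * z * g1⁻¹ :=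
    mv (e1.trans O.conj1) (e1.trans O.conj1) swapM_apply.2.2
  have hQy : (QG Q).map (MulAut.conj y).toMonoidHom = QA Q g := by
    have h : QA Q (y * 1) = QA Q g := C.QA_congr (by rw [mul_one, hyz, O.eq])
    rw [QA_mul, QA_one] at h
    exact h
  have hgy : (QA Q g).map (MulAut.conj y).toMonoidHom = QG Q := by
    have h : QA Q (y * g) = QA Q (1 : G) := C.QA_congr (by
      rw [show y * g * z * (y * g)⁻¹ = y * (g * z * g⁻¹) * y⁻¹ by group, ← O.eq, hyt]; group)
    rw [QA_mul, QA_one] at h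
    exact h
  have h1y : (QA Q g1).map (MulAut.conj y).toMonoidHom = QA Q g1 := by
    rw [← QA_mul]
    exact C.QA_congr (by rw [show y * g1 * z * (y * g1)⁻¹ = y * (g1 * z * g1⁻¹) * y⁻¹ by group, hy1])
  have hcy : cV.map (MulAut.conj y).toMonoidHom = cV := by
    refine Subgroup.eq_of_le_of_card_ge ?_ (Subgroup.card_map_of_injective (MulAut.conj y).injective).ge
    rintro _ ⟨a, ha, rfl⟩
    refine Subgroup.mem_centralizer_iff.mpr fun b hb => ?_
    have h := Subgroup.mem_centralizer_iff.mp ha _ ((Subgroup.mem_normalizer_iff''.mp l.2 b).mp hb)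
    show b * ((l : G) * a * (l : G)⁻¹) = (l : G) * a * (l : G)⁻¹ * b
    calc b * ((l : G) * a * (l : G)⁻¹) = (l : G) * ((l : G)⁻¹ * b * l * a) * (l : G)⁻¹ := by group
      _ = _ := by rw [h]; group
  have hinj : Function.Injective (MulAut.conj y).toMonoidHom := (MulAut.conj y).injective
  have hW1y : W1.map (MulAut.conj y).toMonoidHom = W2 := by
    rw [hW1, Subgroup.map_inf _ _ _ hinj, hQy, h1y]
  have hW0y : W0.map (MulAut.conj y).toMonoidHom = W0 := by
    rw [hW0, Subgroup.map_inf _ _ _ hinj, hQy, hgy, inf_comm]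
  set P1 := QA Q g ⊓ cV with hP1
  have hP0y : P0.map (MulAut.conj y).toMonoidHom = P1 := by
    rw [hP0, Subgroup.map_inf _ _ _ hinj, hQy, hcy]
  have hP1c : Nat.card P1 = 2 ^ 11 := by
    rw [← hP0y, Subgroup.card_map_of_injective hinj, hP0c]
  have hP1W : P1 = W0 ⊔ W2 := by rw [← hP0y, hP0W, Subgroup.map_sup, hW0y, hW1y]
  have hW2c : W2 ≤ cV := (le_sup_right.trans hP1W.ge).trans inf_le_right
  have hsq2 : ∀ a ∈ W2, a * a = 1 := by
    rw [← hW1y]
    rintro _ ⟨a, ha, rfl⟩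
    rw [← map_mul, hsq1 a ha, map_one]
  -- both parts lie in the large group
  have hP0R : P0 ≤ O.big := by
    intro a ha
    have hh : a ∈ C.pSub.map (CZ z).subtype := O.inter_Q_map.le ha
    obtain ⟨q, hq, rfl⟩ := hh
    refine ⟨q, ⟨(O.inter_Q.mpr hq).2, ?_⟩, rfl⟩
    show ρ q ∈ (Co.PH Q g).map ρ
    rw [(C.ker q).mpr hq.1]; exact one_mem _
  have hP1R : P1 ≤ O.big := by
    intro a ha
    obtain ⟨h, hh, rfl⟩ := (O.cent_eight).le ha.2
    exact ⟨h, ⟨hh, h, ⟨ha.1, h.2⟩, rfl⟩, rfl⟩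
  obtain ⟨φ, -, -, hR15, -⟩ := O.six_hom
  have hbig : Nat.card O.big = 2 ^ 15 := (Subgroup.card_map_of_injective (CZ z).subtype_injective).trans hR15
  have hR : O.big = P0 ⊔ P1 := by
    refine (Subgroup.eq_of_le_of_card_ge (sup_le hP0R hP1R) ?_).symm
    have hi : P0 ⊓ P1 ≤ W0 := fun a ha => ⟨ha.1.1, ha.2.1⟩
    have h := (inf_card_le P0 P1).trans (Nat.mul_le_mul_left _ (Subgroup.card_le_of_le hi))
    rw [hP0c, hP1c, hc0] at h
    rw [hbig]
    exact Nat.le_of_mul_le_mul_right (le_trans (by norm_num) h) (by norm_num : 0 < 2 ^ 7)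
  have hR3 : O.big = W0 ⊔ W1 ⊔ W2 := by
    rw [hR, hP0W, hP1W]
    refine le_antisymm (sup_le le_sup_left (sup_le (le_sup_left.trans le_sup_left) le_sup_right))
      (sup_le le_sup_left (le_sup_right.trans le_sup_right))
  -- modulo the four-space
  have hzt : (g * z * g⁻¹) ∈ O.eight := O.eq ▸ ⟨t, O.mem_vSub.1, rfl⟩
  have hz1 : (g1 * z * g1⁻¹) ∈ O.eight := O.conj1 ▸ ⟨_, O.mem_vSub.2, rfl⟩
  haveI hVn : (O.eight.subgroupOf cV).Normal := ⟨fun a ha c => by
    have e : c * a * c⁻¹ = a := Subtype.ext (by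
      show (c : G) * a * (c : G)⁻¹ = a
      rw [← Subgroup.mem_centralizer_iff.mp c.2 (a : G) ha, mul_inv_cancel_right])
    rwa [e]⟩
  set π := QuotientGroup.mk' (O.eight.subgroupOf cV)
  have hπ : ∀ {a b : cV}, (a : G) * b * (a : G)⁻¹ * (b : G)⁻¹ ∈ O.eight → π a * π b = π b * π a := fun {a b} h => by
    have h1 : π (a * b * a⁻¹ * b⁻¹) = 1 := (QuotientGroup.eq_one_iff _).mpr h
    rw [map_mul, map_mul, map_mul, map_inv, map_inv] at h1
    exact mul_inv_eq_iff_eq_mul.mp (mul_inv_eq_one.mp h1)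
  let A := (W0.subgroupOf cV).map π
  let B := (W1.subgroupOf cV).map π
  let D := (W2.subgroupOf cV).map π
  have self : ∀ {W : Subgroup G}, (∀ a ∈ W, a * a = 1) → ∀ a ∈ (W.subgroupOf cV).map π,
      ∀ b ∈ (W.subgroupOf cV).map π, a * b = b * a := by
    rintro W hW _ ⟨a, ha, rfl⟩ _ ⟨b, hb, rfl⟩
    refine hπ ?_
    rw [sq_commute hW (a := (a : G)) (b := (b : G)) ha hb, mul_inv_cancel_right, mul_inv_cancel]
    exact one_mem _
  have cross : ∀ {P W W' : Subgroup G} {w : G}, Setting P w → w ∈ O.eight → W ≤ P → W' ≤ P →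
      ∀ a ∈ (W.subgroupOf cV).map π, ∀ b ∈ (W'.subgroupOf cV).map π, a * b = b * a := by
    rintro P W W' w s hw hWP hW'P _ ⟨a, ha, rfl⟩ _ ⟨b, hb, rfl⟩
    refine hπ ?_
    rcases s.comm_cases (a := (a : G)) (b := (b : G)) (hWP ha) (hW'P hb) with e | e <;> rw [e]
    · rw [mul_inv_cancel]; exact one_mem _
    · rw [mul_inv_cancel_right]; exact hw
  have s0' : Setting (QA Q g) (g * z * g⁻¹) := C.st.conj g
  have s1' : Setting (QA Q g1) (g1 * z * g1⁻¹) := C.st.conj g1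
  have habel := sup_comm3 (self hsq0) (self hsq1) (self hsq2)
    (cross C.st O.eight_z (inf_le_left : W0 ≤ QG Q) (inf_le_left : W1 ≤ QG Q))
    (cross s0' hzt (inf_le_right : W0 ≤ QA Q g) (inf_le_left : W2 ≤ QA Q g))
    (cross s1' hz1 (inf_le_right : W1 ≤ QA Q g1) (inf_le_right : W2 ≤ QA Q g1))
  have hmap : ∀ a : cV, (a : G) ∈ O.big → π a ∈ A ⊔ B ⊔ D := by
    intro a ha
    rw [hR3] at ha
    have h : a ∈ (W0 ⊔ W1 ⊔ W2).subgroupOf cV := ha
    rw [Subgroup.subgroupOf_sup (sup_le hW0c hW1c) hW2c, Subgroup.subgroupOf_sup hW0c hW1c] at h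
    simp only [A, B, D, ← Subgroup.map_sup]
    exact Subgroup.mem_map_of_mem π h
  have hcomm : ∀ a ∈ O.big, ∀ b ∈ O.big, a * b * a⁻¹ * b⁻¹ ∈ O.eight := by
    intro a ha b hb
    have h := habel _ (hmap ⟨a, O.big_le ha⟩ ha) _ (hmap ⟨b, O.big_le hb⟩ hb)
    refine (QuotientGroup.eq_one_iff (N := O.eight.subgroupOf cV)
      ((⟨a, O.big_le ha⟩ : cV) * ⟨b, O.big_le hb⟩ * ⟨a, O.big_le ha⟩⁻¹ * ⟨b, O.big_le hb⟩⁻¹)).mp ?_
    show π _ = 1
    rw [map_mul, map_mul, map_mul, map_inv, map_inv, h, mul_inv_cancel_right, mul_inv_cancel]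
  have hsq : ∀ a ∈ O.big, a * a ∈ O.eight := by
    have h : ∀ q ∈ A ⊔ B ⊔ D, q ∈ A ⊔ B ⊔ D ∧ q * q = 1 := by
      let S : Subgroup (cV ⧸ O.eight.subgroupOf cV) :=
        { carrier := {q | q ∈ A ⊔ B ⊔ D ∧ q * q = 1}
          one_mem' := ⟨one_mem _, one_mul 1⟩
          mul_mem' := fun {p q} hp hq => ⟨mul_mem hp.1 hq.1, by
            rw [Commute.mul_mul_mul_comm (habel q hq.1 p hp.1), hp.2, hq.2, one_mul]⟩
          inv_mem' := fun {p} hp => ⟨inv_mem hp.1, by rw [← mul_inv_rev, hp.2, inv_one]⟩ }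
      have hle : ∀ {W : Subgroup G}, (∀ a ∈ W, a * a = 1) → (W.subgroupOf cV).map π ≤ A ⊔ B ⊔ D →
          (W.subgroupOf cV).map π ≤ S := by
        rintro W hW hsub _ ⟨a, ha, rfl⟩
        exact ⟨hsub ⟨a, ha, rfl⟩, by
          rw [← map_mul, show a * a = 1 from Subtype.ext (hW a ha), map_one]⟩
      exact sup_le (sup_le (hle hsq0 (le_sup_left.trans le_sup_left)) (hle hsq1 (le_sup_right.trans le_sup_left)))
        (hle hsq2 le_sup_right)
    intro a ha
    exact (QuotientGroup.eq_one_iff (N := O.eight.subgroupOf cV) ((⟨a, O.big_le ha⟩ : cV) * ⟨a, O.big_le ha⟩)).mp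
      ((map_mul π _ _).trans (h _ (hmap _ ha)).2)
  have hVR : O.eight ≤ O.big := fun a ha => hP0R ⟨O.eight_le_Q ha,
    Subgroup.mem_centralizer_iff.mpr fun b hb => O.eight_comm hb ha⟩
  refine ⟨hsq, hcomm, fun a ha hcen => ?_, hVR, ?_⟩
  · -- the centre
    have hnorm : W2 ≤ Subgroup.normalizer (P0 : Set G) := fun b hb => by
      refine Subgroup.mem_normalizer_fintype (S := (P0 : Set G)) fun c hc => ?_
      refine ⟨(Subgroup.mem_normalizer_iff.mp (C.st.cz (O.cent_le (hW2c hb))) c).mp hc.1, ?_⟩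
      exact cV.mul_mem (cV.mul_mem (hW2c hb) hc.2) (cV.inv_mem (hW2c hb))
    have ha' : a ∈ ((P0 ⊔ W2 : Subgroup G) : Set G) := by
      rw [hP0W, ← hR3]; exact ha
    rw [Subgroup.coe_mul_of_right_le_normalizer_left P0 W2 hnorm] at ha'
    obtain ⟨p, hp, b, hb, rfl⟩ := ha'
    have hbW0 : ∀ c ∈ W0, b * c = c * b := by
      intro c hc
      refine mul_inv_eq_iff_eq_mul.mp ((s0'.comm_cases hb.1 hc.2).resolve_right fun e => ?_)
      have h1 := hcen c (hR3.ge (Subgroup.mem_sup_left (Subgroup.mem_sup_left hc)))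
      have h3 : g * z * g⁻¹ * (p * c * p⁻¹) = c := by
        have hpz : p * (g * z * g⁻¹) = g * z * g⁻¹ * p := (Subgroup.mem_centralizer_iff.mp hp.2 _ hzt).symm
        calc g * z * g⁻¹ * (p * c * p⁻¹) = p * (g * z * g⁻¹) * c * p⁻¹ := by rw [hpz]; group
          _ = p * (b * c * b⁻¹) * p⁻¹ := by rw [e]; group
          _ = p * b * c * (p * b)⁻¹ := by group
          _ = c := by rw [h1, mul_inv_cancel_right]
      rcases C.st.comm_cases hp.1 hc.1 with e' | e' <;> rw [e'] at h3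
      · exact O.pair.ne_one' (mul_eq_right.mp h3)
      · rw [← mul_assoc] at h3
        exact O.pair.ne ((eq_inv_of_mul_eq_one_left (mul_eq_right.mp h3)).trans C.st.inv_z)
    have hbV : b ∈ O.eight := by
      obtain ⟨c, hc, ec⟩ := hQy.ge hb.1
      have h : c ∈ O.eight := by
        refine O.double hc fun a' ha'' => hinj ?_
        have h2 : MulAut.conj y a' ∈ P1 := hP0y.le ⟨a', ha'', rfl⟩
        rw [hP1W] at h2
        have h3 : W0 ⊔ W2 ≤ Subgroup.centralizer ({b} : Set G) := sup_le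
          (fun d hd => Subgroup.mem_centralizer_singleton_iff.mpr (hbW0 d hd).symm)
          fun d hd => Subgroup.mem_centralizer_singleton_iff.mpr (sq_commute hsq2 hd hb)
        rw [map_mul, map_mul, ec]
        exact Subgroup.mem_centralizer_singleton_iff.mp (h3 h2)
      rw [← ec]
      exact (Subgroup.mem_normalizer_iff.mp l.2 c).mp h
    refine mul_mem (O.double hp.1 fun d hd => ?_) hbV
    have h1 := hcen d (hP0R hd)
    have h2 : b * d = d * b := Subgroup.mem_centralizer_iff.mp hd.2 b hbV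
    refine mul_right_cancel (b := b) ?_
    calc d * p * b = d * (p * b) := by group
      _ = p * (b * d) := by rw [← h1]; group
      _ = p * d * b := by rw [h2]; group
  · -- the commutators reach the central involution
    by_contra hno
    push Not at hno
    have hab : ∀ a ∈ P0, ∀ b ∈ P0, a * b = b * a := fun a ha b hb => by
      refine mul_inv_eq_iff_eq_mul.mp ((C.st.comm_cases ha.1 hb.1).resolve_right fun e => ?_)
      exact hno a (hP0R ha) b (hP0R hb) (by rw [e, mul_inv_cancel_right])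
    have : W0 ≤ O.eight := fun a ha => O.double ha.1 fun b hb => hab b hb a ⟨ha.1, hW0c ha⟩
    have := Subgroup.card_le_of_le this
    rw [hc0, O.eight_card] at this
    omega

end Oct

end CfsgLib.LargeFischer
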