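import Cfsg.Agent.Lib.Fi22USix.Model

/-!
A quadratic space of dimension twelve over two elements with a fixed point free isometry of order
three is the norm form of the hermitian space of dimension six over four elements.
-/

set_option autoImplicit false
set_option maxRecDepth 100000

namespace CfsgLib.LargeFischer

open CfsgLib.HePres (K4)
open CfsgLib.Fi22USix (V6 el nrm)

/-- the prime field inside -/
def ιK (a : ZMod 2) : K4 := if a = 0 then 0 else 1

theorem ιK_add : ∀ a b, ιK (a + b) = ιK a + ιK b := by decide +kernel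

theorem ιK_inj : ∀ a b, ιK a = ιK b → a = b := by decide +kernel

/-- the first bit -/
def bit0 (a : K4) : ZMod 2 := if a = el 1 ∨ a = el 3 then 1 else 0

/-- the second bit -/
def bit1 (a : K4) : ZMod 2 := if a = el 2 ∨ a = el 3 then 1 else 0

theorem bit_add : ∀ a b, bit0 (a + b) = bit0 a + bit0 b ∧ bit1 (a + b) = bit1 a + bit1 b := by decide +kernel

theorem bit_rot : ∀ a, bit0 (el 2 * a) = bit1 a ∧ bit1 (el 2 * a) = bit0 a + bit1 a := by decide +kernel

theorem bit_ext : ∀ a b, bit0 a = bit0 b → bit1 a = bit1 b → a = b := by decide +kernel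

theorem bit_cube : ∀ a : K4, a * (a * a) = ιK (bit0 a + bit1 a + bit0 a * bit1 a) := by decide +kernel

theorem zmod_self : ∀ a : ZMod 2, a + a = 0 := by decide +kernel

variable {V : Type*} [AddCommGroup V] [Module (ZMod 2) V] [Finite V]
  (q : V → ZMod 2) (B : V →ₗ[ZMod 2] V →ₗ[ZMod 2] ZMod 2) (L : V ≃ₗ[ZMod 2] V)

/-- the hypotheses -/
structure Rot : Prop where
  pol : ∀ u v, q (u + v) = q u + q v + B u v
  nd : ∀ u, (∀ v, B u v = 0) → u = 0
  iso : ∀ v, q (L v) = q v
  sq : ∀ v, L (L v) = v + L v

/-- orthogonal anisotropic axes -/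
def Axes {k : ℕ} (e : Fin k → V) : Prop :=
  (∀ i, q (e i) = 1) ∧ ∀ i j, i ≠ j →
    B (e i) (e j) = 0 ∧ B (e i) (L (e j)) = 0 ∧ B (L (e i)) (e j) = 0 ∧ B (L (e i)) (L (e j)) = 0

variable {q B L}

namespace Rot

variable (R : Rot q B L)
include R

theorem symm (u v : V) : B u v = B v u := by
  have h1 := R.pol u v
  have h2 := R.pol v u
  rw [add_comm v u, h1, add_comm (q v) (q u)] at h2
  exact add_left_cancel h2

theorem q_zero : q 0 = 0 := by
  have h := R.pol 0 0
  simp only [add_zero, map_zero, LinearMap.zero_apply] at h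
  rw [zmod_self] at h; exact h

theorem self (v : V) : B v v = 0 := by
  have h := R.pol v v
  have h2 : v + v = 0 := by
    rw [← two_smul (ZMod 2) v, show (2 : ZMod 2) = 0 from rfl, zero_smul]
  rw [h2, R.q_zero, zmod_self, zero_add] at h
  exact h.symm

theorem cross (v : V) : B v (L v) = q v := by
  have h := R.pol v (L v)
  rw [← R.sq v, R.iso, R.iso, zmod_self, zero_add] at h
  exact h.symm

theorem exists_axes (k : ℕ) (hk : k ≤ 6) (hc : Nat.card V = 4096) : ∃ e : Fin k → V, Axes q B L e := by
  induction k with
  | zero => exact ⟨fun i => i.elim0, fun i => i.elim0, fun i => i.elim0⟩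
  | succ k ih =>
    classical
    obtain ⟨e, he1, he⟩ := ih (by omega)
    by_cases h : ∃ v, q v = 1 ∧ ∀ i, B v (e i) = 0 ∧ B v (L (e i)) = 0
    · obtain ⟨v, hv, hve⟩ := h
      have hL : ∀ i, B (L v) (e i) = 0 ∧ B (L v) (L (e i)) = 0 := by
        have hiso : ∀ a b, B (L a) (L b) = B a b := fun a b => by
          have h1 := R.pol (L a) (L b)
          rw [← map_add, R.iso, R.iso, R.iso, R.pol] at h1
          exact (add_left_cancel h1).symm
        intro i
        have h1 : B (L v) (L (e i)) = 0 := by rw [hiso]; exact (hve i).1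
        refine ⟨?_, h1⟩
        have h2 : B (L v) (L (L (e i))) = 0 := by rw [hiso]; exact (hve i).2
        rwa [R.sq, map_add, h1, add_zero] at h2
      refine ⟨Fin.snoc e v, fun i => ?_, fun i j hij => ?_⟩
      · refine Fin.lastCases ?_ (fun i => ?_) i <;> simp [hv, he1]
      · revert hij
        refine Fin.lastCases ?_ (fun i => ?_) i <;> refine Fin.lastCases ?_ (fun j => ?_) j <;> intro hij
        · exact absurd rfl hij
        · simp [hve j, hL j]
        · simp [R.symm (e i) v, R.symm (L (e i)) v, R.symm (e i) (L v), R.symm (L (e i)) (L v), hve i, hL i]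
        · simp only [Fin.snoc_castSucc]
          exact he i j fun e => hij (congrArg _ e)
    · exfalso
      push Not at h
      let pr : V → V := fun v => v + ∑ i, (B v (L (e i)) • e i + B v (e i) • L (e i))
      have hp : ∀ v i, B (pr v) (e i) = 0 ∧ B (pr v) (L (e i)) = 0 := by
        intro v i
        simp only [pr, map_add, map_sum, map_smul, LinearMap.add_apply, LinearMap.coe_sum, Finset.sum_apply,
          LinearMap.smul_apply, smul_eq_mul]
        rw [Finset.sum_eq_single i, Finset.sum_eq_single i]
        · have c1 := R.cross (e i)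
          have c2 : B (L (e i)) (e i) = 1 := by rw [R.symm, c1, he1]
          constructor
          · rw [R.self, c2, mul_zero, mul_one, zero_add, zmod_self]
          · rw [R.self, c1, he1, mul_zero, mul_one, add_zero, zmod_self]
        all_goals first
          | (intro j _ hj; obtain ⟨a, b, c, d⟩ := he j i hj; simp [a, b, c, d])
          | (intro hh; exact absurd (Finset.mem_univ i) hh)
      have hq0 : ∀ u, (∀ i, B u (e i) = 0 ∧ B u (L (e i)) = 0) → q u = 0 := fun u hu => by
        rcases (show ∀ a : ZMod 2, a = 0 ∨ a = 1 by decide) (q u) with h0 | h0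
        · exact h0
        · obtain ⟨i, hi⟩ := h u h0
          exact absurd (hu i).2 (hi (hu i).1)
      have hz : ∀ v, pr v = 0 := by
        intro v
        refine R.nd _ fun w => ?_
        have hw : B (pr v) (pr w) = 0 := by
          have h1 := R.pol (pr v) (pr w)
          rw [hq0 _ (hp v), hq0 _ (hp w), hq0 (pr v + pr w) (fun i => by
            rw [map_add, LinearMap.add_apply, LinearMap.add_apply, (hp v i).1, (hp v i).2, (hp w i).1, (hp w i).2]
            simp)] at h1
          simpa using h1.symm
        simp only [pr, map_add, map_sum, map_smul, smul_eq_mul] at hw ⊢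
        have : ∀ i, B (v + ∑ j, (B v (L (e j)) • e j + B v (e j) • L (e j))) (e i) = 0 ∧
            B (v + ∑ j, (B v (L (e j)) • e j + B v (e j) • L (e j))) (L (e i)) = 0 := hp v
        simp only [map_add, map_sum, map_smul] at this
        simpa [(this _).1, (this _).2] using hw
      let f : V → Fin k → ZMod 2 × ZMod 2 := fun v i => (B v (L (e i)), B v (e i))
      have hf : Function.Injective f := by
        intro u v huv
        have hs : ∑ i, (B u (L (e i)) • e i + B u (e i) • L (e i)) =
            ∑ i, (B v (L (e i)) • e i + B v (e i) • L (e i)) := Finset.sum_congr rfl fun i _ => by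
          have a1 : B u (L (e i)) = B v (L (e i)) := congrArg Prod.fst (congrFun huv i)
          have a2 : B u (e i) = B v (e i) := congrArg Prod.snd (congrFun huv i)
          rw [a1, a2]
        have h1 : u + ∑ i, (B u (L (e i)) • e i + B u (e i) • L (e i)) =
            v + ∑ i, (B v (L (e i)) • e i + B v (e i) • L (e i)) := (hz u).trans (hz v).symm
        rw [hs] at h1
        exact add_right_cancel h1
      have hle := Nat.card_le_card_of_injective f hf
      rw [hc, Nat.card_fun, Nat.card_prod, Nat.card_zmod, Nat.card_fin] at hle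
      have : (2 * 2) ^ k ≤ (2 * 2) ^ 5 := Nat.pow_le_pow_right (by norm_num) (by omega)
      norm_num at this hle ⊢
      omega

/-- the coordinates -/
theorem exists_coord (hc : Nat.card V = 4096) :
    ∃ φ : V6 ≃ V, (∀ a b, φ (a + b) = φ a + φ b) ∧ (∀ a, φ (el 2 • a) = L (φ a)) ∧
      ∀ a, ιK (q (φ a)) = nrm a := by
  classical
  obtain ⟨e, he1, he⟩ := R.exists_axes 6 le_rfl hc
  let f : V6 → V := fun a => ∑ i, (bit0 (a i) • e i + bit1 (a i) • L (e i))
  have hadd : ∀ a b, f (a + b) = f a + f b := fun a b => by
    simp only [f]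
    rw [← Finset.sum_add_distrib]
    refine Finset.sum_congr rfl fun i _ => ?_
    rw [Pi.add_apply, (bit_add _ _).1, (bit_add _ _).2, add_smul, add_smul]; abel
  have hrec : ∀ a i, B (f a) (L (e i)) = bit0 (a i) ∧ B (f a) (e i) = bit1 (a i) := by
    intro a i
    simp only [f, map_sum, map_add, map_smul, LinearMap.coe_sum, Finset.sum_apply, LinearMap.add_apply,
      LinearMap.smul_apply, smul_eq_mul]
    rw [Finset.sum_eq_single i, Finset.sum_eq_single i]
    · have c1 := R.cross (e i)
      have c2 : B (L (e i)) (e i) = 1 := by rw [R.symm, c1, he1]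
      rw [R.self, R.self, c1, c2, he1]
      simp
    all_goals first
      | (intro j _ hj; obtain ⟨a', b', c', d'⟩ := he j i hj; simp [a', b', c', d'])
      | (intro hh; exact absurd (Finset.mem_univ i) hh)
  have hinj : Function.Injective f := fun a b h => funext fun i =>
    bit_ext _ _ (by rw [← (hrec a i).1, h, (hrec b i).1]) (by rw [← (hrec a i).2, h, (hrec b i).2])
  haveI : Fintype V := Fintype.ofFinite V
  have hbij : Function.Bijective f := by
    refine (Fintype.bijective_iff_injective_and_card f).mpr ⟨hinj, ?_⟩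
    rw [← Nat.card_eq_fintype_card (α := V), hc, Fintype.card_fun, Fintype.card_fin, K4.card_eq]
    norm_num
  refine ⟨Equiv.ofBijective f hbij, hadd, fun a => ?_, fun a => ?_⟩
  · show f _ = L (f a)
    simp only [f, map_sum, map_add, map_smul]
    refine Finset.sum_congr rfl fun i _ => ?_
    rw [Pi.smul_apply, smul_eq_mul, (bit_rot _).1, (bit_rot _).2, R.sq, smul_add, add_smul]; abel
  · show ιK (q (f a)) = nrm a
    let t : Fin 6 → V := fun i => bit0 (a i) • e i + bit1 (a i) • L (e i)
    have hsum : ∀ s : Finset (Fin 6), q (∑ i ∈ s, t i) = ∑ i ∈ s, q (t i) := by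
      intro s
      induction s using Finset.induction with
      | empty => simp [R.q_zero]
      | insert i s hi ih =>
        rw [Finset.sum_insert hi, Finset.sum_insert hi, R.pol, ih, map_sum]
        refine add_eq_left.mpr (Finset.sum_eq_zero ?_)
        intro j hj
        have hij : i ≠ j := fun e => hi (e ▸ hj)
        obtain ⟨a', b', c', d'⟩ := he i j hij
        simp [t, a', b', c', d']
    have hone : ∀ i, q (t i) = bit0 (a i) + bit1 (a i) + bit0 (a i) * bit1 (a i) := by
      intro i
      have hq : ∀ (c : ZMod 2) (x : V), q (c • x) = c * q x := by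
        intro c x
        rcases (show ∀ a : ZMod 2, a = 0 ∨ a = 1 by decide) c with rfl | rfl <;> simp [R.q_zero]
      simp only [t]
      rw [R.pol, hq, hq, R.iso, he1]
      simp [R.cross, he1, mul_comm]
    have hι : ∀ (s : Finset (Fin 6)) (g : Fin 6 → ZMod 2), ιK (∑ i ∈ s, g i) = ∑ i ∈ s, ιK (g i) := by
      intro s g
      exact map_sum (AddMonoidHom.mk' ιK ιK_add) g s
    show ιK (q (∑ i ∈ Finset.univ, t i)) = _
    rw [hsum, hι, ← Fi22USix.herm_self, Fi22USix.herm_eq, Fin.sum_univ_six]
    simp only [hone, ← bit_cube]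
    rfl

end Rot

end CfsgLib.LargeFischer
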