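import Cfsg.Agent.Lib.LargeFischer.Section

/-!
A conjugate trace containing the lift of the first kernel generator that commutes with the scalar.
-/

set_option autoImplicit false
set_option maxRecDepth 100000
set_option linter.style.haveILetI false

namespace CfsgLib.LargeFischer

open CfsgLib.Extraspecial
open CfsgLib.HePres (K4)
open CfsgLib.Fi22USix (V6 el code vec vec_code hval nrm)

namespace Co

variable {G : Type*} [Group G] [Finite G] {z : G} {Q : Subgroup (CZ z)} {v : CZ z → V6}
  {ρ : CZ z →* Equiv.Perm V6} (C : Co z Q v ρ 2) {x : CZ z} {a : K4}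
include C

/-- lifts of the stabiliser of the off vector that commute with the scalar fix the element over it -/
theorem lift_fix [Q.Normal] (ha0 : a ≠ 0) (ha1 : a ≠ 1) (hx3 : x ^ 3 = 1) (hx : ∀ u, ρ x u = a • u) {t : CZ z}
    (ht : t ∈ Q) (hvt : v t = s0) {f : Equiv.Perm V6} (hf : f ∈ Subgroup.closure (Set.range xGen)) :
    ∃ k : CZ z, x * k = k * x ∧ ρ k = f ∧ k * t = t * k := by
  induction hf using Subgroup.closure_induction with
  | mem y hy =>
    obtain ⟨j, rfl⟩ := hy
    obtain ⟨h, eh⟩ := C.kkp_le (xGen_mem j).1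
    obtain ⟨q, hq, eq⟩ := C.lift_comm ha0 ha1 hx3 hx h (eh ▸ (xGen_mem j).1)
    set k := q * h with hk
    have ek : ρ k = xGen j := by rw [hk, map_mul, (C.ker q).mpr hq, one_mul, eh]
    refine ⟨k, eq, ek, ?_⟩
    have h3Q : k * k * k ∈ Q := (C.ker _).mp (by rw [map_mul, map_mul, ek, xGen_cube])
    have h3 : (k : G) * k * k = 1 ∨ (k : G) * k * k = z := by
      have hc : Commute x (k * k * k) :=
        ((show Commute x k from eq).mul_right eq).mul_right eq
      exact C.q_meet ha1 hx h3Q hc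
    have hv : v (k * t * k⁻¹) = v t := by rw [C.vconj k t ht, ek, hvt, xGen_coe]; exact (xF_ok j).2.2.1
    rcases C.eq_cases ht ((inferInstance : Q.Normal).conj_mem t ht k) hv.symm with e | e
    · exact mul_inv_eq_iff_eq_mul.mp (Subtype.ext e)
    · exfalso
      have hkz : (k : G) * z = z * k := Subgroup.mem_centralizer_singleton_iff.mp k.2
      have htz : (t : G) * z = z * t := C.st.z_comm (mem_QG ht)
      have e' : (k : G) * t = z * t * k := mul_inv_eq_iff_eq_mul.mp e
      have e3 : (k : G) * k * k * t = z * t * (k * k * k) := by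
        have hzz : ∀ w : G, z * (z * w) = w := fun w => by rw [← mul_assoc, C.st.zz, one_mul]
        have hkz' : ∀ w : G, (k : G) * (z * w) = z * (k * w) := fun w => by rw [← mul_assoc, hkz, mul_assoc]
        have e'' : ∀ w : G, (k : G) * (t * w) = z * (t * (k * w)) := fun w => by
          rw [← mul_assoc, e', mul_assoc, mul_assoc]
        have := e'' 1
        simp only [mul_one] at this
        simp only [mul_assoc, this, e'', hkz', hzz]
      rcases h3 with h3 | h3 <;> rw [h3] at e3
      · rw [one_mul, mul_one] at e3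
        exact C.st.ne_one (mul_eq_right.mp e3.symm)
      · rw [mul_assoc z (t : G) z, htz, ← mul_assoc, C.st.zz, one_mul] at e3
        exact C.st.ne_one (mul_eq_right.mp e3)
  | one => exact ⟨1, by rw [one_mul, mul_one], map_one ρ, by rw [one_mul, mul_one]⟩
  | mul a b _ _ iha ihb =>
    obtain ⟨k, hk, ek, ck⟩ := iha
    obtain ⟨l, hl, el', cl⟩ := ihb
    exact ⟨k * l, (show Commute x k from hk).mul_right hl, by rw [map_mul, ek, el'],
      (show Commute k t from ck).mul_left cl⟩
  | inv a _ iha =>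
    obtain ⟨k, hk, ek, ck⟩ := iha
    exact ⟨k⁻¹, (show Commute x k from hk).inv_right, by rw [map_inv, ek], (show Commute k t from ck).inv_left⟩

/-- a pair over the off vector whose trace contains such a lift of the first kernel generator -/
theorem lift_pair [Q.Normal] (hex : ∃ g : G, g * z * g⁻¹ ∈ QG Q ∧ g * z * g⁻¹ ≠ z) (ha0 : a ≠ 0) (ha1 : a ≠ 1)
    (hx3 : x ^ 3 = 1) (hx : ∀ u, ρ x u = a • u) :
    ∃ (g : G) (t : CZ z), t ∈ Q ∧ (t : G) = g * z * g⁻¹ ∧ v t = s0 ∧ Pair (QG Q) z g ∧
      ∃ k : CZ z, x * k = k * x ∧ k ∈ PH Q g ∧ ρ k = eGen 0 := by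
  obtain ⟨g, t, ht, et, hvt, c⟩ := C.exists_std hex
  have htrace := C.trace_eq c ht et hvt
  obtain ⟨h0, eh0⟩ := C.kkp_le (low_kkp (eGen_low (i := 0) (by decide)))
  obtain ⟨w0, hw0, hk0⟩ := C.lift_comm ha0 ha1 hx3 hx h0 (eh0 ▸ low_kkp (eGen_low (i := 0) (by decide)))
  set k0 := w0 * h0 with hk0d
  have ek0 : ρ k0 = eGen 0 := by rw [hk0d, map_mul, (C.ker w0).mpr hw0, one_mul, eh0]
  obtain ⟨b, hb, eb⟩ : eGen 0 ∈ (PH Q g).map ρ := htrace ▸ Subgroup.subset_closure ⟨0, rfl⟩
  set q := b * k0⁻¹ with hq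
  have hqQ : q ∈ Q := (C.ker q).mp (by rw [hq, map_mul, map_inv, eb, ek0, mul_inv_cancel])
  have hst : ∀ k : Fin 2, inW (wordF (stWords.getD k []) (v q) + v q) = true := by
    intro k
    have hw : (stWords.getD k []).all (fun a => Nat.blt a 2) = true := by
      have : ∀ k : Fin 2, (stWords.getD k []).all (fun a => Nat.blt a 2) = true := by decide +kernel
      exact this k
    obtain ⟨y, hy, ey, cy⟩ := C.lift_fix ha0 ha1 hx3 hx ht hvt (wordP_low hw)
    have hcomm : y * k0⁻¹ * y⁻¹ * k0 ∈ PH Q g := by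
      have hQ' : y * k0⁻¹ * y⁻¹ * k0 ∈ Q := (C.ker _).mp (by
        rw [map_mul, map_mul, map_mul, map_inv, map_inv, ey, ek0]
        have hc : Commute (eGen 0) (wordP (stWords.getD k [])) := e0_st k
        rw [(hc.inv_left.symm).eq, mul_inv_cancel_right, inv_mul_cancel])
      have hxc : Commute x (y * k0⁻¹ * y⁻¹ * k0) :=
        (((show Commute x y from hy).mul_right (show Commute x k0 from hk0).inv_right).mul_right
          (show Commute x y from hy).inv_right).mul_right hk0
      rcases C.q_meet ha1 hx hQ' hxc with e | e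
      · rw [show y * k0⁻¹ * y⁻¹ * k0 = 1 from Subtype.ext e]; exact one_mem _
      · exact ⟨by show ((y * k0⁻¹ * y⁻¹ * k0 : CZ z) : G) ∈ _; rw [e]; exact c.mem', (y * k0⁻¹ * y⁻¹ * k0).2⟩
    have hyq := (inferInstance : Q.Normal).conj_mem q hqQ y
    have hpq : y * q * y⁻¹ * q⁻¹ ∈ PH Q g := by
      have e : y * q * y⁻¹ * q⁻¹ = (y * b * y⁻¹) * ((y * k0⁻¹ * y⁻¹ * k0) * b⁻¹) := by
        rw [hq]; group
      rw [e]
      exact mul_mem (ph_norm c et cy hb) (mul_mem hcomm (inv_mem hb))
    refine (C.trace_inW c ht et hvt _).mpr ⟨_, mul_mem hyq (inv_mem hqQ), hpq.1, ?_⟩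
    rw [C.vmul _ hyq _ (inv_mem hqQ), C.v_inv hqQ, C.vconj y q hqQ, ey, wordP_apply]
  have hclass : inW (v q) = true ∨ inW (v q + (eGen 0 (vec 2) + vec 2)) = true := by
    have h := List.all_eq_true.mp reps_cover (code (v q)) (List.mem_range.mpr (code_lt' _))
    rw [List.any_eq_true] at h
    obtain ⟨r, hr, hr'⟩ := h
    have hlt : r < 4096 := by
      have : wReps.all (fun n => Nat.blt n 4096) = true := by decide +kernel
      exact Nat.blt_eq.mp (List.all_eq_true.mp this r hr)
    have hqr : inW (v q + vec r) = true := by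
      rw [inW, code_xor, show code (vec r) = r from USixUFour.code_vec ⟨r, hlt⟩]; exact hr'
    have hr2 : ∀ k : Fin 2, inW (wordF (stWords.getD k []) (vec r) + vec r) = true := by
      intro k
      have hw : (stWords.getD k []).all (fun a => Nat.blt a 2) = true := by
        have : ∀ k : Fin 2, (stWords.getD k []).all (fun a => Nat.blt a 2) = true := by decide +kernel
        exact this k
      have h1 := wordP_inW hw hqr
      rw [low_add (wordP_low hw), wordP_apply, wordP_apply] at h1
      refine inW_trans (inW_trans ?_ (hst k)) hqr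
      rwa [add_comm] at h1
    have h1 := List.all_eq_true.mp fixed_classes r hr
    rw [show stWords.getD 0 [] = stWords.getD ((0 : Fin 2) : ℕ) [] from rfl, hr2 0, cond_true,
      show stWords.getD 1 [] = stWords.getD ((1 : Fin 2) : ℕ) [] from rfl, hr2 1, cond_true, Bool.or_eq_true] at h1
    rcases h1 with h1 | h1
    · refine Or.inl ?_
      have := inW_trans (c := 0) hqr (by rwa [add_zero])
      rwa [add_zero] at this
    · refine Or.inr ?_
      rw [show eGen 0 (vec 2) = eF 0 (vec 2) from eGen_apply 0 _]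
      exact inW_trans hqr h1
  have hbk : b = q * k0 := by rw [hq, inv_mul_cancel_right]
  rcases hclass with h | h
  · obtain ⟨p, hp, hp', ep⟩ := (C.trace_inW c ht et hvt _).mp h
    refine ⟨g, t, ht, et, hvt, c, k0, hk0, ?_, ek0⟩
    have hqph : q ∈ PH Q g := by
      refine ⟨?_, q.2⟩
      rcases C.eq_cases hp hqQ ep with e | e
      · show (q : G) ∈ _
        rw [e]; exact hp'
      · show (q : G) ∈ _
        rw [e]; exact Subgroup.mul_mem _ c.mem' hp'
    have := mul_mem (inv_mem hqph) hb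
    rwa [hbk, inv_mul_cancel_left] at this
  · obtain ⟨w, hw, ew⟩ := C.vsurj (vec 2)
    set g' := (w : G) * g with hg'
    set t' := w * t * w⁻¹ with ht'
    have ht'Q : t' ∈ Q := (inferInstance : Q.Normal).conj_mem t ht w
    have et' : (t' : G) = g' * z * g'⁻¹ := by
      show (w : G) * t * (w : G)⁻¹ = _
      rw [et, hg']; group
    have hvt' : v t' = s0 := by rw [ht', C.vconj w t ht, (C.ker w).mpr hw]; exact hvt
    have c' : Pair (QG Q) z g' := C.pair (et' ▸ mem_QG ht'Q) fun e => by
      have h0 := (C.vzero _ ht'Q).mpr (Or.inr (et'.trans e))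
      rw [hvt'] at h0
      exact v0_spec.2.2.2.2.1 h0
    set q' := w * q * (k0 * w⁻¹ * k0⁻¹) with hq'
    have hkw := (inferInstance : Q.Normal).conj_mem _ (inv_mem hw) k0
    have hq'Q : q' ∈ Q := mul_mem (mul_mem hw hqQ) hkw
    have hb' : q' * k0 ∈ PH Q g' := by
      refine ⟨⟨(g⁻¹ * (b : G) * g), ?_, ?_⟩, (q' * k0).2⟩
      · obtain ⟨d, hd, ed⟩ := hb.1
        have : g⁻¹ * (b : G) * g = d := by
          rw [show (b : G) = g * d * g⁻¹ from ed.symm]; group
        rwa [this]
      · show g' * (g⁻¹ * (b : G) * g) * g'⁻¹ = ((q' * k0 : CZ z) : G)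
        rw [hg', hq', hbk]
        simp only [Subgroup.coe_mul, Subgroup.coe_inv]
        group
    have hWq : inW (v q') = true := by
      rw [hq', C.vmul _ (mul_mem hw hqQ) _ hkw, C.vmul w hw q hqQ, C.vconj k0 _ (inv_mem hw), C.v_inv hw, ew, ek0]
      rwa [add_comm (vec 2) (v q), add_assoc, add_comm (vec 2)]
    obtain ⟨p, hp, hp', ep⟩ := (C.trace_inW c' ht'Q et' hvt' _).mp hWq
    refine ⟨g', t', ht'Q, et', hvt', c', k0, hk0, ?_, ek0⟩
    have hqph : q' ∈ PH Q g' := by
      refine ⟨?_, q'.2⟩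
      rcases C.eq_cases hp hq'Q ep with e | e
      · show (q' : G) ∈ _
        rw [e]; exact hp'
      · show (q' : G) ∈ _
        rw [e]; exact Subgroup.mul_mem _ c'.mem' hp'
    have := mul_mem (inv_mem hqph) hb'
    rwa [inv_mul_cancel_left] at this

omit C in
/-- an element of a conjugate's trace is conjugate into the extraspecial group -/
theorem ph_into_Q {g : G} (c : Pair (QG Q) z g) {b : CZ z} (hb : b ∈ PH Q g) :
    ∃ n : G, n * (b : G) * n⁻¹ ∈ QG Q := by
  obtain ⟨n, hn, hσ⟩ := c.exists_perm (Equiv.swap 0 1)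
  have hsp := c.permHom_spec ⟨n, c.X_le_normalizer hn⟩ 1
  rw [hσ, Equiv.swap_apply_right] at hsp
  refine ⟨n, ?_⟩
  have h1 : ((QG Q).map (MulAut.conj (n * g)).toMonoidHom) = QG Q := by
    refine c.s.map_eq_of_mem (c.s.cz (Subgroup.mem_centralizer_singleton_iff.mpr ?_))
    refine mul_inv_eq_iff_eq_mul.mp ?_
    calc n * g * z * (n * g)⁻¹ = n * (g * z * g⁻¹) * n⁻¹ := by group
      _ = z := hsp.symm
  obtain ⟨d, hd, ed⟩ := hb.1
  rw [← h1, show (b : G) = g * d * g⁻¹ from ed.symm]
  exact ⟨d, hd, by simp [mul_assoc]⟩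

end Co

end CfsgLib.LargeFischer
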