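import Cfsg.Agent.Lib.LargeFischer.Lin

/-!
The stabilisers of the point vector and of the off vector, acting on 45 and on fifteen objects.
-/

set_option autoImplicit false
set_option maxRecDepth 100000

namespace CfsgLib.LargeFischer

open Matrix
open CfsgLib.HePres (K4)
open CfsgLib.Fi22USix (V6 SU62 el code vec vec_code hval nrm)
open CfsgLib.USixUFour (InP mv act coreK)

/-- the core as permutations -/
noncomputable def KKp : Subgroup (Equiv.Perm V6) := coreK.map act

theorem kkp_card : Nat.card KKp = 9797760 :=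
  (Subgroup.card_map_of_injective act_inj).trans USixUFour.coreK_card

/-- the stabiliser of a vector in the core -/
noncomputable def coreFix (w : V6) : Subgroup (Equiv.Perm V6) := KKp ⊓ MulAction.stabilizer (Equiv.Perm V6) w

theorem mem_coreFix {w : V6} {f : Equiv.Perm V6} : f ∈ coreFix w ↔ ∃ c ∈ coreK, f = act c ∧ mv c w = w := by
  constructor
  · rintro ⟨⟨c, hc, rfl⟩, h⟩
    exact ⟨c, hc, rfl, h⟩
  · rintro ⟨c, hc, rfl, h⟩
    exact ⟨⟨c, hc, rfl⟩, h⟩

theorem coreFix_card (w : V6) {p : ℕ → Bool} {n : ℕ} (hp : (List.range 4096).countP p = n)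
    (hmove : ∀ v, p (code v) = true → ∃ c ∈ coreK, mv c w = v) : Nat.card (coreFix w) * n ≤ 9797760 := by
  classical
  have hst : (MulAction.stabilizer KKp w).map KKp.subtype = coreFix w := by
    ext f
    constructor
    · rintro ⟨d, hd, rfl⟩
      exact ⟨d.2, hd⟩
    · rintro ⟨hf, hfw⟩
      exact ⟨⟨f, hf⟩, hfw, rfl⟩
  have ha := (MulAction.stabilizer KKp w).card_mul_index
  rw [MulAction.index_stabilizer, kkp_card] at ha
  rw [← hst, Subgroup.card_map_of_injective KKp.subtype_injective, ← ha]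
  refine Nat.mul_le_mul_left _ ?_
  rw [← hp, ← USixUFour.count_vec, ← Nat.card_coe_set_eq]
  refine Nat.card_le_card_of_injective (fun v => ⟨v.1, ?_⟩) fun a b h => Subtype.ext ?_
  · obtain ⟨c, hc, e⟩ := hmove v.1 v.2
    exact ⟨⟨act c, c, hc, rfl⟩, e⟩
  · exact congrArg (fun u : MulAction.orbit KKp w => (u : V6)) h

theorem coreFix_point : Nat.card (coreFix v0) ≤ 25920 := by
  have h := coreFix_card v0 (n := 378) USixUFour.inP_number fun v hv =>
    inP_move (by rw [decide_eq_true_eq, vec_code] at hv; exact hv)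
  omega

theorem coreFix_off : Nat.card (coreFix s0) ≤ 5760 := by
  have h := coreFix_card s0 (n := 1701) USixUFour.off_card fun v hv => USixUFour.off_move
    ((isotropic_cases v0_spec.2.2.2.1 v0_spec.2.2.2.2.1).resolve_left v0_spec.2.2.2.2.2) hv
  omega

/-- the shape of the image of the centraliser -/
def Shape (o : Fin 3) (Γ : Subgroup (Equiv.Perm V6)) : Prop :=
  ∀ f : Equiv.Perm V6, f ∈ Γ ↔ ∃ c ∈ coreK, f = act c ∨ f = oP o * act c

/-- the stabiliser in the image of the centraliser -/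
def fixIn (Γ : Subgroup (Equiv.Perm V6)) (w : V6) : Subgroup (Equiv.Perm V6) :=
  Γ ⊓ MulAction.stabilizer (Equiv.Perm V6) w

variable {o : Fin 3} {Γ : Subgroup (Equiv.Perm V6)}

theorem oP_sq (o : Fin 3) : oP o * oP o = 1 := Equiv.ext (oF_inv o)

theorem Shape.core_le (h : Shape o Γ) : KKp ≤ Γ := by
  rintro _ ⟨c, hc, rfl⟩
  exact (h _).mpr ⟨c, hc, Or.inl rfl⟩

theorem Shape.oP_mem (h : Shape o Γ) : oP o ∈ Γ :=
  (h _).mpr ⟨1, one_mem _, Or.inr (by rw [map_one, mul_one])⟩

theorem Shape.fix_split (h : Shape o Γ) {w : V6} (hw : oF o w = w) {f : Equiv.Perm V6} (hf : f ∈ fixIn Γ w) :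
    f ∈ coreFix w ∨ oP o * f ∈ coreFix w := by
  have hfw : f w = w := hf.2
  obtain ⟨c, hc, rfl | rfl⟩ := (h f).mp hf.1
  · exact Or.inl (mem_coreFix.mpr ⟨c, hc, rfl, hfw⟩)
  · refine Or.inr (mem_coreFix.mpr ⟨c, hc, by rw [← mul_assoc, oP_sq, one_mul], ?_⟩)
    have h1 : oF o (mv c w) = w := hfw
    exact (oF_inv o).injective (h1.trans hw.symm)

theorem Shape.fix_card (h : Shape o Γ) {w : V6} (hw : oF o w = w) :
    Nat.card (fixIn Γ w) ≤ 2 * Nat.card (coreFix w) := by
  classical
  let F : fixIn Γ w → Bool × coreFix w := fun f =>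
    if hf : (f : Equiv.Perm V6) ∈ coreFix w then (true, ⟨f, hf⟩)
    else (false, ⟨oP o * f, (h.fix_split hw f.2).resolve_left hf⟩)
  have hF : Function.Injective F := by
    intro a b e
    by_cases ha : (a : Equiv.Perm V6) ∈ coreFix w <;> by_cases hb : (b : Equiv.Perm V6) ∈ coreFix w <;>
      simp [F, ha, hb] at e
    · exact e
    · exact e
  refine (Nat.card_le_card_of_injective F hF).trans (le_of_eq ?_)
  rw [Nat.card_prod, Nat.card_eq_fintype_card (α := Bool), Fintype.card_bool]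

/-- the generators of the point stabiliser -/
noncomputable def rGen (k : Fin 3) : Equiv.Perm V6 := act (rEl k)

/-- the generators of the stabiliser of the off vector -/
noncomputable def xGen (k : Fin 2) : Equiv.Perm V6 := act (xEl k)

theorem rGen_coe (k : Fin 3) : (rGen k : V6 → V6) = rF k := funext fun v => rEl_apply k v

theorem xGen_coe (k : Fin 2) : (xGen k : V6 → V6) = xF k := funext fun v => xEl_apply k v

theorem rGen_mem (k : Fin 3) : rGen k ∈ coreFix v0 :=
  mem_coreFix.mpr ⟨_, rEl_mem k, rfl, linF_fix (rEl_apply k) (rF_ok k).2.2.1⟩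

theorem xGen_mem (k : Fin 2) : xGen k ∈ coreFix s0 :=
  mem_coreFix.mpr ⟨_, xEl_mem k, rfl, linF_fix (xEl_apply k) (xF_ok k).2.2.1⟩

theorem Shape.fix_mem (h : Shape o Γ) {w : V6} {f : Equiv.Perm V6} (hf : f ∈ coreFix w) : f ∈ fixIn Γ w :=
  ⟨h.core_le hf.1, hf.2⟩

/-- a normal 2-subgroup of a transitive group of odd degree acts trivially -/
theorem two_trivial {H : Type*} [Group H] [Finite H] {n : ℕ} (φ : H →* Equiv.Perm (Fin n)) (hn : ¬ 2 ∣ n)
    (htr : ∀ i j, ∃ g, φ g i = j) (E : Subgroup H) [E.Normal] (hE : IsPGroup 2 E) : E ≤ φ.ker := by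
  haveI := Fact.mk Nat.prime_two
  letI : MulAction E (Fin n) := MulAction.compHom (Fin n) (φ.comp E.subtype)
  obtain ⟨b, hb⟩ := hE.nonempty_fixed_point_of_prime_not_dvd_card (Fin n) (by rwa [Nat.card_fin])
  intro a ha
  rw [MonoidHom.mem_ker]
  refine Equiv.ext fun i => ?_
  obtain ⟨g, rfl⟩ := htr b i
  have h1 : φ (g⁻¹ * a * g) b = b :=
    hb ⟨g⁻¹ * a * g, by simpa using (inferInstance : E.Normal).conj_mem a ha g⁻¹⟩
  rw [map_mul, map_mul, map_inv, Equiv.Perm.mul_apply, Equiv.Perm.mul_apply, Equiv.Perm.inv_eq_iff_eq] at h1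
  rw [Equiv.Perm.one_apply]
  exact h1

/-- tables give transitivity of an action -/
theorem trans_of {m n : ℕ} {gen : Fin m → Equiv.Perm V6}
    (φ : ↥(Subgroup.closure (Set.range gen)) →* Equiv.Perm (Fin n)) {tab : List (List ℕ)} {prog : List (ℕ × ℕ)}
    {l : Lev} {ls : List Lev}
    (hx : ∀ (k : Fin m) (i : Fin n), (φ ⟨gen k, Subgroup.subset_closure ⟨k, rfl⟩⟩ i : ℕ) = entry tab k i)
    (hok : tabOK n m tab prog (l :: ls) = true) (hgen : ∀ k ∈ l.2.1, k < m) (hfull : (levPts l).length = n)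
    (i j : Fin n) : ∃ g, φ g i = j := by
  simp only [tabOK, Bool.and_eq_true] at hok
  have hle : Subgroup.closure (Set.range fun k => φ ⟨gen k, Subgroup.subset_closure ⟨k, rfl⟩⟩) ≤ φ.range :=
    (Subgroup.closure_le _).mpr (by rintro _ ⟨k, rfl⟩; exact ⟨_, rfl⟩)
  obtain ⟨b, hb, a, ha, ea⟩ := image_trans φ _ tab l ls hx hok.2 hgen hfull i
  obtain ⟨b', hb', a', ha', ea'⟩ := image_trans φ _ tab l ls hx hok.2 hgen hfull j
  obtain ⟨g, rfl⟩ := hle ha
  obtain ⟨g', rfl⟩ := hle ha'
  obtain rfl : b = b' := Fin.ext (hb.trans hb'.symm)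
  exact ⟨g' * g⁻¹, by rw [← ea, map_mul, map_inv, Equiv.Perm.mul_apply, Equiv.Perm.coe_inv, Equiv.symm_apply_apply, ea']⟩

/-- tables give a lower bound of the image -/
theorem range_ge {m n : ℕ} {gen : Fin m → Equiv.Perm V6}
    (φ : ↥(Subgroup.closure (Set.range gen)) →* Equiv.Perm (Fin n)) {tab : List (List ℕ)} {prog : List (ℕ × ℕ)}
    {ls : List Lev} {N : ℕ}
    (hx : ∀ (k : Fin m) (i : Fin n), (φ ⟨gen k, Subgroup.subset_closure ⟨k, rfl⟩⟩ i : ℕ) = entry tab k i)
    (hok : tabOK n m tab prog ls = true ∧ chainProd ls = N) : N ≤ Nat.card φ.range := by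
  rw [← hok.2]
  exact (image_ge φ _ tab prog ls hx hok.1).trans (Subgroup.card_le_of_le
    ((Subgroup.closure_le _).mpr (by rintro _ ⟨k, rfl⟩; exact ⟨_, rfl⟩)))

/-- the point stabiliser in the core -/
theorem point_core : Subgroup.closure (Set.range rGen) = coreFix v0 ∧
    ∃ φ : ↥(Subgroup.closure (Set.range rGen)) →* Equiv.Perm (Fin 45),
      Function.Injective φ ∧ ∀ i j, ∃ g, φ g i = j := by
  classical
  obtain ⟨φ, hφ, hφt⟩ := exists_fam fam45 fam45_inj rGen r45Perm fun k => by rw [rGen_coe]; exact r45_agree k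
  have hge := range_ge φ hφt r45_ok
  have hle : Subgroup.closure (Set.range rGen) ≤ coreFix v0 :=
    (Subgroup.closure_le _).mpr (by rintro _ ⟨k, rfl⟩; exact rGen_mem k)
  have h1 := Subgroup.card_le_of_le hle
  have h2 := coreFix_point
  have h3 := Nat.le_of_dvd Nat.card_pos (Subgroup.card_range_dvd φ)
  refine ⟨Subgroup.eq_of_le_of_card_ge hle (by omega), φ, ?_, ?_⟩
  · refine (MonoidHom.rangeRestrict_injective_iff).mp ?_
    exact ((Nat.bijective_iff_surjective_and_card φ.rangeRestrict).mpr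
      ⟨φ.rangeRestrict_surjective, by omega⟩).1
  · exact trans_of φ hφt r45_ok.1 (by decide +kernel) (by decide +kernel)

/-- a small normal 2-subgroup of the point stabiliser has order at most two -/
theorem point_two (h : Shape o Γ) (E : Subgroup (Equiv.Perm V6)) (hle : E ≤ fixIn Γ v0)
    (hn : ∀ f ∈ fixIn Γ v0, ∀ a ∈ E, f * a * f⁻¹ ∈ E) (hE : IsPGroup 2 E) : Nat.card E ≤ 2 := by
  classical
  obtain ⟨heq, φ, hinj, htr⟩ := point_core
  let E0 : Subgroup ↥(Subgroup.closure (Set.range rGen)) := E.subgroupOf _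
  haveI : E0.Normal := ⟨fun a ha g => hn _ (h.fix_mem (heq.le g.2)) _ ha⟩
  have hE0 : IsPGroup 2 E0 := by
    refine hE.of_injective (MonoidHom.mk' (fun a => (⟨(a.1 : Equiv.Perm V6), a.2⟩ : E)) fun a b => rfl) fun a b e => ?_
    exact Subtype.ext (Subtype.ext (congrArg (fun u : E => (u : Equiv.Perm V6)) e))
  have htriv := two_trivial φ (by norm_num) htr E0 hE0
  have key : ∀ a ∈ E, a ∈ coreFix v0 → a = 1 := fun a ha hc => by
    have h1 : φ ⟨a, heq.ge hc⟩ = φ 1 := (MonoidHom.mem_ker.mp (htriv ha)).trans (map_one φ).symm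
    exact congrArg Subtype.val (hinj h1)
  let F : E → Bool := fun a => decide ((a : Equiv.Perm V6) ∈ coreFix v0)
  have hF : Function.Injective F := by
    intro a b e
    have hfix := fun (c : E) => h.fix_split (oF_fix o).1 (hle c.2)
    by_cases ha : (a : Equiv.Perm V6) ∈ coreFix v0
    · have hb : (b : Equiv.Perm V6) ∈ coreFix v0 := by simpa [F, ha] using e.symm
      exact Subtype.ext ((key _ a.2 ha).trans (key _ b.2 hb).symm)
    · have hb : (b : Equiv.Perm V6) ∉ coreFix v0 := by simpa [F, ha] using e.symm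
      have := key _ (mul_mem (inv_mem a.2) b.2) (by
        rw [show (a : Equiv.Perm V6)⁻¹ * b = (oP o * a)⁻¹ * (oP o * b) by group]
        exact mul_mem (inv_mem ((hfix a).resolve_left ha)) ((hfix b).resolve_left hb))
      exact Subtype.ext (inv_mul_eq_one.mp this)
  refine (Nat.card_le_card_of_injective F hF).trans (le_of_eq ?_)
  rw [Nat.card_eq_fintype_card, Fintype.card_bool]

theorem six_gen (ι : Equiv.Perm (Fin 6) →* Equiv.Perm (Fin 15))
    (hι : ∀ σ i, pairF (ι σ i) = (pairF i).image σ) (p : Equiv.Perm (Fin 15)) (tab : List (List ℕ)) (k : ℕ)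
    (hp : ∀ i : Fin 15, (p i : ℕ) = entry tab k i) (j : Fin 5) (hj : j ≠ 2 ∧ j ≠ 3)
    (himg : ∀ i : Fin 15, ∀ h : entry tab k i < 15, (pairF i).image (sixF j) = pairF ⟨_, h⟩) :
    p ∈ (alternatingGroup (Fin 6)).map ι := by
  obtain ⟨σ, hσ, hsgn⟩ := six_sign j hj.2
  refine ⟨σ, ?_, Equiv.ext fun i => pair_inj _ _ ?_⟩
  · rw [SetLike.mem_coe, Equiv.Perm.mem_alternatingGroup, hsgn, if_neg hj.1]
  · have hlt : entry tab k i < 15 := by rw [← hp]; exact Fin.is_lt _
    rw [hι, show p i = ⟨_, hlt⟩ from Fin.ext (hp i), ← himg i hlt]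
    exact Finset.image_congr fun a _ => hσ a

/-- the generators with an outer map -/
noncomputable def yGen (o : Fin 3) (k : Fin 3) : Equiv.Perm V6 :=
  if h : (k : ℕ) < 2 then xGen ⟨k, h⟩ else oP o

theorem yGen_le (h : Shape o Γ) : Subgroup.closure (Set.range (yGen o)) ≤ fixIn Γ s0 := by
  refine (Subgroup.closure_le _).mpr ?_
  rintro _ ⟨k, rfl⟩
  unfold yGen
  split
  · exact h.fix_mem (xGen_mem _)
  · exact ⟨h.oP_mem, (oF_fix o).2⟩

theorem yGen_eq (h : Shape o Γ) : Subgroup.closure (Set.range (yGen o)) = fixIn Γ s0 := by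
  classical
  obtain ⟨φ, hφ, hφt⟩ := exists_fam fam126 fam126_inj xGen x126Perm fun k => by rw [xGen_coe]; exact x126_agree k
  have hge := range_ge φ hφt x126_ok
  have hle : Subgroup.closure (Set.range xGen) ≤ coreFix s0 :=
    (Subgroup.closure_le _).mpr (by rintro _ ⟨k, rfl⟩; exact xGen_mem k)
  have h3 := Nat.le_of_dvd Nat.card_pos (Subgroup.card_range_dvd φ)
  have heq : Subgroup.closure (Set.range xGen) = coreFix s0 :=
    Subgroup.eq_of_le_of_card_ge hle (by have := coreFix_off; omega)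
  have hx : Subgroup.closure (Set.range xGen) ≤ Subgroup.closure (Set.range (yGen o)) := by
    refine Subgroup.closure_mono ?_
    rintro _ ⟨k, rfl⟩
    exact ⟨⟨k, by omega⟩, by simp only [yGen]; exact dif_pos k.2⟩
  refine le_antisymm (yGen_le h) fun f hf => ?_
  rcases h.fix_split (oF_fix o).2 hf with h1 | h1
  · exact hx (heq.ge h1)
  · have h2 : oP o ∈ Subgroup.closure (Set.range (yGen o)) := Subgroup.subset_closure ⟨2, by simp [yGen]⟩
    have := mul_mem h2 (hx (heq.ge h1))
    rwa [← mul_assoc, oP_sq, one_mul] at this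

/-- the stabiliser of the off vector: the outer map is the conjugation after the swap, and the group is
`2^5` by the alternating group of six letters -/
theorem off_structure (h : Shape o Γ) (E : Subgroup (Equiv.Perm V6)) (hle : E ≤ fixIn Γ s0)
    (hn : ∀ f ∈ fixIn Γ s0, ∀ a ∈ E, f * a * f⁻¹ ∈ E) (hE : IsPGroup 2 E) (h32 : 32 ≤ Nat.card E) :
    o = 2 ∧ Nat.card E = 32 ∧ ∃ π : ↥(fixIn Γ s0) →* alternatingGroup (Fin 6),
      Function.Surjective π ∧ π.ker = E.subgroupOf (fixIn Γ s0) ∧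
      ∀ f ∈ fixIn Γ s0, (∀ i, (fam15 i).image (fun v => f v) = fam15 i) → f ∈ E := by
  classical
  let tab : List (List ℕ) := if o = 0 then y0Perm else if o = 1 then y1Perm else y2Perm
  obtain ⟨φ, hφ, hφt⟩ := exists_fam fam15 fam15_inj (yGen o) tab fun k => by
    have ha := x15_agree
    have hy := y_agree
    fin_cases k
    · show agrees fam15 (xGen 0) tab 0 = true
      rw [xGen_coe]
      simp only [tab]
      fin_cases o
      · exact (ha 0).2.1
      · exact (ha 0).2.2
      · exact (by decide +kernel : agrees fam15 (xF 0) y2Perm 0 = true)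
    · show agrees fam15 (xGen 1) tab 1 = true
      rw [xGen_coe]
      simp only [tab]
      fin_cases o
      · exact (ha 1).2.1
      · exact (ha 1).2.2
      · exact (by decide +kernel : agrees fam15 (xF 1) y2Perm 1 = true)
    · show agrees fam15 (oP o) tab 2 = true
      simp only [tab]
      fin_cases o
      · exact hy.1
      · exact hy.2.1
      · exact hy.2.2
  have heq := yGen_eq h
  have hcard : Nat.card (Subgroup.closure (Set.range (yGen o))) ≤ 11520 := by
    rw [heq]
    have := h.fix_card (oF_fix o).2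
    have := coreFix_off
    omega
  -- the kernel contains the 2-subgroup
  have hx15 : ∀ (k : Fin 2) (i : Fin 15),
      (φ ⟨yGen o ⟨k, by omega⟩, Subgroup.subset_closure ⟨_, rfl⟩⟩ i : ℕ) = entry x15Perm k i := by
    intro k i
    rw [hφt ⟨k, by omega⟩ i]
    have hsame : ∀ (k : Fin 2) (i : Fin 15), entry y0Perm k i = entry x15Perm k i ∧
        entry y1Perm k i = entry x15Perm k i ∧ entry y2Perm k i = entry x15Perm k i := by decide +kernel
    simp only [tab]
    fin_cases o
    exacts [(hsame k i).1, (hsame k i).2.1, (hsame k i).2.2]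
  have htr : ∀ i j, ∃ g, φ g i = j := by
    intro i j
    let x : Fin 2 → ↥(Subgroup.closure (Set.range (yGen o))) := fun k =>
      ⟨yGen o ⟨k, by omega⟩, Subgroup.subset_closure ⟨_, rfl⟩⟩
    have hok : tabOK 15 2 x15Perm x15Prog (x15Lev.headI :: x15Lev.tail) = true :=
      (show x15Lev.headI :: x15Lev.tail = x15Lev by decide +kernel).symm ▸ x15_ok.1
    simp only [tabOK, Bool.and_eq_true] at hok
    have hgle : Subgroup.closure (Set.range fun k => φ (x k)) ≤ φ.range :=
      (Subgroup.closure_le _).mpr (by rintro _ ⟨k, rfl⟩; exact ⟨_, rfl⟩)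
    obtain ⟨b, hb, a, ha, ea⟩ := image_trans φ x x15Perm _ _ hx15 hok.2 (by decide +kernel) (by decide +kernel) i
    obtain ⟨b', hb', a', ha', ea'⟩ := image_trans φ x x15Perm _ _ hx15 hok.2 (by decide +kernel) (by decide +kernel) j
    obtain ⟨g, rfl⟩ := hgle ha
    obtain ⟨g', rfl⟩ := hgle ha'
    obtain rfl : b = b' := Fin.ext (hb.trans hb'.symm)
    exact ⟨g' * g⁻¹, by rw [← ea, map_mul, map_inv, Equiv.Perm.mul_apply, Equiv.Perm.coe_inv, Equiv.symm_apply_apply, ea']⟩
  let E' : Subgroup ↥(Subgroup.closure (Set.range (yGen o))) := E.subgroupOf _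
  haveI : E'.Normal := ⟨fun a ha g => hn _ (heq.le g.2) _ ha⟩
  have hEle : E ≤ Subgroup.closure (Set.range (yGen o)) := heq.symm ▸ hle
  have hE'c : Nat.card E' = Nat.card E := Nat.card_congr (Subgroup.subgroupOfEquivOfLe hEle).toEquiv
  have hker := two_trivial φ (by norm_num) htr E' (hE.of_equiv (Subgroup.subgroupOfEquivOfLe hEle).symm)
  have hkc := Subgroup.card_le_of_le hker
  have hsplit := Subgroup.card_eq_card_quotient_mul_card_subgroup φ.ker
  rw [Nat.card_congr (QuotientGroup.quotientKerEquivRange φ).toEquiv] at hsplit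
  have hsmall : ∀ {N : ℕ}, N ≤ Nat.card φ.range → N * Nat.card φ.ker ≤ 11520 := fun {N} hN => by
    refine (Nat.mul_le_mul_right _ hN).trans ?_
    rw [← hsplit]; exact hcard
  have ho : o = 2 := by
    fin_cases o
    · exfalso
      have := hsmall (range_ge φ hφt y0_ok)
      omega
    · exfalso
      have := hsmall (range_ge φ hφt y1_ok)
      omega
    · rfl
  subst ho
  have h360 : 360 ≤ Nat.card φ.range := by
    rw [← x15_ok.2]
    exact (image_ge φ _ x15Perm x15Prog x15Lev hx15 x15_ok.1).trans (Subgroup.card_le_of_le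
      ((Subgroup.closure_le _).mpr (by rintro _ ⟨k, rfl⟩; exact ⟨_, rfl⟩)))
  have hk := hsmall h360
  obtain ⟨ι, hι, hιs⟩ := exists_six
  have hA6 : Nat.card (alternatingGroup (Fin 6)) = 360 := by
    rw [nat_card_alternatingGroup, Nat.card_fin]; decide +kernel
  have hrle : φ.range ≤ (alternatingGroup (Fin 6)).map ι := by
    rintro _ ⟨⟨g, hg⟩, rfl⟩
    induction hg using Subgroup.closure_induction with
    | mem y hy =>
      obtain ⟨k, rfl⟩ := hy
      fin_cases k
      · exact six_gen ι hιs _ x15Perm 0 (hx15 0) 0 (by decide) fun i hlt => (six_image i).1 0 hlt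
      · exact six_gen ι hιs _ x15Perm 1 (hx15 1) 1 (by decide) fun i hlt => (six_image i).1 1 hlt
      · exact six_gen ι hιs _ y2Perm 2 (hφt 2) 4 (by decide) fun i hlt => (six_image i).2.2 hlt
    | one => exact (congrArg (· ∈ _) (map_one φ)).mpr (one_mem _)
    | mul a b ha hb iha ihb =>
      have := mul_mem iha ihb
      rwa [← map_mul] at this
    | inv a ha iha =>
      have := inv_mem iha
      rwa [← map_inv] at this
  have hreq : φ.range = (alternatingGroup (Fin 6)).map ι :=
    Subgroup.eq_of_le_of_card_ge hrle (by rw [Subgroup.card_map_of_injective hι, hA6]; exact h360)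
  have hE32 : Nat.card E = 32 := by omega
  have hkeq : E' = φ.ker := Subgroup.eq_of_le_of_card_ge hker (by omega)
  refine ⟨rfl, hE32, ?_⟩
  let eA : φ.range ≃* alternatingGroup (Fin 6) :=
    (MulEquiv.subgroupCongr hreq).trans ((alternatingGroup (Fin 6)).equivMapOfInjective ι hι).symm
  let e0 : ↥(fixIn Γ s0) ≃* ↥(Subgroup.closure (Set.range (yGen 2))) := MulEquiv.subgroupCongr heq.symm
  refine ⟨eA.toMonoidHom.comp (φ.rangeRestrict.comp e0.toMonoidHom),
    eA.surjective.comp (φ.rangeRestrict_surjective.comp e0.surjective), ?_, fun f hf hfix => ?_⟩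
  swap
  · have hm : (⟨f, heq.ge hf⟩ : ↥(Subgroup.closure (Set.range (yGen 2)))) ∈ φ.ker :=
      MonoidHom.mem_ker.mpr (Equiv.ext fun i => fam15_inj ((hφ _ i).trans (hfix i)))
    rw [← hkeq] at hm
    exact hm
  ext g
  rw [MonoidHom.mem_ker, MonoidHom.comp_apply, MonoidHom.comp_apply, MulEquiv.coe_toMonoidHom,
    MulEquiv.map_eq_one_iff, ← MonoidHom.mem_ker, MonoidHom.ker_rangeRestrict, ← hkeq]
  exact Iff.rfl

end CfsgLib.LargeFischer
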