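import Cfsg.Agent.Lib.LargeFischer.Co
import Cfsg.Agent.Lib.LargeFischer.Stab
import Cfsg.Agent.Lib.Extraspecial.Pair
import Cfsg.Agent.Lib.Extraspecial.TwoTypes

/-!
Groups of large Fischer type: the classes of involutions in the extraspecial group, and what a conjugate
of the central involution leaves on top.
-/

set_option autoImplicit false
set_option maxRecDepth 100000
set_option linter.style.haveILetI false

namespace CfsgLib.LargeFischer

open CfsgLib.Extraspecial
open CfsgLib.Fi22USix (V6 SU62 code vec_code nrm)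
open CfsgLib.USixUFour (InP mv act coreK isOff)

variable {G : Type*} [Group G] [Finite G] {z : G} {Q : Subgroup (CZ z)}

theorem exists_coords [Q.Normal] (hF : Cfsg.IsOfLargeFischerTypeAt z Q) :
    ∃ (v : CZ z → V6) (ρ : CZ z →* Equiv.Perm V6) (o : Fin 3), Co z Q v ρ o := by
  obtain ⟨hS, N, M, hN, hM, hQN, hNM, hc, ⟨K, _, _, hK, ⟨f⟩⟩, hi⟩ := hF
  haveI := hN
  let π : M →* Cfsg.PSU 4 K 3 := f.toMonoidHom.comp (QuotientGroup.mk' (N.subgroupOf M))
  have hker : π.ker = N.subgroupOf M := by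
    ext m
    rw [MonoidHom.mem_ker]
    show f (QuotientGroup.mk' _ m) = 1 ↔ _
    rw [MulEquiv.map_eq_one_iff, QuotientGroup.mk'_apply, QuotientGroup.eq_one_iff]
  exact exists_co (π := π) hS
    ⟨hN, hM, hK, hQN, hNM, hc, f.surjective.comp (QuotientGroup.mk'_surjective _), hker, hi⟩

theorem v6_self (a : V6) : a + a = 0 := funext fun i => by
  have h2 : (2 : HePres.K4) = 0 := HePres.K4.two_eq_zero
  show a i + a i = 0
  linear_combination a i * h2

variable {v : CZ z → V6} {ρ : CZ z →* Equiv.Perm V6} {o : Fin 3}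

namespace Co

variable (C : Co z Q v ρ o)
include C

theorem v_one : v 1 = 0 := (C.vzero 1 (one_mem Q)).mpr (Or.inl rfl)

theorem v_inv {x : CZ z} (hx : x ∈ Q) : v x⁻¹ = v x := by
  have h := C.vmul x hx x⁻¹ (inv_mem hx)
  rw [mul_inv_cancel, C.v_one] at h
  have h2 : v x + v x = 0 := v6_self _
  exact (add_left_cancel (h2.trans h)).symm

theorem shape : Shape o ρ.range := C.range

theorem inP_inv {f : Equiv.Perm V6} (hf : f ∈ ρ.range) (a : V6) : InP 0 (f a) ↔ InP 0 a := by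
  obtain ⟨c, hc, rfl | rfl⟩ := (C.range f).mp hf
  · exact USixUFour.coreK_stab hc a
  · rw [Equiv.Perm.mul_apply, oP_apply, (oF_spec o _).2]
    exact USixUFour.coreK_stab hc a

/-- two elements with the same image differ by the central involution -/
theorem eq_cases {x y : CZ z} (hx : x ∈ Q) (hy : y ∈ Q) (h : v x = v y) :
    (y : G) = x ∨ (y : G) = z * x := by
  have h0 : v (x⁻¹ * y) = 0 := by
    rw [C.vmul _ (inv_mem hx) _ hy, C.v_inv hx, h]
    exact v6_self _
  rcases (C.vzero _ (mul_mem (inv_mem hx) hy)).mp h0 with e | e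
  · exact Or.inl (inv_mul_eq_one.mp e).symm
  · refine Or.inr ((C.st.z_comm (mem_QG hx)).symm.trans ?_).symm
    have e' : (x : G)⁻¹ * y = z := e
    exact (eq_inv_mul_iff_mul_eq.mp e'.symm)

theorem conj_same {x y : CZ z} (hx : x ∈ Q) (hy : y ∈ Q) (h : v x = v y) (hne : v x ≠ 0) :
    ∃ w ∈ Q, w * x * w⁻¹ = y := by
  rcases C.eq_cases hx hy h with e | e
  · exact ⟨1, one_mem _, Subtype.ext (by simp [e])⟩
  · have h1 := mt (C.vzero x hx).mpr hne
    push Not at h1
    obtain ⟨w, hw, hwx⟩ := C.st.exists_move (mem_QG hx) h1.1 h1.2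
    obtain ⟨w', hw', rfl⟩ := hw
    exact ⟨w', hw', Subtype.ext (hwx.trans e.symm)⟩

theorem conj_of {x y : CZ z} (hx : x ∈ Q) (hy : y ∈ Q) [Q.Normal] (hne : v x ≠ 0) {f : Equiv.Perm V6}
    (hf : f ∈ ρ.range) (h : f (v x) = v y) : ∃ g : CZ z, g * x * g⁻¹ = y := by
  obtain ⟨g, rfl⟩ := hf
  have hgx := (inferInstance : Q.Normal).conj_mem x hx g
  have h1 : v (g * x * g⁻¹) = v y := (C.vconj g x hx).trans h
  have hne' : v (g * x * g⁻¹) ≠ 0 := by
    rw [C.vconj g x hx]
    intro e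
    refine hne ((ρ g).injective (e.trans ?_))
    have h0 := C.vconj g 1 (one_mem Q)
    rw [mul_one, mul_inv_cancel, C.v_one] at h0
    exact h0
  obtain ⟨w, -, hw⟩ := C.conj_same hgx hy h1 hne'
  exact ⟨w * g, by rw [← hw]; group⟩

/-- every involution lies over a point vector or an off vector -/
theorem kinds {x : CZ z} (hx : x ∈ Q) (h2 : (x : G) * x = 1) (h1 : (x : G) ≠ 1) (hz : (x : G) ≠ z) :
    InP 0 (v x) ∨ isOff (code (v x)) = true :=
  isotropic_cases ((C.vsq x hx).mp h2) fun e => ((C.vzero x hx).mp e).elim h1 hz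

theorem off_s0 : isOff (code s0) = true :=
  (isotropic_cases v0_spec.2.2.2.1 v0_spec.2.2.2.2.1).resolve_left v0_spec.2.2.2.2.2

theorem to_point {a : V6} (h : InP 0 a) : ∃ f ∈ ρ.range, f a = v0 := by
  obtain ⟨c, hc, e⟩ := inP_move h
  refine ⟨(act c)⁻¹, inv_mem ((C.range _).mpr ⟨c, hc, Or.inl rfl⟩), ?_⟩
  rw [← e]; exact (act c).symm_apply_apply v0

theorem to_off {a : V6} (h : isOff (code a) = true) : ∃ f ∈ ρ.range, f a = s0 := by
  obtain ⟨c, hc, e⟩ := USixUFour.off_move h C.off_s0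
  exact ⟨act c, (C.range _).mpr ⟨c, hc, Or.inl rfl⟩, e⟩

theorem two_orbits [Q.Normal] : ∃ s t : CZ z, s ∈ Q ∧ t ∈ Q ∧ orderOf s = 2 ∧ orderOf t = 2 ∧
    (s : G) ≠ z ∧ (t : G) ≠ z ∧ (¬ ∃ h : CZ z, h * s * h⁻¹ = t) ∧
    ∀ x : CZ z, x ∈ Q → orderOf x = 2 → (x : G) ≠ z →
      (∃ h : CZ z, h * s * h⁻¹ = x) ∨ ∃ h : CZ z, h * t * h⁻¹ = x := by
  haveI := Fact.mk Nat.prime_two
  obtain ⟨s, hs, es⟩ := C.vsurj v0
  obtain ⟨t, ht, et⟩ := C.vsurj s0
  have hord : ∀ x : CZ z, x ∈ Q → v x ≠ 0 → nrm (v x) = 0 → orderOf x = 2 ∧ (x : G) ≠ z := by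
    intro x hx hne hn
    refine ⟨orderOf_eq_prime ?_ ?_, fun e => hne ((C.vzero x hx).mpr (Or.inr e))⟩
    · rw [pow_two]; exact Subtype.ext ((C.vsq x hx).mpr hn)
    · intro e; exact hne (by rw [e]; exact C.v_one)
  obtain ⟨os, nzs⟩ := hord s hs (es ▸ v0_spec.2.2.1) (es ▸ v0_spec.2.1)
  obtain ⟨ot, nzt⟩ := hord t ht (et ▸ v0_spec.2.2.2.2.1) (et ▸ v0_spec.2.2.2.1)
  refine ⟨s, t, hs, ht, os, ot, nzs, nzt, ?_, fun x hx hx2 hxz => ?_⟩
  · rintro ⟨h, e⟩
    have := C.vconj h s hs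
    rw [e, et, es] at this
    exact v0_spec.2.2.2.2.2 (this ▸ (C.inP_inv ⟨h, rfl⟩ v0).mpr v0_spec.1)
  · have hxx : (x : G) * x = 1 := by
      have := congrArg Subtype.val (show x ^ 2 = 1 by rw [← hx2]; exact pow_orderOf_eq_one x)
      rwa [pow_two] at this
    have hx1 : (x : G) ≠ 1 := fun e => by
      rw [show x = 1 from Subtype.ext e, orderOf_one] at hx2
      omega
    rcases C.kinds hx hxx hx1 hxz with h | h
    · obtain ⟨f, hf, ef⟩ := C.to_point h
      exact Or.inl (C.conj_of hs hx (es ▸ v0_spec.2.2.1) (inv_mem hf)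
        (by rw [es, ← ef]; exact f.symm_apply_apply _))
    · obtain ⟨f, hf, ef⟩ := C.to_off h
      exact Or.inr (C.conj_of ht hx (et ▸ v0_spec.2.2.2.2.1) (inv_mem hf)
        (by rw [et, ← ef]; exact f.symm_apply_apply _))

omit C

/-- the part of a conjugate of the extraspecial group in the centraliser -/
abbrev PH (Q : Subgroup (CZ z)) (g : G) : Subgroup (CZ z) :=
  ((QG Q).map (MulAut.conj g).toMonoidHom ⊓ CZ z).subgroupOf (CZ z)

include C

theorem pair {g : G} (hm : g * z * g⁻¹ ∈ QG Q) (hne : g * z * g⁻¹ ≠ z) : Pair (QG Q) z g :=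
  ⟨C.st, hm, hne, by rw [C.card]; norm_num⟩

/-- the image of that part: a large normal 2-subgroup of the stabiliser -/
theorem trace_spec [Q.Normal] {g : G} (c : Pair (QG Q) z g) {t : CZ z} (ht : t ∈ Q)
    (et : (t : G) = g * z * g⁻¹) :
    (PH Q g).map ρ ≤ fixIn ρ.range (v t) ∧
    (∀ f ∈ fixIn ρ.range (v t), ∀ a ∈ (PH Q g).map ρ, f * a * f⁻¹ ∈ (PH Q g).map ρ) ∧
    IsPGroup 2 ↥((PH Q g).map ρ) ∧
    Cfsg.IsElementaryAbelian 2 (QG Q ⊓ (QG Q).map (MulAut.conj g).toMonoidHom) ∧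
    Nat.card ↥(QG Q ⊓ (QG Q).map (MulAut.conj g).toMonoidHom) ≤ 2 ^ 7 ∧
    2 ^ 12 ≤ Nat.card ↥((PH Q g).map ρ) * Nat.card ↥(QG Q ⊓ (QG Q).map (MulAut.conj g).toMonoidHom) := by
  haveI := Fact.mk Nat.prime_two
  have hc13 : Nat.card ↥((QG Q).map (MulAut.conj g).toMonoidHom) = 2 ^ 13 :=
    (Subgroup.card_map_of_injective (MulAut.conj g).injective).trans C.card
  have htQ' : (t : G) ∈ (QG Q).map (MulAut.conj g).toMonoidHom := et ▸ c.s'.z_mem
  have hcenT : ∀ h : CZ z, h ∈ PH Q g → h * t * h⁻¹ = t := fun h hh => Subtype.ext (by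
    show (h : G) * t * (h : G)⁻¹ = t
    have h1 : (h : G) * (g * z * g⁻¹) = g * z * g⁻¹ * h := c.s'.z_comm hh.1
    rw [et, h1, mul_inv_cancel_right])
  refine ⟨?_, ?_, ?_, ?_, ?_, ?_⟩
  · rintro _ ⟨h, hh, rfl⟩
    refine ⟨⟨h, rfl⟩, ?_⟩
    show ρ h (v t) = v t
    rw [← C.vconj h t ht, hcenT h hh]
  · rintro _ ⟨⟨f, rfl⟩, hfv⟩ _ ⟨h, hh, rfl⟩
    have hfv' : v (f * t * f⁻¹) = v t := (C.vconj f t ht).trans hfv
    have hne : v (f * t * f⁻¹) ≠ 0 := by
      rw [hfv']
      intro e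
      rcases (C.vzero t ht).mp e with e1 | e1
      · exact c.ne_one' (et ▸ e1)
      · exact c.ne (et ▸ e1)
    obtain ⟨w, hw, ew⟩ := C.conj_same ((inferInstance : Q.Normal).conj_mem t ht f) ht hfv' hne
    have ef : ρ (w * f) = ρ f := by rw [map_mul, (C.ker w).mpr hw, one_mul]
    have hfix : (w * f) * t * (w * f)⁻¹ = t := by
      calc _ = w * (f * t * f⁻¹) * w⁻¹ := by group
        _ = _ := ew
    refine ⟨w * f * h * (w * f)⁻¹, ?_, by rw [map_mul, map_mul, map_inv, ef]⟩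
    refine ⟨?_, ((w * f * h * (w * f)⁻¹ : CZ z)).2⟩
    have hn : ((w * f : CZ z) : G) ∈ Subgroup.normalizer (((QG Q).map (MulAut.conj g).toMonoidHom : Subgroup G) : Set G) := by
      refine c.s'.cz (Subgroup.mem_centralizer_singleton_iff.mpr ?_)
      rw [← et]
      exact mul_inv_eq_iff_eq_mul.mp (congrArg Subtype.val hfix)
    exact (Subgroup.mem_normalizer_iff.mp hn (h : G)).mp hh.1
  · refine IsPGroup.map ?_ ρ
    let j : ↥(PH Q g) →* ↥((QG Q).map (MulAut.conj g).toMonoidHom) :=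
      MonoidHom.mk' (fun h => ⟨((h : CZ z) : G), h.2.1⟩) fun a b => rfl
    refine (IsPGroup.of_card hc13).of_injective j fun a b e => ?_
    exact Subtype.ext (Subtype.ext (congrArg Subtype.val e :))
  all_goals
    have hmem : ∀ a ∈ QG Q ⊓ (QG Q).map (MulAut.conj g).toMonoidHom, ∀ b ∈ QG Q ⊓
        (QG Q).map (MulAut.conj g).toMonoidHom, a * b * a⁻¹ = b := by
      intro a ha b hb
      rcases C.st.comm_cases ha.1 hb.1 with e | e
      · exact e
      · rcases c.s'.comm_cases ha.2 hb.2 with e' | e'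
        · exact e'
        · exact absurd (mul_right_cancel (e'.symm.trans e)) c.ne
    have helem : Cfsg.IsElementaryAbelian 2 (QG Q ⊓ (QG Q).map (MulAut.conj g).toMonoidHom) := by
      refine ⟨⟨⟨fun a b => Subtype.ext (mul_inv_eq_iff_eq_mul.mp (hmem a a.2 b b.2))⟩⟩, fun a ha => ?_⟩
      rw [pow_two]
      rcases C.st.sq_cases ha.1 with e | e
      · exact e
      · rcases c.s'.sq_cases ha.2 with e' | e'
        · exact e'
        · exact absurd (e'.symm.trans e) c.ne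
  · exact helem
  · obtain ⟨m, -, hm, hcases⟩ := invariants _ (QG Q) C.st.ex rfl
    rw [C.card] at hm
    have hm6 : m = 6 := by
      have := Nat.pow_right_injective le_rfl hm
      omega
    subst hm6
    let A : Subgroup (QG Q) := (QG Q ⊓ (QG Q).map (MulAut.conj g).toMonoidHom).subgroupOf (QG Q)
    have hA : Cfsg.IsElementaryAbelian 2 A := by
      refine ⟨⟨⟨fun a b => Subtype.ext (Subtype.ext ?_)⟩⟩, fun a ha => Subtype.ext (helem.2 a.1 ha)⟩
      show ((a : QG Q) : G) * (b : QG Q) = (b : QG Q) * (a : QG Q)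
      exact mul_inv_eq_iff_eq_mul.mp (hmem _ a.2 _ b.2)
    rw [← Nat.card_congr (Subgroup.subgroupOfEquivOfLe
      (inf_le_left : QG Q ⊓ (QG Q).map (MulAut.conj g).toMonoidHom ≤ QG Q)).toEquiv]
    rcases hcases with ⟨-, h⟩ | ⟨-, h⟩
    · exact h.1 A hA
    · exact (h.1 A hA).trans (Nat.pow_le_pow_right two_pos (by omega))
  · obtain ⟨u, hu, -, huz, -⟩ := c.exists_swap'
    have huz' : u * z * u⁻¹ = (g * z * g⁻¹) * z := huz.trans c.comm
    let P1 : Subgroup G := (QG Q).map (MulAut.conj g).toMonoidHom ⊓ CZ z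
    have hhalf : 2 ^ 13 ≤ 2 * Nat.card P1 := by
      classical
      let F : ↥((QG Q).map (MulAut.conj g).toMonoidHom) → Bool × P1 := fun q =>
        if h : (q : G) ∈ CZ z then (true, ⟨q, q.2, h⟩)
        else (false, ⟨u⁻¹ * q, ((QG Q).map (MulAut.conj g).toMonoidHom).mul_mem (Subgroup.inv_mem _ hu) q.2, by
          refine Subgroup.mem_centralizer_singleton_iff.mpr (mul_inv_eq_iff_eq_mul.mp ?_)
          rcases c.s'.comm_cases q.2 c.mem' with e | e
          · exact absurd (Subgroup.mem_centralizer_singleton_iff.mpr (mul_inv_eq_iff_eq_mul.mp e)) h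
          · calc u⁻¹ * q * z * (u⁻¹ * q)⁻¹ = u⁻¹ * ((q : G) * z * (q : G)⁻¹) * u := by group
              _ = u⁻¹ * (u * z * u⁻¹) * u := by rw [e, huz']
              _ = z := by group⟩)
      have hF : Function.Injective F := by
        intro a b e
        by_cases ha : (a : G) ∈ CZ z <;> by_cases hb : (b : G) ∈ CZ z <;> simp [F, ha, hb] at e <;>
          first
            | exact e
            | exact Subtype.ext (congrArg Subtype.val e :)
            | exact Subtype.ext (mul_left_cancel (congrArg Subtype.val e :))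
      have := Nat.card_le_card_of_injective F hF
      rwa [hc13, Nat.card_prod, Nat.card_eq_fintype_card (α := Bool), Fintype.card_bool] at this
    have hPH : Nat.card (PH Q g) = Nat.card P1 :=
      Nat.card_congr (Subgroup.subgroupOfEquivOfLe inf_le_right).toEquiv
    let r := ρ.comp (PH Q g).subtype
    have hsplit := Subgroup.card_eq_card_quotient_mul_card_subgroup r.ker
    rw [Nat.card_congr (QuotientGroup.quotientKerEquivRange r).toEquiv,
      show r.range = (PH Q g).map ρ from by rw [MonoidHom.range_comp, Subgroup.range_subtype]] at hsplit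
    have hk : Nat.card r.ker ≤ Nat.card ↥(QG Q ⊓ (QG Q).map (MulAut.conj g).toMonoidHom) := by
      refine Nat.card_le_card_of_injective
        (fun a => ⟨((a.1 : CZ z) : G), mem_QG ((C.ker _).mp a.2), a.1.2.1⟩) fun a b e => ?_
      exact Subtype.ext (Subtype.ext (Subtype.ext (congrArg Subtype.val e :)))
    rw [hPH] at hsplit
    calc 2 ^ 12 ≤ Nat.card P1 := by omega
      _ = _ := hsplit
      _ ≤ _ := Nat.mul_le_mul_left _ hk

/-- the trace of a conjugate has order at least 32 -/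
theorem trace_ge [Q.Normal] {g : G} (c : Pair (QG Q) z g) {t : CZ z} (ht : t ∈ Q)
    (et : (t : G) = g * z * g⁻¹) : 32 ≤ Nat.card ↥((PH Q g).map ρ) := by
  obtain ⟨-, -, -, -, h7, h12⟩ := C.trace_spec c ht et
  have := h12.trans (Nat.mul_le_mul_left _ h7)
  omega

/-- conjugates of the central involution lie over off vectors -/
theorem off_of_conj [Q.Normal] {x : CZ z} (hx : x ∈ Q) {g : G} (ex : (x : G) = g * z * g⁻¹)
    (hne : (x : G) ≠ z) : isOff (code (v x)) = true := by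
  have hmQ : g * z * g⁻¹ ∈ QG Q := ex ▸ mem_QG hx
  have c : Pair (QG Q) z g := C.pair hmQ (ex ▸ hne)
  have h2 : (x : G) * x = 1 := by rw [ex]; exact c.s'.zz
  refine (C.kinds hx h2 (ex ▸ c.ne_one') hne).resolve_left fun hP => ?_
  -- move it to the standard point vector
  obtain ⟨f, ⟨h, rfl⟩, ef⟩ := C.to_point hP
  have hx' := (inferInstance : Q.Normal).conj_mem x hx h
  have ex' : ((h * x * h⁻¹ : CZ z) : G) = ((h : G) * g) * z * ((h : G) * g)⁻¹ := by
    show (h : G) * x * (h : G)⁻¹ = _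
    rw [ex]; group
  have hne' : ((h : G) * g) * z * ((h : G) * g)⁻¹ ≠ z := fun e => by
    have h0 := (C.vzero _ hx').mpr (Or.inr (ex'.trans e))
    rw [C.vconj h x hx, ef] at h0
    exact v0_spec.2.2.1 h0
  have c' : Pair (QG Q) z ((h : G) * g) := C.pair (ex' ▸ mem_QG hx') hne'
  obtain ⟨hle, hn, hp, -, -, -⟩ := C.trace_spec c' hx' ex'
  have h32 := C.trace_ge c' hx' ex'
  rw [C.vconj h x hx, ef] at hle hn
  have := point_two C.shape _ hle hn hp
  omega

/-- the outer map is the conjugation after the swap -/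
theorem outer_two [Q.Normal] (hex : ∃ g : G, g * z * g⁻¹ ∈ QG Q ∧ g * z * g⁻¹ ≠ z) : o = 2 := by
  obtain ⟨g, hm, hne⟩ := hex
  obtain ⟨x, hx, ex⟩ := hm
  have hoff := C.off_of_conj (x := x) hx (g := g) ex (fun e => hne (ex.symm.trans e))
  obtain ⟨f, ⟨h, rfl⟩, ef⟩ := C.to_off hoff
  have hx' := (inferInstance : Q.Normal).conj_mem x hx h
  have ex' : ((h * x * h⁻¹ : CZ z) : G) = ((h : G) * g) * z * ((h : G) * g)⁻¹ := by
    show (h : G) * x * (h : G)⁻¹ = _
    rw [show (x : G) = g * z * g⁻¹ from ex]; group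
  have hne' : ((h : G) * g) * z * ((h : G) * g)⁻¹ ≠ z := fun e => by
    have h0 := (C.vzero _ hx').mpr (Or.inr (ex'.trans e))
    rw [C.vconj h x hx, ef] at h0
    exact v0_spec.2.2.2.2.1 h0
  have c' : Pair (QG Q) z ((h : G) * g) := C.pair (ex' ▸ mem_QG hx') hne'
  obtain ⟨hle, hn, hp, -, -, -⟩ := C.trace_spec c' hx' ex'
  have h32 := C.trace_ge c' hx' ex'
  rw [C.vconj h x hx, ef] at hle hn
  exact (off_structure C.shape _ hle hn hp h32).1

end Co

end CfsgLib.LargeFischer
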