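import Cfsg.Agent.Lib.LargeFischer.Small
import Cfsg.Agent.Lib.LargeFischer.Frame
import Cfsg.Agent.Lib.Extraspecial.FStarSetting
import Cfsg.Agent.Lib.Extraspecial.OuterAut
import Cfsg.Prelude.Def_MonsterType

/-!
The action of the centraliser on the extraspecial group modulo the centre.
-/

set_option autoImplicit false
set_option linter.style.haveILetI false

namespace CfsgLib.LargeFischer

open CfsgLib.Extraspecial

variable {G : Type*} [Group G] [Finite G] {z : G}

/-- the centralizer of an element -/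
abbrev CZ (z : G) : Subgroup G := Subgroup.centralizer ({z} : Set G)

/-- the subgroup inside the ambient group -/
abbrev QG (Q : Subgroup (CZ z)) : Subgroup G := Q.map (CZ z).subtype

theorem mem_QG {Q : Subgroup (CZ z)} {x : CZ z} (hx : x ∈ Q) : (x : G) ∈ QG Q := ⟨x, hx, rfl⟩

theorem of_mem_QG {Q : Subgroup (CZ z)} {x : CZ z} (hx : (x : G) ∈ QG Q) : x ∈ Q := by
  obtain ⟨y, hy, e⟩ := hx
  obtain rfl : y = x := Subtype.ext e
  exact hy

/-- the form on the coordinates -/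
abbrev qq {n : ℕ} (e : Fin n → ZMod 2) : Coord n → ZMod 2 := sqForm e

/-- the pairing on the coordinates -/
abbrev bb {n : ℕ} (e : Fin n → ZMod 2) : Coord n →ₗ[ZMod 2] Coord n →ₗ[ZMod 2] ZMod 2 :=
  cBil e + (cBil e).flip

/-- the data of the action -/
structure Pre (z : G) (Q : Subgroup (CZ z)) (e : Fin 6 → ZMod 2) (u : CZ z → Coord 6)
    (σ : CZ z →* isoGrp e) : Prop where
  st : Setting (QG Q) z
  card : Nat.card (QG Q) = 2 ^ 13
  umul : ∀ x ∈ Q, ∀ y ∈ Q, u (x * y) = u x + u y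
  uzero : ∀ x ∈ Q, (u x = 0 ↔ (x : G) = 1 ∨ (x : G) = z)
  usq : ∀ x ∈ Q, ((x : G) * x = 1 ↔ qq e (u x) = 0)
  usurj : ∀ a, ∃ x ∈ Q, u x = a
  uconj : ∀ h x : CZ z, x ∈ Q → u (h * x * h⁻¹) = (σ h).1 (u x)
  ker : ∀ h, σ h = 1 ↔ h ∈ Q

theorem exists_pre (Q : Subgroup (CZ z)) [Q.Normal] (hS : Cfsg.IsExtraspecialCentralizerSetting z Q 6) :
    ∃ (e : Fin 6 → ZMod 2) (u : CZ z → Coord 6) (σ : CZ z →* isoGrp e), Pre z Q e u σ := by
  classical
  obtain ⟨hz, hF, hQ, hcard, -⟩ := hS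
  have st : Setting (QG Q) z := Setting.of_fStar hz (QG Q) (by rw [hF])
    (haveI := Fact.mk Nat.prime_two
     isExtraspecial_congr (Q.equivMapOfInjective _ (Subgroup.subtype_injective (CZ z))) hQ)
  have hQG : Nat.card (QG Q) = 2 ^ 13 :=
    (Subgroup.card_map_of_injective (Subgroup.subtype_injective (CZ z))).trans hcard
  obtain ⟨e, ⟨ψ⟩⟩ : ∃ e : Fin 6 → ZMod 2, Nonempty (Q ≃* Model e) := by
    by_cases hA : ∃ A : Subgroup Q, Cfsg.IsElementaryAbelian 2 A ∧ Nat.card ↥A = 2 ^ (6 + 1)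
    · exact ⟨0, equiv_model 0 hQ (by norm_num) hcard true (iff_of_true rfl hA)
        (by rw [if_pos rfl]; exact prod_zero)⟩
    · exact ⟨Pi.single (Fin.last 5) 1, equiv_model _ hQ (by norm_num) hcard false
        (iff_of_false Bool.false_ne_true hA) (by rw [if_neg Bool.false_ne_true]; exact prod_last 5)⟩
  let σ : CZ z →* isoGrp e :=
    Model.autHom.comp ((MulAut.congr ψ).toMonoidHom.comp (MulAut.conjNormal (H := Q)))
  let u : CZ z → Coord 6 := fun x => if hx : x ∈ Q then (ψ ⟨x, hx⟩).v else 0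
  have hu : ∀ (x : CZ z) (hx : x ∈ Q), u x = (ψ ⟨x, hx⟩).v := fun x hx => dif_pos hx
  have hcen : ∀ (x : CZ z) (hx : x ∈ Q), (ψ ⟨x, hx⟩).v = 0 ↔ (x : G) = 1 ∨ (x : G) = z := by
    intro x hx
    rw [← Model.mem_center_iff]
    constructor
    · intro h
      refine st.eq_of_forall (mem_QG hx) ?_
      rintro _ ⟨q, hq, rfl⟩
      have h1 := Subgroup.mem_center_iff.mp h (ψ ⟨q, hq⟩)
      rw [← map_mul, ← map_mul] at h1
      exact congrArg (fun w : Q => ((w : CZ z) : G)) (ψ.injective h1)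
    · intro h
      refine Subgroup.mem_center_iff.mpr fun m => ?_
      obtain ⟨q, rfl⟩ := ψ.surjective m
      rw [← map_mul, ← map_mul]
      refine congrArg ψ (Subtype.ext (Subtype.ext ?_))
      show ((q : CZ z) : G) * x = x * (q : CZ z)
      rcases h with h | h
      · rw [h, mul_one, one_mul]
      · rw [h]; exact st.z_comm (mem_QG q.2)
  refine ⟨e, u, σ, st, hQG, ?_, ?_, ?_, ?_, ?_, ?_⟩
  · intro x hx y hy
    rw [hu x hx, hu y hy, hu _ (mul_mem hx hy), ← Model.mul_v, ← map_mul]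
    rfl
  · intro x hx; rw [hu x hx, hcen]
  · intro x hx
    rw [hu x hx]
    have h2 : ψ (⟨x, hx⟩ * ⟨x, hx⟩) = (⟨0, qq e (ψ ⟨x, hx⟩).v⟩ : Model e) := by
      rw [map_mul]
      ext1
      · rw [Model.mul_v]; exact funext fun i => CharTwo.add_self_eq_zero _
      · rw [Model.mul_a, CharTwo.add_self_eq_zero, zero_add]; rfl
    constructor
    · intro h
      have h1 : (⟨x, hx⟩ * ⟨x, hx⟩ : Q) = 1 := Subtype.ext (Subtype.ext h)
      rw [h1, map_one] at h2
      exact (congrArg Model.a h2).symm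
    · intro h
      rw [h] at h2
      have h1 : (⟨x, hx⟩ * ⟨x, hx⟩ : Q) = 1 := ψ.injective (by rw [h2, map_one]; rfl)
      exact congrArg (fun w : Q => ((w : CZ z) : G)) h1
  · intro a
    exact ⟨_, (ψ.symm ⟨a, 0⟩).2, by rw [hu _ (ψ.symm _).2]; simp⟩
  · intro h x hx
    rw [hu x hx, hu _ ((inferInstance : Q.Normal).conj_mem x hx h)]
    show _ = Model.autEquiv (MulAut.congr ψ (MulAut.conjNormal h)) (ψ ⟨x, hx⟩).v
    show _ = ((MulAut.congr ψ (MulAut.conjNormal h)) (⟨(ψ ⟨x, hx⟩).v, 0⟩ : Model e)).v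
    rw [← Model.aut_v]
    show _ = (ψ ((MulAut.conjNormal h) (ψ.symm (ψ ⟨x, hx⟩)))).v
    rw [ψ.symm_apply_apply]
    refine congrArg (fun w => (ψ w).v) (Subtype.ext ?_)
    rw [MulAut.conjNormal_apply]
  · intro h
    constructor
    · intro hh
      have hk : MulAut.congr ψ (MulAut.conjNormal h) ∈ Cfsg.Inn (Model e) := by
        rw [← Model.ker_autHom]; exact hh
      obtain ⟨m, hm⟩ := hk
      obtain ⟨a, rfl⟩ := ψ.surjective m
      have key : ∀ q : Q, (h : CZ z) * q * h⁻¹ = (a : CZ z) * q * (a : CZ z)⁻¹ := fun q => by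
        have h1 := congrArg (fun f : MulAut (Model e) => f (ψ q)) hm
        simp only [MulAut.conj_apply] at h1
        have h2 : ψ (a * q * a⁻¹) = ψ (MulAut.conjNormal h q) := by
          rw [map_mul, map_mul, map_inv, h1]
          show ψ ((MulAut.conjNormal h) (ψ.symm (ψ q))) = _
          rw [ψ.symm_apply_apply]
        have h3 := congrArg (Subtype.val) (ψ.injective h2)
        rw [MulAut.conjNormal_apply] at h3
        exact h3.symm
      have hc : (((a : CZ z)⁻¹ * h : CZ z) : G) ∈ Subgroup.centralizer (QG Q : Set G) := by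
        rw [Subgroup.mem_centralizer_iff]
        rintro _ ⟨q, hq, rfl⟩
        have h1 := key ⟨q, hq⟩
        simp only at h1
        have h2 : q * ((a : CZ z)⁻¹ * h) = (a : CZ z)⁻¹ * h * q := by
          calc q * ((a : CZ z)⁻¹ * h) = (a : CZ z)⁻¹ * ((a : CZ z) * q * (a : CZ z)⁻¹) * h := by group
            _ = (a : CZ z)⁻¹ * (h * q * h⁻¹) * h := by rw [h1]
            _ = _ := by group
        exact congrArg Subtype.val h2
      rw [st.cQ] at hc
      have hmem : (a : CZ z)⁻¹ * h ∈ Q := of_mem_QG ((Subgroup.zpowers_le.mpr st.z_mem) hc)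
      have := mul_mem a.2 hmem
      rwa [mul_inv_cancel_left] at this
    · intro hh
      show MulAut.congr ψ (MulAut.conjNormal h) ∈ (Model.autHom : MulAut (Model e) →* isoGrp e).ker
      rw [Model.ker_autHom]
      refine ⟨ψ ⟨h, hh⟩, MulEquiv.ext fun m => ?_⟩
      obtain ⟨q, rfl⟩ := ψ.surjective m
      show ψ ⟨h, hh⟩ * ψ q * (ψ ⟨h, hh⟩)⁻¹ = ψ ((MulAut.conjNormal h) (ψ.symm (ψ q)))
      rw [ψ.symm_apply_apply, ← map_inv, ← map_mul, ← map_mul]
      refine congrArg ψ (Subtype.ext ?_)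
      rw [MulAut.conjNormal_apply]
      rfl

end CfsgLib.LargeFischer
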