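import Cfsg.Agent.Lib.LargeFischer.Trace

/-!
No subgroup of the centraliser meets the extraspecial group trivially and covers the core.
-/

set_option autoImplicit false
set_option maxRecDepth 100000
set_option linter.style.haveILetI false

namespace CfsgLib.LargeFischer

open CfsgLib.Extraspecial
open CfsgLib.HePres (K4)
open CfsgLib.Fi22USix (V6 el code vec vec_code hval nrm)
open CfsgLib.USixUFour (mv act coreK)

namespace Co

variable {G : Type*} [Group G] [Finite G] {z : G} {Q : Subgroup (CZ z)} {v : CZ z → V6}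
  {ρ : CZ z →* Equiv.Perm V6} (C : Co z Q v ρ 2) {K1 : Subgroup (CZ z)}
include C

/-- elements of a section over the stabiliser of the off vector fix the element over it -/
theorem section_fix [Q.Normal] (hmap : K1.map ρ = KKp) (hinj : ∀ k ∈ K1, k ∈ Q → k = 1) {t : CZ z} (ht : t ∈ Q)
    (hvt : v t = s0) {f : Equiv.Perm V6} (hf : f ∈ Subgroup.closure (Set.range xGen)) :
    ∃ k ∈ K1, ρ k = f ∧ k * t = t * k := by
  induction hf using Subgroup.closure_induction with
  | mem y hy =>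
    obtain ⟨j, rfl⟩ := hy
    obtain ⟨k, hk, ek⟩ : xGen j ∈ K1.map ρ := hmap ▸ (xGen_mem j).1
    refine ⟨k, hk, ek, ?_⟩
    have h3 : k * k * k = 1 :=
      hinj _ (mul_mem (mul_mem hk hk) hk) ((C.ker _).mp (by rw [map_mul, map_mul, ek, xGen_cube]))
    have hv : v (k * t * k⁻¹) = v t := by rw [C.vconj k t ht, ek, hvt, xGen_coe]; exact (xF_ok j).2.2.1
    rcases C.eq_cases ht ((inferInstance : Q.Normal).conj_mem t ht k) hv.symm with e | e
    · exact mul_inv_eq_iff_eq_mul.mp (Subtype.ext e)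
    · exfalso
      have hkz : (k : G) * z = z * k := Subgroup.mem_centralizer_singleton_iff.mp k.2
      have e' : (k : G) * t = z * t * k := mul_inv_eq_iff_eq_mul.mp e
      have e3 : (k : G) * k * k * t = z * t * (k * k * k) := by
        have hzz : ∀ w : G, z * (z * w) = w := fun w => by rw [← mul_assoc, C.st.zz, one_mul]
        have hkz' : ∀ w : G, (k : G) * (z * w) = z * (k * w) := fun w => by rw [← mul_assoc, hkz, mul_assoc]
        have e'' : ∀ w : G, (k : G) * (t * w) = z * (t * (k * w)) := fun w => by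
          rw [← mul_assoc, e', mul_assoc, mul_assoc]
        have := e'' 1
        simp only [mul_one] at this
        simp only [mul_assoc, this, e'', hkz', hzz]
      have h3' : (k : G) * k * k = 1 := congrArg Subtype.val h3
      rw [h3', one_mul, mul_one] at e3
      exact C.st.ne_one (mul_eq_right.mp e3.symm)
  | one => exact ⟨1, one_mem _, map_one ρ, by rw [one_mul, mul_one]⟩
  | mul a b _ _ iha ihb =>
    obtain ⟨k, hk, ek, ck⟩ := iha
    obtain ⟨l, hl, el', cl⟩ := ihb
    exact ⟨k * l, mul_mem hk hl, by rw [map_mul, ek, el'], (show Commute k t from ck).mul_left cl⟩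
  | inv a _ iha =>
    obtain ⟨k, hk, ek, ck⟩ := iha
    exact ⟨k⁻¹, inv_mem hk, by rw [map_inv, ek], (show Commute k t from ck).inv_left⟩

omit C in
theorem ph_norm {g : G} (c : Pair (QG Q) z g) {t : CZ z} (et : (t : G) = g * z * g⁻¹) {y : CZ z}
    (hy : y * t = t * y) {a : CZ z} (ha : a ∈ PH Q g) : y * a * y⁻¹ ∈ PH Q g := by
  refine ⟨?_, (y * a * y⁻¹).2⟩
  have hn : (y : G) ∈ Subgroup.normalizer (((QG Q).map (MulAut.conj g).toMonoidHom : Subgroup G) : Set G) := by
    refine c.s'.cz (Subgroup.mem_centralizer_singleton_iff.mpr ?_)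
    rw [← et]; exact congrArg Subtype.val hy
  exact (Subgroup.mem_normalizer_iff.mp hn (a : G)).mp ha.1

/-- a pair over the off vector whose trace contains the section's element over the first kernel generator -/
theorem good_pair [Q.Normal] (hex : ∃ g : G, g * z * g⁻¹ ∈ QG Q ∧ g * z * g⁻¹ ≠ z) (hmap : K1.map ρ = KKp)
    (hinj : ∀ k ∈ K1, k ∈ Q → k = 1) :
    ∃ (g : G) (t : CZ z), t ∈ Q ∧ (t : G) = g * z * g⁻¹ ∧ v t = s0 ∧ Pair (QG Q) z g ∧
      ∃ k ∈ K1, k ∈ PH Q g ∧ ρ k = eGen 0 := by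
  obtain ⟨g, t, ht, et, hvt, c⟩ := C.exists_std hex
  have htrace := C.trace_eq c ht et hvt
  obtain ⟨k0, hk0, ek0⟩ : eGen 0 ∈ K1.map ρ := hmap ▸ low_kkp (eGen_low (by decide))
  obtain ⟨a, ha, ea⟩ : eGen 0 ∈ (PH Q g).map ρ := htrace ▸ Subgroup.subset_closure ⟨0, rfl⟩
  set q := a * k0⁻¹ with hq
  have hqQ : q ∈ Q := (C.ker q).mp (by rw [hq, map_mul, map_inv, ea, ek0, mul_inv_cancel])
  have hst : ∀ k : Fin 2, inW (wordF (stWords.getD k []) (v q) + v q) = true := by
    intro k
    have hw : (stWords.getD k []).all (fun a => Nat.blt a 2) = true := by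
      have : ∀ k : Fin 2, (stWords.getD k []).all (fun a => Nat.blt a 2) = true := by decide +kernel
      exact this k
    obtain ⟨y, hy, ey, cy⟩ := C.section_fix hmap hinj ht hvt (wordP_low hw)
    have hcomm : y * k0 * y⁻¹ = k0 := by
      refine mul_inv_eq_one.mp (hinj _ (mul_mem (mul_mem (mul_mem hy hk0) (inv_mem hy)) (inv_mem hk0))
        ((C.ker _).mp ?_))
      rw [map_mul, map_mul, map_mul, map_inv, map_inv, ey, ek0, ← e0_st k, mul_inv_cancel_right, mul_inv_cancel]
    have hyq := (inferInstance : Q.Normal).conj_mem q hqQ y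
    have hpq : y * q * y⁻¹ * q⁻¹ ∈ PH Q g := by
      have e : y * q * y⁻¹ * q⁻¹ = (y * a * y⁻¹) * a⁻¹ := by
        calc y * q * y⁻¹ * q⁻¹ = (y * a * y⁻¹) * (y * k0 * y⁻¹)⁻¹ * k0 * a⁻¹ := by rw [hq]; group
          _ = _ := by rw [hcomm, inv_mul_cancel_right]
      rw [e]
      exact mul_mem (ph_norm c et cy ha) (inv_mem ha)
    refine (C.trace_inW c ht et hvt _).mpr ⟨_, mul_mem hyq (inv_mem hqQ), hpq.1, ?_⟩
    rw [C.vmul _ hyq _ (inv_mem hqQ), C.v_inv hqQ, C.vconj y q hqQ, ey, wordP_apply]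
  have hclass : inW (v q) = true ∨ inW (v q + (eGen 0 (vec 2) + vec 2)) = true := by
    have h := List.all_eq_true.mp reps_cover (code (v q)) (List.mem_range.mpr (code_lt' _))
    rw [List.any_eq_true] at h
    obtain ⟨r, hr, hr'⟩ := h
    have hlt : r < 4096 := by
      have : wReps.all (fun n => Nat.blt n 4096) = true := by decide +kernel
      exact Nat.blt_eq.mp (List.all_eq_true.mp this r hr)
    have hqr : inW (v q + vec r) = true := by
      rw [inW, code_xor, show code (vec r) = r from USixUFour.code_vec ⟨r, hlt⟩]; exact hr'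
    have hr2 : ∀ k : Fin 2, inW (wordF (stWords.getD k []) (vec r) + vec r) = true := by
      intro k
      have hw : (stWords.getD k []).all (fun a => Nat.blt a 2) = true := by
        have : ∀ k : Fin 2, (stWords.getD k []).all (fun a => Nat.blt a 2) = true := by decide +kernel
        exact this k
      have h1 := wordP_inW hw hqr
      rw [low_add (wordP_low hw), wordP_apply, wordP_apply] at h1
      refine inW_trans (inW_trans ?_ (hst k)) hqr
      rwa [add_comm] at h1
    have h1 := List.all_eq_true.mp fixed_classes r hr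
    rw [show stWords.getD 0 [] = stWords.getD ((0 : Fin 2) : ℕ) [] from rfl, hr2 0, cond_true, show stWords.getD 1 [] = stWords.getD ((1 : Fin 2) : ℕ) [] from rfl, hr2 1, cond_true,
      Bool.or_eq_true] at h1
    rcases h1 with h1 | h1
    · refine Or.inl ?_
      have := inW_trans (c := 0) hqr (by rwa [add_zero])
      rwa [add_zero] at this
    · refine Or.inr ?_
      rw [show eGen 0 (vec 2) = eF 0 (vec 2) from eGen_apply 0 _]
      exact inW_trans hqr h1
  have hak : a = q * k0 := by rw [hq, inv_mul_cancel_right]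
  rcases hclass with h | h
  · obtain ⟨p, hp, hp', ep⟩ := (C.trace_inW c ht et hvt _).mp h
    refine ⟨g, t, ht, et, hvt, c, k0, hk0, ?_, ek0⟩
    have hqph : q ∈ PH Q g := by
      refine ⟨?_, q.2⟩
      rcases C.eq_cases hp hqQ ep with e | e
      · show (q : G) ∈ _
        rw [e]; exact hp'
      · show (q : G) ∈ _
        rw [e]; exact Subgroup.mul_mem _ c.mem' hp'
    have := mul_mem (inv_mem hqph) ha
    rwa [hak, inv_mul_cancel_left] at this
  · obtain ⟨w, hw, ew⟩ := C.vsurj (vec 2)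
    set g' := (w : G) * g with hg'
    set t' := w * t * w⁻¹ with ht'
    have ht'Q : t' ∈ Q := (inferInstance : Q.Normal).conj_mem t ht w
    have et' : (t' : G) = g' * z * g'⁻¹ := by
      show (w : G) * t * (w : G)⁻¹ = _
      rw [et, hg']; group
    have hvt' : v t' = s0 := by rw [ht', C.vconj w t ht, (C.ker w).mpr hw]; exact hvt
    have c' : Pair (QG Q) z g' := C.pair (et' ▸ mem_QG ht'Q) fun e => by
      have h0 := (C.vzero _ ht'Q).mpr (Or.inr (et'.trans e))
      rw [hvt'] at h0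
      exact v0_spec.2.2.2.2.1 h0
    set q' := w * q * (k0 * w⁻¹ * k0⁻¹) with hq'
    have hkw := (inferInstance : Q.Normal).conj_mem _ (inv_mem hw) k0
    have hq'Q : q' ∈ Q := mul_mem (mul_mem hw hqQ) hkw
    have ha' : q' * k0 ∈ PH Q g' := by
      refine ⟨⟨(g⁻¹ * (a : G) * g), ?_, ?_⟩, (q' * k0).2⟩
      · obtain ⟨b, hb, eb⟩ := ha.1
        have : g⁻¹ * (a : G) * g = b := by
          rw [show (a : G) = g * b * g⁻¹ from eb.symm]; group
        rwa [this]
      · show g' * (g⁻¹ * (a : G) * g) * g'⁻¹ = ((q' * k0 : CZ z) : G)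
        rw [hg', hq', hak]
        simp only [Subgroup.coe_mul, Subgroup.coe_inv]
        group
    have hWq : inW (v q') = true := by
      rw [hq', C.vmul _ (mul_mem hw hqQ) _ hkw, C.vmul w hw q hqQ, C.vconj k0 _ (inv_mem hw), C.v_inv hw, ew,
        ek0]
      rwa [add_comm (vec 2) (v q), add_assoc, add_comm (vec 2)]
    obtain ⟨p, hp, hp', ep⟩ := (C.trace_inW c' ht'Q et' hvt' _).mp hWq
    refine ⟨g', t', ht'Q, et', hvt', c', k0, hk0, ?_, ek0⟩
    have hqph : q' ∈ PH Q g' := by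
      refine ⟨?_, q'.2⟩
      rcases C.eq_cases hp hq'Q ep with e | e
      · show (q' : G) ∈ _
        rw [e]; exact hp'
      · show (q' : G) ∈ _
        rw [e]; exact Subgroup.mul_mem _ c'.mem' hp'
    have := mul_mem (inv_mem hqph) ha'
    rwa [inv_mul_cancel_left] at this

/-- there is no such section -/
theorem no_section [Q.Normal] (hex : ∃ g : G, g * z * g⁻¹ ∈ QG Q ∧ g * z * g⁻¹ ≠ z) (hmap : K1.map ρ = KKp)
    (hinj : ∀ k ∈ K1, k ∈ Q → k = 1) : False := by
  obtain ⟨g, t, ht, et, hvt, c, k0, hk0, hk0P, ek0⟩ := C.good_pair hex hmap hinj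
  have htrace := C.trace_eq c ht et hvt
  obtain ⟨n, hn, hσ⟩ := c.exists_perm (Equiv.swap 0 1)
  have hsp := c.permHom_spec ⟨n, c.X_le_normalizer hn⟩
  have hnz : n * z * n⁻¹ = (t : G) := by
    have h := hsp 0
    rw [hσ, Equiv.swap_apply_left] at h
    exact h.symm.trans et.symm
  have hnt : n * t * n⁻¹ = z := by
    have h := hsp 1
    rw [hσ, Equiv.swap_apply_right] at h
    rw [et]; exact h.symm
  have hQn : (QG Q).map (MulAut.conj n).toMonoidHom = (QG Q).map (MulAut.conj g).toMonoidHom :=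
    C.st.map_eq (hnz.trans et)
  have hQ'n : ∀ b : G, b ∈ (QG Q).map (MulAut.conj g).toMonoidHom → n * b * n⁻¹ ∈ QG Q := by
    rintro _ ⟨b, hb, rfl⟩
    have h1 : ((QG Q).map (MulAut.conj (n * g)).toMonoidHom) = QG Q := by
      refine C.st.map_eq_of_mem (C.st.cz (Subgroup.mem_centralizer_singleton_iff.mpr ?_))
      refine mul_inv_eq_iff_eq_mul.mp ?_
      calc n * g * z * (n * g)⁻¹ = n * (g * z * g⁻¹) * n⁻¹ := by group
        _ = z := by rw [← et]; exact hnt
    rw [← h1]
    exact ⟨b, hb, by simp [mul_assoc]⟩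
  -- conjugation by the swap on the common centraliser
  have hswap : ∀ a : CZ z, a * t = t * a → n * (a : G) * n⁻¹ ∈ CZ z ∧
      n * (a : G) * n⁻¹ * t = t * (n * (a : G) * n⁻¹) := by
    intro a hat
    have hz : Commute (a : G) z := Subgroup.mem_centralizer_singleton_iff.mp a.2
    have ht' : Commute (a : G) t := congrArg Subtype.val hat
    have h1 : Commute (n * (a : G) * n⁻¹) (n * t * n⁻¹) := Commute.conj_iff n |>.mpr ht'
    have h2 : Commute (n * (a : G) * n⁻¹) (n * z * n⁻¹) := Commute.conj_iff n |>.mpr hz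
    rw [hnt] at h1
    rw [hnz] at h2
    exact ⟨Subgroup.mem_centralizer_singleton_iff.mpr h1, h2⟩
  have hph : ∀ a ∈ PH Q g, a * t = t * a := fun a ha => ph_comm c.s' et ha
  let p : V6 → Prop := fun u =>
    ∃ a : CZ z, a ∈ K1 ∧ a ∈ PH Q g ∧ ∃ b ∈ Q, (b : G) = n * a * n⁻¹ ∧ v b = u
  have himg : ∀ a : CZ z, a ∈ PH Q g → ∃ b ∈ Q, (b : G) = n * a * n⁻¹ := fun a ha =>
    ⟨⟨_, (hswap a (hph a ha)).1⟩, of_mem_QG (hQ'n _ ha.1), rfl⟩
  refine no_complement (E := Subgroup.closure (Set.range eGen)) le_rfl ?_ (C.trace_move c ht et hvt) p ?_ ?_ ?_ ?_ ?_ ?_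
  · intro f hf a ha
    rw [← htrace] at ha ⊢
    exact C.trace_norm c ht et hvt f (C.shape.fix_mem (coreFix_eq.le hf)) a ha
  · rintro _ _ ⟨a, ha, ha', b, hb, eb, rfl⟩ ⟨a₂, ha₂, ha₂', b₂, hb₂, eb₂, rfl⟩
    refine ⟨a * a₂, mul_mem ha ha₂, mul_mem ha' ha₂', b * b₂, mul_mem hb hb₂, ?_, C.vmul b hb b₂ hb₂⟩
    rw [Subgroup.coe_mul, eb, eb₂, Subgroup.coe_mul]; group
  · rintro _ ⟨a, ha, ha', b, hb, eb, rfl⟩
    refine (C.perp_iff ht hb (et ▸ c.s'.zz) hvt).mpr ?_
    rw [eb]; exact (hswap a (hph a ha')).2.symm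
  · rintro _ ⟨a, ha, ha', b, hb, eb, rfl⟩
    refine (C.vsq b hb).mp ?_
    rcases c.s'.sq_cases ha'.1 with e | e
    · rw [eb]
      calc n * (a : G) * n⁻¹ * (n * (a : G) * n⁻¹) = n * ((a : G) * a) * n⁻¹ := by group
        _ = 1 := by rw [show (a : G) * a = 1 from e]; group
    · exfalso
      have h1 : a * a = t := Subtype.ext (e.trans et.symm)
      have h2 := hinj t (h1 ▸ mul_mem ha ha) ht
      exact c.ne_one' (et.symm.trans (congrArg Subtype.val h2))
  · rintro _ ⟨a, ha, ha', b, hb, eb, rfl⟩ hW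
    obtain ⟨q, hq, hq', eq⟩ := (C.trace_inW c ht et hvt _).mp hW
    have hbQ' : (b : G) ∈ (QG Q).map (MulAut.conj g).toMonoidHom := by
      rcases C.eq_cases hq hb eq with e | e
      · rw [e]; exact hq'
      · rw [e]; exact Subgroup.mul_mem _ c.mem' hq'
    rw [← hQn] at hbQ'
    obtain ⟨w, hw, ew⟩ := hbQ'
    have hwa : w = (a : G) := (MulAut.conj n).injective (ew.trans eb)
    subst hwa
    have hb1 : b = 1 := Subtype.ext (by rw [eb, hinj a ha (of_mem_QG hw), Subgroup.coe_one]; group)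
    rw [hb1, C.v_one]
  · obtain ⟨b, hb, eb⟩ := himg k0 hk0P
    refine ⟨v b, ⟨k0, hk0, hk0P, b, hb, eb, rfl⟩, fun h0 => ?_⟩
    have he0 : eGen 0 ≠ 1 := fun e => by
      have h := congrArg code (Equiv.congr_fun e (bas 0))
      rw [eGen_apply, Equiv.Perm.one_apply] at h
      revert h
      have hne : code (eF ((0 : Fin 5) : ℕ) (bas 0)) ≠ code (bas 0) ∨ code (eF ((0 : Fin 5) : ℕ) (bas 1)) ≠ code (bas 1) ∨
          code (eF ((0 : Fin 5) : ℕ) (bas 2)) ≠ code (bas 2) := by decide +kernel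
      intro h
      rcases hne with h' | h' | h'
      · exact h' h
      · exact h' (by rw [← eGen_apply, e, Equiv.Perm.one_apply])
      · exact h' (by rw [← eGen_apply, e, Equiv.Perm.one_apply])
    refine he0 ?_
    rw [← ek0, C.ker]
    rcases (C.vzero b hb).mp h0 with e | e
    · rw [show k0 = 1 from Subtype.ext (conj_eq_one_iff.mp (eb.symm.trans e))]; exact one_mem Q
    · have hk : (k0 : G) = t := by
        have h1 : n * (k0 : G) * n⁻¹ = n * t * n⁻¹ := by rw [hnt, ← eb, e]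
        exact mul_left_cancel (mul_right_cancel h1)
      rw [show k0 = t from Subtype.ext hk]; exact ht
  · intro j
    obtain ⟨h, -, eh, ch⟩ := C.section_fix hmap hinj ht hvt (Subgroup.subset_closure ⟨j, rfl⟩)
    -- pull it back by the swap
    have hz : Commute (h : G) z := Subgroup.mem_centralizer_singleton_iff.mp h.2
    have htc : Commute (h : G) t := congrArg Subtype.val ch
    have h1 : Commute (n⁻¹ * (h : G) * n) t := by
      have := (Commute.conj_iff n⁻¹).mpr hz
      rw [inv_inv] at this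
      rwa [show n⁻¹ * z * n = (t : G) from (congrArg (fun w => n⁻¹ * w * n) hnt.symm).trans (by group)] at this
    have h2 : Commute (n⁻¹ * (h : G) * n) z := by
      have := (Commute.conj_iff n⁻¹).mpr htc
      rw [inv_inv] at this
      rwa [show n⁻¹ * (t : G) * n = z from (congrArg (fun w => n⁻¹ * w * n) hnz.symm).trans (by group)] at this
    let h' : CZ z := ⟨n⁻¹ * (h : G) * n, Subgroup.mem_centralizer_singleton_iff.mpr h2⟩
    have ch' : h' * t = t * h' := Subtype.ext h1
    have hfix : ρ h' ∈ fixIn ρ.range s0 := by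
      refine ⟨⟨h', rfl⟩, ?_⟩
      show ρ h' s0 = s0
      rw [← hvt, ← C.vconj h' t ht, ch', mul_inv_cancel_right]
    obtain ⟨e', he', hlow⟩ : ∃ e' ∈ Subgroup.closure (Set.range eGen),
        e' * ρ h' ∈ Subgroup.closure (Set.range xGen) := by
      rcases C.shape.fix_split (oF_fix 2).2 hfix with h3 | h3
      · exact ⟨1, one_mem _, by rw [one_mul]; exact coreFix_eq.ge h3⟩
      · obtain ⟨P, hP, eP⟩ := outer_split
        have hPf : P⁻¹ ∈ fixIn ρ.range s0 := inv_mem (C.shape.fix_mem (coreFix_eq.le hP))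
        have he4 : P⁻¹ * eGen 4 * P⁻¹⁻¹ ∈ Subgroup.closure (Set.range eGen) := htrace ▸
          C.trace_norm c ht et hvt _ hPf _ (htrace.symm ▸ Subgroup.subset_closure ⟨4, rfl⟩)
        refine ⟨_, he4, ?_⟩
        rw [inv_inv, show P⁻¹ * eGen 4 * P * ρ h' = P⁻¹ * (eGen 4 * P * ρ h') by group, ← eP]
        exact mul_mem (inv_mem hP) (coreFix_eq.ge h3)
    obtain ⟨κ, hκ, eκ, cκ⟩ := C.section_fix hmap hinj ht hvt hlow
    obtain ⟨r, hr, er⟩ : e' ∈ (PH Q g).map ρ := htrace.symm ▸ he'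
    set q := (r * h')⁻¹ * κ with hq
    have hqQ : q ∈ Q := (C.ker q).mp (by rw [hq, map_mul, map_inv, map_mul, er, eκ, inv_mul_cancel])
    have hqt : q * t = t * q := ((show Commute r t from hph r hr).mul_left ch').inv_left.mul_left cκ
    obtain ⟨r', hr', er'⟩ := himg r hr
    have hq0 := (hswap q hqt).1
    have hqP : (⟨_, hq0⟩ : CZ z) ∈ PH Q g := ⟨hQn ▸ ⟨(q : G), mem_QG hqQ, rfl⟩, hq0⟩
    refine ⟨ρ ⟨_, hq0⟩, htrace ▸ ⟨_, hqP, rfl⟩, ?_⟩
    rintro _ ⟨a, ha, ha', b, hb, eb, rfl⟩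
    have hκ' := (hswap κ cκ).1
    have hρκ : ρ ⟨_, hκ'⟩ = xGen j * ρ ⟨_, hq0⟩ := by
      have e : (⟨_, hκ'⟩ : CZ z) = r' * h * ⟨_, hq0⟩ := Subtype.ext (by
        show n * (κ : G) * n⁻¹ = (r' : G) * h * (n * (q : G) * n⁻¹)
        rw [er', hq]
        simp only [Subgroup.coe_mul, Subgroup.coe_inv, h']
        group)
      rw [e, map_mul, map_mul, (C.ker r').mpr hr', one_mul, eh]
    refine ⟨κ * a * κ⁻¹, mul_mem (mul_mem hκ ha) (inv_mem hκ), ph_norm c et cκ ha',
      ⟨_, hκ'⟩ * b * (⟨_, hκ'⟩ : CZ z)⁻¹, (inferInstance : Q.Normal).conj_mem b hb _, ?_, ?_⟩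
    · simp only [Subgroup.coe_mul, Subgroup.coe_inv, eb]
      group
    · rw [C.vconj _ b hb, hρκ, Equiv.Perm.mul_apply]

end Co

end CfsgLib.LargeFischer
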