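import Cfsg.Agent.Lib.LargeFischer.Ten
import Cfsg.Agent.Lib.USixUFour.Local

/-!
A group with quotient `U₄(3)` by a subgroup of order three acts on at most 1024 vectors through an
abelian group.
-/

set_option autoImplicit false
set_option maxRecDepth 100000
set_option linter.style.haveILetI false

namespace CfsgLib.LargeFischer

open CfsgLib.HePres (K4)
open CfsgLib.Fi22USix (V6 SU62)
open CfsgLib.USixUFour
open scoped commutatorElement

variable {K : Type} [Field K] [Fintype K]

theorem psu_simple (hK : Fintype.card K = 9) :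
    IsSimpleGroup (Cfsg.PSU 4 K 3) ∧ Nat.card (Cfsg.PSU 4 K 3) = 3265920 := by
  haveI : CharP K 3 := charP_of_card_eq_prime_pow (f := 2) hK
  haveI : Fact (Nat.Prime 3) := ⟨Nat.prime_three⟩
  obtain ⟨B⟩ := Classical.Herm.exists_conj_of_card (F := K) (q := 3) (by rw [hK]; rfl)
  exact ⟨Classical.Herm.isSimpleGroup B 3 (by norm_num) (by norm_num), (UFour.unitary_part hK).1⟩

theorem psu_perfect (hK : Fintype.card K = 9) : commutator (Cfsg.PSU 4 K 3) = ⊤ := by
  obtain ⟨hs, hc⟩ := psu_simple hK
  haveI := hs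
  rcases (inferInstance : (commutator (Cfsg.PSU 4 K 3)).Normal).eq_bot_or_eq_top with h | h
  · exfalso
    letI : CommGroup (Cfsg.PSU 4 K 3) := { (inferInstance : Group (Cfsg.PSU 4 K 3)) with
      mul_comm := fun a b => by
        have : ⁅a, b⁆ ∈ commutator (Cfsg.PSU 4 K 3) :=
          Subgroup.commutator_mem_commutator (Subgroup.mem_top a) (Subgroup.mem_top b)
        rw [h, Subgroup.mem_bot] at this
        exact commutatorElement_eq_one_iff_mul_comm.mp this }
    have hp : (Nat.card (Cfsg.PSU 4 K 3)).Prime := IsSimpleGroup.prime_card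
    rw [hc] at hp; norm_num at hp
  · exact h

/-- diagonal coefficients of product one on both triples -/
def Tri (d : V6) : Prop := d 0 * d 1 * d 2 = 1 ∧ d 3 * d 4 * d 5 = 1

instance : DecidablePred Tri := fun d => inferInstanceAs (Decidable (_ ∧ _))

theorem tri_card : (Finset.univ.filter Tri).card = 81 := by decide +kernel

theorem tri_split : ∀ d : V6, Tri d → ∃ a b : V6, prd a = 1 ∧ prd b = 1 ∧
    ∀ i, d i * (a i * b i) = a (sA⁻¹ i) * b (sB⁻¹ i) := by
  intro d hd
  refine ⟨![1, (d 1)⁻¹, (d 1 * d 2)⁻¹, d 1 * (d 1 * d 2), 1, 1],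
    ![d 4 * (d 4 * d 5), 1, 1, 1, (d 4)⁻¹, (d 4 * d 5)⁻¹], ?_⟩
  revert hd; revert d
  decide +kernel

/-- `U₄(3)` has a subgroup of order 729 with derived subgroup of order at least 27. -/
theorem exists_wide (hK : Fintype.card K = 9) :
    ∃ P : Subgroup (Cfsg.PSU 4 K 3), Nat.card P = 729 ∧ 27 ≤ Nat.card (commutator P) := by
  classical
  obtain ⟨hcard, π, hsur, hker, hcen⟩ := core_structure (K := K) hK
  have hT : monoSub sylT ≤ coreK := (monoSub_mono (fun σ hσ => by
    have key : ∀ σ : Equiv.Perm (Fin 6), σ * sA = sA * σ ∧ σ * sB = sB * σ →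
        Equiv.Perm.sign σ = 1 := by decide +kernel
    exact Equiv.Perm.mem_alternatingGroup.mpr (key σ hσ))).trans alt_core
  let ι : monoSub sylT →* coreK := Subgroup.inclusion hT
  let f : monoSub sylT →* Cfsg.PSU 4 K 3 := π.comp ι
  have hfk : f.ker = scalSub.subgroupOf (monoSub sylT) := by
    ext x
    rw [MonoidHom.mem_ker, Subgroup.mem_subgroupOf]
    show π (ι x) = 1 ↔ _
    rw [← MonoidHom.mem_ker, hker, hcen, Subgroup.mem_subgroupOf]
    rfl
  have hsc : scalSub ≤ monoSub sylT := scal_diag.trans (monoSub_mono bot_le)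
  have hPc : Nat.card f.range = 729 := by
    have h := Subgroup.card_eq_card_quotient_mul_card_subgroup f.ker
    rw [monoSub_card, sylT_card, Nat.card_congr (QuotientGroup.quotientKerEquivRange f).toEquiv, hfk,
      Nat.card_congr (Subgroup.subgroupOfEquivOfLe hsc).toEquiv, scal_card] at h
    omega
  refine ⟨f.range, hPc, ?_⟩
  let E : Subgroup (monoSub sylT) := commutator (monoSub sylT)
  have hprd : ∀ d : V6, Tri d → ∏ i, d i = 1 := fun d hd => by
    rw [Fin.prod_univ_six, show d 0 * d 1 * d 2 * d 3 * d 4 * d 5 =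
      d 0 * d 1 * d 2 * (d 3 * d 4 * d 5) by ac_rfl, hd.1, hd.2, one_mul]
  have hmem : ∀ d : V6, Tri d → ∃ g ∈ E, IsMono (g : SU62) 1 d := by
    intro d hd
    obtain ⟨a, b, ha, hb, h⟩ := tri_split d hd
    have hA : (monoEl 1 a) ∈ monoSub sylT := ⟨1, one_mem _, a, monoEl_spec (by rw [← prd_prod]; exact ha)⟩
    have hB : (monoEl 1 b) ∈ monoSub sylT := ⟨1, one_mem _, b, monoEl_spec (by rw [← prd_prod]; exact hb)⟩
    have hsa : (monoEl sA fun _ => 1) ∈ monoSub sylT := ⟨sA, sA_mem, _, monoEl_spec (by simp)⟩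
    have hsb : (monoEl sB fun _ => 1) ∈ monoSub sylT := ⟨sB, sB_mem, _, monoEl_spec (by simp)⟩
    refine ⟨⁅⟨_, hsa⟩, ⟨_, hA⟩⁆ * ⁅⟨_, hsb⟩, ⟨_, hB⟩⁆, mul_mem
      (Subgroup.commutator_mem_commutator (Subgroup.mem_top _) (Subgroup.mem_top _))
      (Subgroup.commutator_mem_commutator (Subgroup.mem_top _) (Subgroup.mem_top _)), ?_⟩
    have ma : IsMono (monoEl 1 a) 1 a := monoEl_spec (by rw [← prd_prod]; exact ha)
    have mb : IsMono (monoEl 1 b) 1 b := monoEl_spec (by rw [← prd_prod]; exact hb)
    have msa : IsMono (monoEl sA fun _ => 1) sA fun _ => 1 := monoEl_spec (by simp)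
    have msb : IsMono (monoEl sB fun _ => 1) sB fun _ => 1 := monoEl_spec (by simp)
    simp only [commutatorElement_def, Subgroup.coe_mul, Subgroup.coe_inv]
    have h1 := (((msa.mul ma).mul msa.inv).mul ma.inv).mul (((msb.mul mb).mul msb.inv).mul mb.inv)
    simp only [mul_one, mul_inv_cancel, inv_one, one_mul] at h1
    convert h1 using 1
    funext i
    simp only [Equiv.Perm.one_apply, mul_one, one_mul, inv_one, Pi.mul_apply]
    have hne : a i * b i ≠ 0 := by
      refine mul_ne_zero (fun e => ?_) fun e => ?_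
      · rw [prd_prod, Finset.prod_eq_zero (Finset.mem_univ i) e] at ha; exact zero_ne_one ha
      · rw [prd_prod, Finset.prod_eq_zero (Finset.mem_univ i) e] at hb; exact zero_ne_one hb
    rw [eq_div_iff hne |>.mpr (h i)]
    simp only [div_eq_mul_inv, mul_inv]
    ac_rfl
  have hEc : 81 ≤ Nat.card E := by
    choose g hg hgm using fun d : {d // d ∈ Finset.univ.filter Tri} => hmem d.1 (Finset.mem_filter.mp d.2).2
    have h : Nat.card {d // d ∈ Finset.univ.filter Tri} ≤ Nat.card E :=
      Nat.card_le_card_of_injective (fun d => ⟨g d, hg d⟩) fun x y e => Subtype.ext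
        (((congrArg (fun u : E => (u : monoSub sylT).1) e : (g x).1 = (g y).1) ▸ hgm x).data (hgm y)).2
    rwa [Nat.card_eq_finsetCard, tri_card] at h
  have hmap : (commutator (monoSub sylT)).map f.rangeRestrict = commutator f.range := by
    rw [commutator_def, Subgroup.map_commutator, Subgroup.map_top_of_surjective _ f.rangeRestrict_surjective]
    rfl
  rw [← hmap]
  let g : E →* E.map f.rangeRestrict := f.rangeRestrict.subgroupMap E
  have hk : Nat.card g.ker ≤ 3 := by
    refine le_trans ?_ scal_card.le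
    refine Nat.card_le_card_of_injective (fun x => (⟨((x.1 : monoSub sylT) : SU62), ?_⟩ : scalSub)) ?_
    · have hx : f (x.1 : monoSub sylT) = 1 := congrArg (fun u => (u.1 : Cfsg.PSU 4 K 3)) x.2
      rw [← MonoidHom.mem_ker, hfk, Subgroup.mem_subgroupOf] at hx
      exact hx
    · exact fun x y h => Subtype.ext (Subtype.ext (Subtype.ext (congrArg (fun u : scalSub => (u : SU62)) h :)))
  have h := Subgroup.card_eq_card_quotient_mul_card_subgroup g.ker
  rw [Nat.card_congr (QuotientGroup.quotientKerEquivOfSurjective g (f.rangeRestrict.subgroupMap_surjective E)).toEquiv] at h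
  change 27 ≤ Nat.card (E.map f.rangeRestrict)
  nlinarith

/-- extension of automorphisms to dimension ten -/
theorem exists_embed {W : Type*} [AddCommGroup W] [Module (ZMod 2) W] [Finite W] (hW : Nat.card W ≤ 1024) :
    ∃ f : (W ≃ₗ[ZMod 2] W) →* Aut10, Function.Injective f := by
  haveI : Fact (Nat.Prime 2) := ⟨Nat.prime_two⟩
  haveI : Module.Finite (ZMod 2) W := Module.Finite.of_finite
  have hm : Module.finrank (ZMod 2) W ≤ 10 := by
    have h := Module.natCard_eq_pow_finrank (K := ZMod 2) (V := W)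
    rw [Nat.card_zmod] at h
    rw [h, show (1024 : ℕ) = 2 ^ 10 by norm_num] at hW
    exact (Nat.pow_le_pow_iff_right one_lt_two).mp hW
  let e : (W × (Fin (10 - Module.finrank (ZMod 2) W) → ZMod 2)) ≃ₗ[ZMod 2] W10 :=
    LinearEquiv.ofFinrankEq _ _ (by rw [Module.finrank_prod]; simp; omega)
  refine ⟨{ toFun := fun g => (e.symm.trans (g.prodCongr (LinearEquiv.refl _ _))).trans e
            map_one' := LinearEquiv.ext fun x => by simp
            map_mul' := fun a b => LinearEquiv.ext fun x => by simp }, fun a b h => LinearEquiv.ext fun v => ?_⟩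
  have h2 := LinearEquiv.congr_fun h (e (v, 0))
  simpa using h2

theorem small_hom (hK : Fintype.card K = 9) {Γ : Type*} [Group Γ] [Finite Γ] (π : Γ →* Cfsg.PSU 4 K 3)
    (hπ : Function.Surjective π) (h3 : Nat.card π.ker = 3) {W : Type*} [AddCommGroup W] [Module (ZMod 2) W]
    [Finite W] (hW : Nat.card W ≤ 1024) (f : Γ →* (W ≃ₗ[ZMod 2] W)) : commutator Γ ≤ f.ker := by
  haveI : Fact (Nat.Prime 3) := ⟨Nat.prime_three⟩
  obtain ⟨hs, hUc⟩ := psu_simple hK
  haveI := hs
  haveI : Finite (Cfsg.PSU 4 K 3) := Finite.of_surjective π hπ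
  obtain ⟨j, hj⟩ := exists_embed hW
  let F : Γ →* Aut10 := j.comp f
  have hF : F.ker = f.ker := by
    ext x
    simp [F, map_eq_one_iff j hj]
  rw [← hF]
  have hΓ : Nat.card Γ = 3 * 3265920 := by
    rw [Subgroup.card_eq_card_quotient_mul_card_subgroup π.ker,
      Nat.card_congr (QuotientGroup.quotientKerEquivOfSurjective π hπ).toEquiv, hUc, h3, mul_comm]
  haveI : IsCyclic π.ker := isCyclic_of_prime_card h3
  rcases ((inferInstance : F.ker.Normal).map π hπ).eq_bot_or_eq_top with hb | ht
  · exfalso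
    have hle : F.ker ≤ π.ker := (Subgroup.map_eq_bot_iff _).mp hb
    have hd : Nat.card F.ker ∣ 3 := h3 ▸ Subgroup.card_dvd_of_le hle
    have hr := Subgroup.card_eq_card_quotient_mul_card_subgroup F.ker
    rw [Nat.card_congr (QuotientGroup.quotientKerEquivRange F).toEquiv, hΓ] at hr
    rcases (Nat.dvd_prime Nat.prime_three).mp hd with h1 | h1
    · refine gl_ten_nat.1 ?_
      rw [← aut10_card]
      refine Dvd.dvd.trans ?_ (Subgroup.card_subgroup_dvd_card F.range)
      rw [h1, mul_one] at hr
      rw [← hr]; norm_num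
    · have he : F.ker = π.ker := Subgroup.eq_of_le_of_card_ge hle (by rw [h3, h1])
      obtain ⟨P, hP, hP'⟩ := exists_wide hK
      let g : Cfsg.PSU 4 K 3 →* Aut10 :=
        (QuotientGroup.lift π.ker F he.ge).comp (QuotientGroup.quotientKerEquivOfSurjective π hπ).symm.toMonoidHom
      have h0 : Function.Injective (QuotientGroup.lift π.ker F he.ge) := by
        refine (MonoidHom.ker_eq_bot_iff _).mp (eq_bot_iff.mpr fun x hx => ?_)
        obtain ⟨y, rfl⟩ := QuotientGroup.mk'_surjective π.ker x
        have hy : y ∈ F.ker := hx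
        exact (QuotientGroup.eq_one_iff y).mpr (he ▸ hy)
      have hg : Function.Injective g := fun x y h =>
        (QuotientGroup.quotientKerEquivOfSurjective π hπ).symm.injective (h0 h)
      let E : P ≃* P.map g := P.equivMapOfInjective g hg
      have := derived_le (P.map g) (by rw [← Nat.card_congr E.toEquiv, hP])
      have h : (commutator P).map E.toMonoidHom = commutator (P.map g) := by
        rw [commutator_def, Subgroup.map_commutator, Subgroup.map_top_of_surjective E.toMonoidHom E.surjective]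
        rfl
      rw [← h, ← Nat.card_congr (Subgroup.equivMapOfInjective _ E.toMonoidHom E.injective).toEquiv] at this
      omega
  · rw [commutator_def, Subgroup.commutator_le]
    intro a _ b _
    have hsplit : ∀ x : Γ, ∃ n ∈ π.ker, F x = F n := fun x => by
      obtain ⟨k, hk, e⟩ := ht.ge (Subgroup.mem_top (π x))
      exact ⟨k⁻¹ * x, by rw [MonoidHom.mem_ker, map_mul, map_inv, e, inv_mul_cancel],
        by rw [map_mul, map_inv, MonoidHom.mem_ker.mp hk, inv_one, one_mul]⟩
    obtain ⟨m, hm, em⟩ := hsplit a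
    obtain ⟨n, hn, en⟩ := hsplit b
    have hc : m * n = n * m := by
      obtain ⟨g, hg⟩ := IsCyclic.exists_generator (α := π.ker)
      obtain ⟨i, hi⟩ := hg ⟨m, hm⟩
      obtain ⟨l, hl⟩ := hg ⟨n, hn⟩
      have h1 : (g : Γ) ^ i = m := by rw [← SubgroupClass.coe_zpow]; exact congrArg Subtype.val hi
      have h2 : (g : Γ) ^ l = n := by rw [← SubgroupClass.coe_zpow]; exact congrArg Subtype.val hl
      rw [← h1, ← h2]
      exact (Commute.refl (g : Γ)).zpow_zpow i l
    rw [MonoidHom.mem_ker, map_commutatorElement, em, en, ← map_commutatorElement,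
      commutatorElement_eq_one_iff_mul_comm.mpr hc, map_one]

end CfsgLib.LargeFischer
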