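import Cfsg.Agent.Lib.LargeFischer.SplitChecks
import Cfsg.Agent.Lib.LargeFischer.SylowData

/-!
Kernel checks for the Sylow group.
-/

set_option autoImplicit false
set_option Elab.async false
set_option maxRecDepth 100000

namespace CfsgLib.LargeFischer

open Matrix CfsgLib.CosetEnum
open CfsgLib.HePres (K4)
open CfsgLib.Fi22USix (V6 el code vec hval nrm)
open CfsgLib.USixUFour (pV InP)

/-- an additive map by the codes of the images of the twelve bits -/
noncomputable def bMap (cs : List ℕ) (n : ℕ) : ℕ :=
  List.rec (motive := fun _ => ℕ → ℕ) (fun _ => 0)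
    (fun c _ ih n => (bif Nat.beq (n % 2) 1 then c else 0) ^^^ ih (n / 2)) cs n

/-- composition -/
noncomputable def bComp (a b : List ℕ) : List ℕ := b.map (bMap a)

/-- the identity -/
def bId : List ℕ := (List.range 12).map (2 ^ ·)

/-- the images of the bits under a word -/
noncomputable def wCols (w : List ℕ) : List ℕ := (List.range 12).map fun i => wordN w (2 ^ i)

/-- the columns of a generator -/
def gC (k : ℕ) : List ℕ := pEls.getD ((pTab.getD k []).getD 0 0) []

/-- the columns of an involution -/
def invC (i : ℕ) : List ℕ := pEls.getD (invPos.getD i 0) []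

/-- common singular fixed vectors, counted -/
def pairN (i j : ℕ) : ℕ := ((fixL.getD i []).filter fun n => Nat.testBit (fixMasks.getD j 0) n).length

/-- the number of neighbours -/
def degN (m : ℕ) : ℕ := ((List.range 71).filter fun j => m.testBit j).length

/-- the columns of a normalising element -/
def nC (k : ℕ) : List ℕ := (List.range 12).map fun i => code (linF (nCols.getD k []) (vec (2 ^ i)))

theorem els_ok : pEls.length = 256 ∧ pEls.Nodup ∧ pEls.getD 0 [] = bId ∧
    pEls.all (fun c => Nat.beq c.length 12) = true ∧ pProg.length = 255 ∧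
    (List.range 255).all (fun i => Nat.blt (pProg.getD i (0, 0)).1 6 && Nat.ble (pProg.getD i (0, 0)).2 i &&
      decide (pEls.getD (i + 1) [] = bComp (gC (pProg.getD i (0, 0)).1) (pEls.getD (pProg.getD i (0, 0)).2 []))) =
      true := by
  decide +kernel

theorem gens_ok : pWords.length = 6 ∧ ∀ k : Fin 6, wCols (pWords.getD k []) = gC k ∧
    (pWords.getD k []).all (fun a => Nat.blt a 3) = true := by decide +kernel

theorem tab_ok : ∀ k : Fin 6, (List.range 256).all (fun i => Nat.blt ((pTab.getD k []).getD i 0) 256 &&
    decide (bComp (gC k) (pEls.getD i []) = pEls.getD ((pTab.getD k []).getD i 0) [])) = true := by decide +kernel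

theorem inv_ok : invPos.length = 71 ∧ invPos.Nodup ∧ invPos.all (fun i => Nat.blt i 256 && !Nat.beq i 0) = true ∧
    (List.range 256).all (fun i => bif decide (bComp (pEls.getD i []) (pEls.getD i []) = bId) then
      Nat.beq i 0 || invPos.any (Nat.beq i) else true) = true := by decide +kernel

theorem sing_ok : (List.range 4096).filter (fun n => decide (nrm (vec n) = 0)) = singL := by decide +kernel

theorem fix_ok : (∀ i : Fin 71, maskOf (fixL.getD i []) = fixMasks.getD i 0 ∧ (fixL.getD i []).length ≤ 160) := by
  decide +kernel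

theorem fix_scan_low : ∀ i : Fin 71, (i : ℕ) < 36 →
    singL.all (fun n => bif Nat.beq (bMap (invC i) n) n then Nat.testBit (fixMasks.getD i 0) n else true) = true := by
  decide +kernel

theorem fix_scan_high : ∀ i : Fin 71, 36 ≤ (i : ℕ) →
    singL.all (fun n => bif Nat.beq (bMap (invC i) n) n then Nat.testBit (fixMasks.getD i 0) n else true) = true := by
  decide +kernel

theorem fix_scan : ∀ i : Fin 71,
    singL.all (fun n => bif Nat.beq (bMap (invC i) n) n then Nat.testBit (fixMasks.getD i 0) n else true) = true :=
  fun i => (Nat.lt_or_ge (i : ℕ) 36).elim (fix_scan_low i) (fix_scan_high i)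

theorem adj_ok : ∀ i : Fin 71, (List.range 71).all (fun j =>
    bif !Nat.beq (i : ℕ) j && decide (bComp (invC i) (invC j) = bComp (invC j) (invC i)) then
      Nat.testBit (adjC.getD i 0) j && Nat.ble (pairN i j) 64 &&
        (Nat.testBit (adjW.getD i 0) j || Nat.ble (pairN i j) 31) &&
        (Nat.testBit (adjV.getD i 0) j || Nat.ble (pairN i j) 40)
    else true) = true := by decide +kernel

theorem deg_ok : (List.range 71).countP (fun i => Nat.ble 62 (degN (adjC.getD i 0))) ≤ 1 ∧
    (List.range 71).countP (fun i => Nat.ble 30 (degN (adjW.getD i 0))) ≤ 1 ∧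
    (List.range 71).all (fun i => bif Nat.ble 14 (degN (adjV.getD i 0)) then eIdx.any (Nat.beq i) else true) =
      true := by decide +kernel

theorem eIdx_ok : eIdx.length = 15 ∧ eIdx.Nodup ∧ eIdx.all (fun i => Nat.blt i 71) = true ∧
    eFour.all (fun i => eIdx.any (Nat.beq i)) = true ∧
    eIdx.all (fun i => eIdx.all fun j => decide (bComp (invC i) (invC j) = bId) ||
      eIdx.any fun l => decide (bComp (invC i) (invC j) = invC l)) = true ∧
    eIdx.all (fun i => uList.all fun u => Nat.beq (bMap (invC i) u) u) = true ∧
    eIdx.all (fun i => decide (bMap (invC i) (code (el 2 • vec 1)) =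
      code (el 2 • vec (bMap (invC i) 1)))) = true := by
  decide +kernel

theorem u_ok : uList.length = 64 ∧ uList.Nodup ∧ uList.all (fun u => Nat.blt u 4096 &&
      decide (nrm (vec u) = 0) && uList.any (Nat.beq (code (el 2 • vec u))) &&
      uList.all fun w => uList.any (Nat.beq (u ^^^ w))) = true ∧
    uList.any (Nat.beq 0) = true ∧ uBase.all (fun u => uList.any (Nat.beq u)) = true ∧
    singL.all (fun n => bif eFour.all (fun i => Nat.testBit (fixMasks.getD i 0) n) then uList.any (Nat.beq n)
      else true) = true := by
  decide +kernel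

theorem u_perp : (List.range 4096).all (fun n =>
    bif uBase.all (fun u => decide (hval (vec u) (vec n) + hval (vec u) (vec n) * hval (vec u) (vec n) = 0)) then
      uList.any (Nat.beq n) else true) = true := by decide +kernel

theorem norm_ok : ∀ k : Fin 2,
    (∀ i, linF (nCols.getD k []) (linF (nCols.getD k []) (linF (nCols.getD k []) (bas i))) = bas i) ∧
    (∀ i j, hval (linF (nCols.getD k []) (bas i)) (linF (nCols.getD k []) (bas j)) = if i = j then 1 else 0) ∧
    ∀ i : Fin 126, InP 0 (linF (nCols.getD k []) (pV i)) := by decide +kernel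

theorem tree_ok : nTree.length = 14 ∧ (List.range 14).all (fun m =>
      Nat.blt (nTree.getD m (0, 0, 0)).2.1 2 &&
      (Nat.beq (nTree.getD m (0, 0, 0)).2.2 0 ||
        (nTree.take m).any fun p => Nat.beq p.1 (nTree.getD m (0, 0, 0)).2.2) &&
      decide (bComp (nC (nTree.getD m (0, 0, 0)).2.1) (invC (eIdx.getD (nTree.getD m (0, 0, 0)).2.2 0)) =
        bComp (invC (eIdx.getD (nTree.getD m (0, 0, 0)).1 0)) (nC (nTree.getD m (0, 0, 0)).2.1))) = true ∧
    (List.range 15).all (fun i => Nat.beq i 0 || nTree.any fun p => Nat.beq p.1 i) = true := by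
  decide +kernel

end CfsgLib.LargeFischer
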