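import Cfsg.Agent.Lib.LargeFischer.Trace
import Cfsg.Agent.Lib.LargeFischer.SylowChecks

/-!
A Sylow group of the image: its elementary abelian subgroups and their common singular fixed vectors.
-/

set_option autoImplicit false
set_option maxRecDepth 100000
set_option linter.style.haveILetI false

namespace CfsgLib.LargeFischer

open CfsgLib.CosetEnum
open CfsgLib.HePres (K4)
open CfsgLib.Fi22USix (V6 el code vec vec_code hval nrm)
open CfsgLib.USixUFour (mv act coreK)

/-- an additive permutation -/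
def AddPerm (f : Equiv.Perm V6) : Prop := ∀ u w, f (u + w) = f u + f w

/-- the codes of the images of the bits -/
def colsOf (f : Equiv.Perm V6) : List ℕ := (List.range 12).map fun i => code (f (vec (2 ^ i)))

theorem bMap_spec : ∀ (cs : List ℕ) (g : ℕ → ℕ), (∀ a b, g (a ^^^ b) = g a ^^^ g b) →
    (∀ i, i < cs.length → g (2 ^ i) = cs.getD i 0) → ∀ n, n < 2 ^ cs.length → g n = bMap cs n := by
  intro cs
  induction cs with
  | nil =>
    intro g hg _ n hn
    have h0 := hg 0 0
    rw [Nat.xor_self] at h0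
    obtain rfl : n = 0 := by simpa using hn
    show g 0 = 0
    rw [h0, Nat.xor_self]
  | cons c cs ih =>
    intro g hg hc n hn
    have hn2 : n / 2 < 2 ^ cs.length := by
      rw [List.length_cons, pow_succ] at hn
      omega
    have e : n = (n % 2) ^^^ (2 * (n / 2)) := by
      refine Nat.eq_of_testBit_eq fun i => ?_
      rw [Nat.testBit_xor]
      cases i with
      | zero => simp [Nat.testBit_zero]
      | succ i =>
        rw [Nat.testBit_succ, Nat.testBit_succ, Nat.testBit_succ,
          show n % 2 / 2 = 0 by omega, show 2 * (n / 2) / 2 = n / 2 by omega]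
        simp
    have hhi : g (2 * (n / 2)) = bMap cs (n / 2) := by
      refine ih (fun m => g (2 * m)) (fun a b => ?_) (fun i hi => ?_) _ hn2
      · rw [← hg]
        congr 1
        have h2 : ∀ m, 2 * m = m <<< 1 := fun m => by rw [Nat.shiftLeft_eq, pow_one, mul_comm]
        simp only [h2]
        exact Nat.shiftLeft_xor_distrib
      · have := hc (i + 1) (by simp only [List.length_cons]; omega)
        rw [pow_succ', List.getD_cons_succ] at this
        exact this
    have hlo : g (n % 2) = bif Nat.beq (n % 2) 1 then c else 0 := by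
      rcases Nat.mod_two_eq_zero_or_one n with h | h <;> rw [h]
      · have h0 := hg 0 0
        rw [Nat.xor_self] at h0
        rw [h0, Nat.xor_self]; rfl
      · exact hc 0 (by simp)
    conv_lhs => rw [e, hg, hlo, hhi]
    rfl

theorem cols_apply {f : Equiv.Perm V6} (hf : AddPerm f) (v : V6) : code (f v) = bMap (colsOf f) (code v) := by
  have h := bMap_spec (colsOf f) (fun n => code (f (vec n))) (fun a b => by rw [vec_xor, hf, code_xor])
    (fun i hi => by
      rw [colsOf, List.length_map, List.length_range] at hi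
      simp only [colsOf, List.getD_eq_getElem?_getD, List.getElem?_map, List.getElem?_range hi,
        Option.map_some, Option.getD_some])
    (code v) (by rw [colsOf, List.length_map, List.length_range]; exact code_lt' v)
  simpa only [vec_code] using h

theorem cols_inj {f g : Equiv.Perm V6} (hf : AddPerm f) (hg : AddPerm g) (h : colsOf f = colsOf g) : f = g :=
  Equiv.ext fun v => by
    rw [← vec_code (f v), cols_apply hf, h, ← cols_apply hg, vec_code]

theorem cols_mul {f : Equiv.Perm V6} (hf : AddPerm f) (g : Equiv.Perm V6) :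
    colsOf (f * g) = bComp (colsOf f) (colsOf g) := by
  rw [bComp, colsOf, colsOf, colsOf, List.map_map]
  exact List.map_congr_left fun i _ => cols_apply hf _

theorem cols_one : colsOf 1 = bId := List.map_congr_left fun i hi =>
  USixUFour.code_vec ⟨2 ^ i, by
    have := Nat.pow_le_pow_right two_pos (show i ≤ 11 by have := List.mem_range.mp hi; omega)
    omega⟩

theorem add_mul' {f g : Equiv.Perm V6} (hf : AddPerm f) (hg : AddPerm g) : AddPerm (f * g) := fun u w => by
  rw [Equiv.Perm.mul_apply, hg, hf]; rfl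

theorem kkp_addPerm {f : Equiv.Perm V6} (hf : f ∈ KKp) : AddPerm f := kkp_add hf

theorem oP_addPerm : AddPerm (oP 2) := fun u w => by
  show sigF (oddF (u + w)) = sigF (oddF u) + sigF (oddF w)
  rw [← sig_add]; rfl

theorem letP_addPerm (i : ℕ) : AddPerm (letP i) := by
  unfold letP
  split_ifs
  · exact kkp_addPerm (xGen_mem 0).1
  · exact kkp_addPerm (xGen_mem 1).1
  · exact oP_addPerm

theorem wordP_addPerm (w : List ℕ) : AddPerm (wordP w) := by
  induction w with
  | nil => exact fun _ _ => rfl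
  | cons i w ih => rw [wordP_cons]; exact add_mul' (letP_addPerm i) ih

theorem wCols_spec (w : List ℕ) : colsOf (wordP w) = wCols w := List.map_congr_left fun i hi => by
  have hlt : 2 ^ i < 4096 := by
    have := Nat.pow_le_pow_right two_pos (show i ≤ 11 by have := List.mem_range.mp hi; omega)
    omega
  rw [wordP_apply]
  show code (vec (wordN w (code (vec (2 ^ i))))) = _
  rw [show code (vec (2 ^ i)) = 2 ^ i from USixUFour.code_vec ⟨_, hlt⟩]
  cases w with
  | nil => exact USixUFour.code_vec ⟨_, hlt⟩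
  | cons a w =>
    show code (vec (strict (wordN w (2 ^ i)) fun m => code (letF a (vec m)))) =
      strict (wordN w (2 ^ i)) fun m => code (letF a (vec m))
    rw [strict_eq, vec_code]

/-- a generator of the Sylow group -/
noncomputable def pGen (k : Fin 6) : Equiv.Perm V6 := wordP (pWords.getD k [])

/-- the Sylow group -/
noncomputable def sylP : Subgroup (Equiv.Perm V6) := Subgroup.closure (Set.range pGen)

theorem pGen_cols (k : Fin 6) : colsOf (pGen k) = gC k := (wCols_spec _).trans (gens_ok.2 k).1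

theorem els_mem {i : ℕ} (hi : i < 256) : pEls.getD i [] ∈ pEls := by
  have h : i < pEls.length := hi.trans_eq els_ok.1.symm
  exact (List.getD_eq_getElem pEls [] h).symm ▸ List.getElem_mem h

theorem els_inj {i j : ℕ} (hi : i < 256) (hj : j < 256) (h : pEls.getD i [] = pEls.getD j []) : i = j := by
  have hi' : i < pEls.length := hi.trans_eq els_ok.1.symm
  have hj' : j < pEls.length := hj.trans_eq els_ok.1.symm
  rwa [List.getD_eq_getElem pEls [] hi', List.getD_eq_getElem pEls [] hj', els_ok.2.1.getElem_inj_iff] at h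

/-- every element is listed -/
theorem sylP_listed {f : Equiv.Perm V6} (hf : f ∈ sylP) : AddPerm f ∧ colsOf f ∈ pEls := by
  have hf' : f ∈ Submonoid.closure (Set.range pGen) := by
    rw [← Subgroup.closure_toSubmonoid_of_finite]; exact hf
  clear hf
  suffices key : ∀ g : Equiv.Perm V6, AddPerm g ∧ colsOf g ∈ pEls → AddPerm (f * g) ∧ colsOf (f * g) ∈ pEls by
    have := key 1 ⟨fun _ _ => rfl, by
      rw [cols_one, ← els_ok.2.2.1, List.getD_eq_getElem _ _ (by rw [els_ok.1]; norm_num)]
      exact List.getElem_mem _⟩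
    rwa [mul_one] at this
  induction hf' using Submonoid.closure_induction with
  | mem y hy =>
    obtain ⟨k, rfl⟩ := hy
    rintro g ⟨hg, hgc⟩
    refine ⟨add_mul' (wordP_addPerm _) hg, ?_⟩
    obtain ⟨i, hi, e⟩ := List.mem_iff_getElem.mp hgc
    rw [els_ok.1] at hi
    have h := List.all_eq_true.mp (tab_ok k) i (List.mem_range.mpr hi)
    rw [Bool.and_eq_true, Nat.blt_eq, decide_eq_true_eq] at h
    rw [cols_mul (f := pGen k) (wordP_addPerm _), pGen_cols,
      ← e, ← List.getD_eq_getElem _ [] (by rw [els_ok.1]; exact hi), h.2,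
      List.getD_eq_getElem _ _ (by rw [els_ok.1]; exact h.1)]
    exact List.getElem_mem _
  | one => intro g hg; rwa [one_mul]
  | mul a b _ _ iha ihb => intro g hg; rw [mul_assoc]; exact iha _ (ihb _ hg)

/-- every listed element occurs -/
theorem sylP_onto : ∀ i, i < 256 → ∃ f ∈ sylP, colsOf f = pEls.getD i [] := by
  intro i
  induction i using Nat.strong_induction_on with
  | _ i ih =>
    intro hi
    rcases Nat.eq_zero_or_pos i with rfl | hpos
    · exact ⟨1, one_mem _, cols_one.trans els_ok.2.2.1.symm⟩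
    obtain ⟨j, rfl⟩ : ∃ j, i = j + 1 := ⟨i - 1, by omega⟩
    have h := List.all_eq_true.mp els_ok.2.2.2.2.2 j (List.mem_range.mpr (by omega))
    simp only [Bool.and_eq_true, Nat.blt_eq, Nat.ble_eq, decide_eq_true_eq] at h
    obtain ⟨g, hg, eg⟩ := ih (pProg.getD j (0, 0)).2 (by omega) (by omega)
    refine ⟨pGen ⟨_, h.1.1⟩ * g, mul_mem (Subgroup.subset_closure ⟨_, rfl⟩) hg, ?_⟩
    rw [cols_mul (f := pGen _) (wordP_addPerm _), pGen_cols, eg]
    exact h.2.symm

theorem sylP_card : Nat.card sylP = 256 := by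
  refine le_antisymm ?_ ?_
  · refine (Nat.card_le_card_of_injective (fun f : sylP => (⟨colsOf (f : Equiv.Perm V6),
      List.mem_toFinset.mpr (sylP_listed f.2).2⟩ : {c // c ∈ pEls.toFinset})) fun a b e => ?_).trans ?_
    · exact Subtype.ext (cols_inj (sylP_listed a.2).1 (sylP_listed b.2).1 (congrArg Subtype.val e :))
    · rw [Nat.card_eq_finsetCard]
      exact (List.toFinset_card_le _).trans (le_of_eq els_ok.1)
  · choose f hf hfc using sylP_onto
    refine le_trans (le_of_eq (by simp)) (Nat.card_le_card_of_injective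
      (fun i : Fin 256 => (⟨f i i.2, hf i i.2⟩ : sylP)) fun a b e => Fin.ext ?_)
    have e' := congrArg (fun g : sylP => colsOf (g : Equiv.Perm V6)) e
    simp only [hfc] at e'
    exact els_inj a.2 b.2 e'

theorem sylP_le {Γ : Subgroup (Equiv.Perm V6)} (h : Shape 2 Γ) : sylP ≤ Γ := by
  refine (Subgroup.closure_le _).mpr ?_
  rintro _ ⟨k, rfl⟩
  have hw : ∀ w : List ℕ, wordP w ∈ Γ := by
    intro w
    induction w with
    | nil => exact one_mem _
    | cons i w ih =>
      rw [wordP_cons]
      refine mul_mem ?_ ih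
      unfold letP
      split_ifs
      · exact h.core_le (xGen_mem 0).1
      · exact h.core_le (xGen_mem 1).1
      · exact h.oP_mem
  exact hw _

theorem invC_lt {i : ℕ} (hi : i < 71) : invPos.getD i 0 < 256 ∧ invPos.getD i 0 ≠ 0 := by
  have h := List.all_eq_true.mp inv_ok.2.2.1 (invPos.getD i 0) (by
    rw [List.getD_eq_getElem _ _ (by rw [inv_ok.1]; exact hi)]; exact List.getElem_mem _)
  rw [Bool.and_eq_true, Nat.blt_eq, Bool.not_eq_true', Bool.eq_false_iff] at h
  exact ⟨h.1, fun e => h.2 (by rw [e]; rfl)⟩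

theorem invC_inj {i j : ℕ} (hi : i < 71) (hj : j < 71) (h : invC i = invC j) : i = j := by
  have h' := els_inj (invC_lt hi).1 (invC_lt hj).1 h
  rwa [List.getD_eq_getElem _ _ (hi.trans_eq inv_ok.1.symm), List.getD_eq_getElem _ _ (hj.trans_eq inv_ok.1.symm),
    inv_ok.2.1.getElem_inj_iff] at h'

theorem invC_ne_one {i : ℕ} (hi : i < 71) : invC i ≠ bId := by
  intro e
  exact (invC_lt hi).2 (els_inj (invC_lt hi).1 (by norm_num) (e.trans els_ok.2.2.1.symm))

theorem exists_inv {i : ℕ} (hi : i < 71) : ∃ f ∈ sylP, colsOf f = invC i := sylP_onto _ (invC_lt hi).1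

theorem inv_index {f : Equiv.Perm V6} (hf : f ∈ sylP) (h2 : f * f = 1) (h1 : f ≠ 1) :
    ∃ i, i < 71 ∧ colsOf f = invC i := by
  obtain ⟨hA, hc⟩ := sylP_listed hf
  obtain ⟨k, hk, e⟩ := List.mem_iff_getElem.mp hc
  rw [els_ok.1] at hk
  have hkD : pEls.getD k [] = colsOf f := by rw [List.getD_eq_getElem _ _ (by rw [els_ok.1]; exact hk), e]
  have h := List.all_eq_true.mp inv_ok.2.2.2 k (List.mem_range.mpr hk)
  rw [hkD, ← cols_mul hA, h2, decide_eq_true cols_one, cond_true, Bool.or_eq_true, List.any_eq_true] at h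
  rcases h with h | ⟨p, hp, hpk⟩
  · refine absurd (cols_inj hA (fun _ _ => rfl) ?_) h1
    rw [cols_one, ← hkD, Nat.eq_of_beq_eq_true h, els_ok.2.2.1]
  · obtain ⟨i, hi, ei⟩ := List.mem_iff_getElem.mp hp
    rw [inv_ok.1] at hi
    refine ⟨i, hi, ?_⟩
    have hpi : invPos.getD i 0 = p := (List.getD_eq_getElem invPos 0 (hi.trans_eq inv_ok.1.symm)).trans ei
    rw [invC, hpi, ← Nat.eq_of_beq_eq_true hpk, hkD]

/-- the elementary group of order sixteen -/
def e1Set : Set (Equiv.Perm V6) := {f | f ∈ sylP ∧ (f = 1 ∨ ∃ i ∈ eIdx, colsOf f = invC i)}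

theorem eIdx_lt {i : ℕ} (hi : i ∈ eIdx) : i < 71 := Nat.blt_eq.mp (List.all_eq_true.mp eIdx_ok.2.2.1 i hi)

theorem e1_mul {a b : Equiv.Perm V6} (ha : a ∈ e1Set) (hb : b ∈ e1Set) : a * b ∈ e1Set := by
  refine ⟨mul_mem ha.1 hb.1, ?_⟩
  rcases ha.2 with rfl | ⟨i, hi, ei⟩
  · rw [one_mul]; exact hb.2
  rcases hb.2 with rfl | ⟨j, hj, ej⟩
  · rw [mul_one]; exact Or.inr ⟨i, hi, ei⟩
  have h := List.all_eq_true.mp (List.all_eq_true.mp eIdx_ok.2.2.2.2.1 i hi) j hj
  rw [← ei, ← ej, ← cols_mul (sylP_listed ha.1).1, Bool.or_eq_true, List.any_eq_true, decide_eq_true_eq] at h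
  rcases h with h | ⟨l, hl, h⟩
  · exact Or.inl (cols_inj (sylP_listed (mul_mem ha.1 hb.1)).1 (fun _ _ => rfl) (h.trans cols_one.symm))
  · exact Or.inr ⟨l, hl, of_decide_eq_true h⟩

/-- the elementary group -/
noncomputable def e1Sub : Subgroup (Equiv.Perm V6) := Subgroup.closure e1Set

theorem mem_e1 {f : Equiv.Perm V6} : f ∈ e1Sub ↔ f ∈ e1Set := by
  refine ⟨fun h => ?_, fun h => Subgroup.subset_closure h⟩
  have h' : f ∈ Submonoid.closure e1Set := by
    rw [← Subgroup.closure_toSubmonoid_of_finite]; exact h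
  induction h' using Submonoid.closure_induction with
  | mem y hy => exact hy
  | one => exact ⟨one_mem _, Or.inl rfl⟩
  | mul a b ha hb iha ihb =>
    exact e1_mul (iha (Subgroup.le_closure_toSubmonoid _ ha)) (ihb (Subgroup.le_closure_toSubmonoid _ hb))

theorem e1_cases {f : Equiv.Perm V6} (hf : f ∈ e1Sub) (h1 : f ≠ 1) : ∃ i ∈ eIdx, colsOf f = invC i :=
  (mem_e1.mp hf).2.resolve_left h1

theorem e1_le : e1Sub ≤ sylP := fun _ hf => (mem_e1.mp hf).1

theorem e1_elem {i : ℕ} (hi : i ∈ eIdx) : ∃ f ∈ e1Sub, colsOf f = invC i := by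
  obtain ⟨f, hf, e⟩ := exists_inv (eIdx_lt hi)
  exact ⟨f, mem_e1.mpr ⟨hf, Or.inr ⟨i, hi, e⟩⟩, e⟩

theorem e1_card : Nat.card e1Sub = 16 := by
  classical
  choose f hf hfc using fun i : {i // i ∈ eIdx.toFinset} => e1_elem (List.mem_toFinset.mp i.2)
  let F : Option {i // i ∈ eIdx.toFinset} → e1Sub := fun o => o.elim 1 fun i => ⟨f i, hf i⟩
  have hb : Function.Bijective F := by
    constructor
    · rintro (_ | i) (_ | j) e
      · rfl
      · exact absurd (((congrArg (fun g : e1Sub => colsOf (g : Equiv.Perm V6)) e).trans (hfc j)).symm.trans cols_one)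
          (invC_ne_one (eIdx_lt (List.mem_toFinset.mp j.2)))
      · exact absurd (((congrArg (fun g : e1Sub => colsOf (g : Equiv.Perm V6)) e).symm.trans (hfc i)).symm.trans cols_one)
          (invC_ne_one (eIdx_lt (List.mem_toFinset.mp i.2)))
      · have e' := congrArg (fun g : e1Sub => colsOf (g : Equiv.Perm V6)) e
        simp only [F, Option.elim, hfc] at e'
        exact congrArg some (Subtype.ext (invC_inj (eIdx_lt (List.mem_toFinset.mp i.2))
          (eIdx_lt (List.mem_toFinset.mp j.2)) e'))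
    · rintro ⟨g, hg⟩
      by_cases h1 : g = 1
      · exact ⟨none, Subtype.ext h1.symm⟩
      · obtain ⟨i, hi, e⟩ := e1_cases hg h1
        refine ⟨some ⟨i, List.mem_toFinset.mpr hi⟩, Subtype.ext ?_⟩
        refine cols_inj (sylP_listed (e1_le (hf _))).1 (sylP_listed (e1_le hg)).1 ?_
        exact (hfc _).trans e.symm
  rw [← Nat.card_eq_of_bijective F hb, Nat.card_eq_fintype_card, Fintype.card_option, Fintype.card_coe,
    List.toFinset_card_of_nodup eIdx_ok.2.1, eIdx_ok.1]

theorem e1_fix {f : Equiv.Perm V6} (hf : f ∈ e1Sub) {v : V6} (hv : code v ∈ uList) : f v = v := by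
  by_cases h1 : f = 1
  · rw [h1]; rfl
  obtain ⟨i, hi, e⟩ := e1_cases hf h1
  have h := List.all_eq_true.mp (List.all_eq_true.mp eIdx_ok.2.2.2.2.2.1 i hi) _ hv
  rw [← e, ← cols_apply (sylP_listed (e1_le hf)).1] at h
  rw [← vec_code (f v), Nat.eq_of_beq_eq_true h, vec_code]

theorem e1_turn {f : Equiv.Perm V6} (hf : f ∈ e1Sub) : f (el 2 • vec 1) = el 2 • f (vec 1) := by
  by_cases h1 : f = 1
  · rw [h1]; rfl
  obtain ⟨i, hi, e⟩ := e1_cases hf h1
  have h := of_decide_eq_true (List.all_eq_true.mp eIdx_ok.2.2.2.2.2.2 i hi)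
  have e1 : bMap (invC i) 1 = code (f (vec 1)) := by
    rw [cols_apply (sylP_listed (e1_le hf)).1, e, show code (vec 1) = 1 from USixUFour.code_vec ⟨1, by norm_num⟩]
  rw [← e, ← cols_apply (sylP_listed (e1_le hf)).1, e, e1, vec_code] at h
  rw [← vec_code (f (el 2 • vec 1)), h, vec_code]

/-- a nontrivial element of the elementary group is moved to any other inside the core -/
theorem e1_move : ∃ f0 ∈ e1Sub, colsOf f0 = invC (eIdx.getD 0 0) ∧ f0 ≠ 1 ∧
    ∀ f ∈ e1Sub, f ≠ 1 → ∃ c ∈ KKp, c * f0 * c⁻¹ = f ∧ ∀ u, code u ∈ uList → code (c u) ∈ uList := by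
  have hnU : ∀ k : Fin 2, uList.all (fun u => uList.any (Nat.beq (bMap (nC k) u))) = true := by decide +kernel
  have hlt : ∀ i, i < 15 → eIdx.getD i 0 ∈ eIdx := fun i hi => by
    rw [List.getD_eq_getElem _ _ (by rw [eIdx_ok.1]; exact hi)]; exact List.getElem_mem _
  obtain ⟨f0, hf0, e0⟩ := e1_elem (hlt 0 (by norm_num))
  have hn0 : f0 ≠ 1 := fun e => invC_ne_one (eIdx_lt (hlt 0 (by norm_num))) (by rw [← e0, e, cols_one])
  have hkeep : ∀ (k : Fin 2) (c : Equiv.Perm V6), c ∈ KKp → colsOf c = nC k →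
      ∀ u, code u ∈ uList → code (c u) ∈ uList := by
    intro k c hc ec u hu
    have h := List.all_eq_true.mp (hnU k) _ hu
    rw [List.any_eq_true] at h
    obtain ⟨e, he, hue⟩ := h
    rw [cols_apply (kkp_addPerm hc), ec, Nat.eq_of_beq_eq_true hue]
    exact he
  have hnc : ∀ k : Fin 2, ∃ c ∈ KKp, colsOf c = nC k := by
    intro k
    obtain ⟨g, hg, hgv⟩ := exists_core (nCols.getD k []) (norm_ok k).1 (norm_ok k).2.1 (norm_ok k).2.2
    exact ⟨act g, ⟨g, hg, rfl⟩, List.map_congr_left fun i _ => by rw [act_apply, hgv]⟩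
  have step : ∀ m, m < 14 → ∀ f ∈ e1Sub, colsOf f = invC (eIdx.getD (nTree.getD m (0, 0, 0)).1 0) →
      ∃ c ∈ KKp, c * f0 * c⁻¹ = f ∧ ∀ u, code u ∈ uList → code (c u) ∈ uList := by
    intro m
    induction m using Nat.strong_induction_on with
    | _ m ih =>
      intro hm f hf ef
      have h := List.all_eq_true.mp tree_ok.2.1 m (List.mem_range.mpr hm)
      simp only [Bool.and_eq_true, Bool.or_eq_true, decide_eq_true_eq, List.any_eq_true, Nat.blt_eq] at h
      obtain ⟨⟨hk, hp⟩, heq⟩ := h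
      obtain ⟨n, hn, en⟩ := hnc ⟨_, hk⟩
      obtain ⟨p, hpm, ep, hpar⟩ : ∃ p, p ∈ e1Sub ∧
          colsOf p = invC (eIdx.getD (nTree.getD m (0, 0, 0)).2.2 0) ∧
          ∃ c ∈ KKp, c * f0 * c⁻¹ = p ∧ ∀ u, code u ∈ uList → code (c u) ∈ uList := by
        rcases hp with hp | ⟨q, hq, hqe⟩
        · exact ⟨f0, hf0, by rw [Nat.eq_of_beq_eq_true hp, e0], 1, one_mem _, by group, fun u hu => hu⟩
        · obtain ⟨j, hj, ej⟩ := List.mem_iff_getElem.mp hq
          rw [List.length_take, tree_ok.1] at hj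
          rw [List.getElem_take] at ej
          have hd : (nTree.getD j (0, 0, 0)).1 = (nTree.getD m (0, 0, 0)).2.2 := by
            rw [List.getD_eq_getElem _ _ (by rw [tree_ok.1]; omega), ej]; exact Nat.eq_of_beq_eq_true hqe
          have hcl : (nTree.getD j (0, 0, 0)).1 < 15 := by
            have : nTree.all (fun p => Nat.blt p.1 15) = true := by decide +kernel
            rw [List.getD_eq_getElem _ _ (by rw [tree_ok.1]; omega)]
            exact Nat.blt_eq.mp (List.all_eq_true.mp this _ (List.getElem_mem _))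
          obtain ⟨p, hp', ep'⟩ := e1_elem (hlt _ hcl)
          exact ⟨p, hp', by rw [← hd, ep'], ih j (by omega) (by omega) p hp' ep'⟩
      obtain ⟨c, hc, ec, hcU⟩ := hpar
      refine ⟨n * c, mul_mem hn hc, ?_, fun u hu => hkeep ⟨_, hk⟩ n hn en _ (hcU u hu)⟩
      have hconj : n * p = f * n := by
        refine cols_inj (add_mul' (kkp_addPerm hn) (sylP_listed (e1_le hpm)).1)
          (add_mul' (sylP_listed (e1_le hf)).1 (kkp_addPerm hn)) ?_
        rw [cols_mul (kkp_addPerm hn), cols_mul (sylP_listed (e1_le hf)).1, en, ep, ef]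
        exact heq
      calc n * c * f0 * (n * c)⁻¹ = n * (c * f0 * c⁻¹) * n⁻¹ := by group
        _ = n * p * n⁻¹ := by rw [ec]
        _ = f := by rw [hconj, mul_inv_cancel_right]
  refine ⟨f0, hf0, e0, hn0, fun f hf h1 => ?_⟩
  obtain ⟨i, hi, e⟩ := e1_cases hf h1
  obtain ⟨j, hj, ej⟩ := List.mem_iff_getElem.mp hi
  rw [eIdx_ok.1] at hj
  have h := List.all_eq_true.mp tree_ok.2.2 j (List.mem_range.mpr hj)
  rw [Bool.or_eq_true, List.any_eq_true] at h
  have ej' : eIdx.getD j 0 = i := by rw [List.getD_eq_getElem _ _ (by rw [eIdx_ok.1]; exact hj), ej]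
  rcases h with h | ⟨q, hq, hqe⟩
  · refine ⟨1, one_mem _, ?_, fun u hu => hu⟩
    rw [one_mul, inv_one, mul_one]
    refine cols_inj (sylP_listed (e1_le hf0)).1 (sylP_listed (e1_le hf)).1 ?_
    rw [e, e0, ← ej', Nat.eq_of_beq_eq_true h]
  · obtain ⟨m, hm, em⟩ := List.mem_iff_getElem.mp hq
    rw [tree_ok.1] at hm
    refine step m hm f hf ?_
    have hd : nTree.getD m (0, 0, 0) = q :=
      (List.getD_eq_getElem nTree (0, 0, 0) (hm.trans_eq tree_ok.1.symm)).trans em
    rw [e, hd, Nat.eq_of_beq_eq_true hqe, ej']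

/-- elementary subgroups and their common singular fixed vectors -/
theorem elem_bound {B : Subgroup (Equiv.Perm V6)} (hB : B ≤ sylP) (hsq : ∀ a ∈ B, a * a = 1) (hne : B ≠ ⊥)
    (S : Finset V6) (hS : ∀ u ∈ S, nrm u = 0 ∧ ∀ a ∈ B, a u = u) :
    Nat.card B * (2 * S.card) < 2 ^ 11 ∨ (B = e1Sub ∧ S.card ≤ 64 ∧ ∀ u ∈ S, code u ∈ uList) := by
  classical
  obtain ⟨d, hd⟩ := (IsPGroup.iff_card (p := 2)).mp (show IsPGroup 2 B from fun a =>
    ⟨1, Subtype.ext (by rw [pow_one, Subgroup.coe_pow, pow_two]; exact hsq a a.2)⟩)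
  let I : Finset ℕ := (Finset.range 71).filter fun i => ∃ a ∈ B, colsOf a = invC i
  have hI : ∀ i ∈ I, i < 71 := fun i hi => Finset.mem_range.mp (Finset.mem_filter.mp hi).1
  have hIc : Nat.card B = I.card + 1 := by
    choose f hf hfc using fun i : I => (Finset.mem_filter.mp i.2).2
    let F : Option I → B := fun o => o.elim 1 fun i => ⟨f i, hf i⟩
    have hb : Function.Bijective F := by
      constructor
      · rintro (_ | i) (_ | j) e
        · rfl
        · exact absurd (((congrArg (fun g : B => colsOf (g : Equiv.Perm V6)) e).trans (hfc j)).symm.trans cols_one)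
            (invC_ne_one (hI _ j.2))
        · exact absurd (((congrArg (fun g : B => colsOf (g : Equiv.Perm V6)) e).symm.trans (hfc i)).symm.trans cols_one)
            (invC_ne_one (hI _ i.2))
        · have e' := congrArg (fun g : B => colsOf (g : Equiv.Perm V6)) e
          simp only [F, Option.elim, hfc] at e'
          exact congrArg some (Subtype.ext (invC_inj (hI _ i.2) (hI _ j.2) e'))
      · rintro ⟨g, hg⟩
        by_cases h1 : g = 1
        · exact ⟨none, Subtype.ext h1.symm⟩
        · obtain ⟨i, hi, e⟩ := inv_index (hB hg) (hsq g hg) h1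
          have hiI : i ∈ I := Finset.mem_filter.mpr ⟨Finset.mem_range.mpr hi, g, hg, e⟩
          refine ⟨some ⟨i, hiI⟩, Subtype.ext ?_⟩
          refine cols_inj (sylP_listed (hB (hf _))).1 (sylP_listed (hB hg)).1 ?_
          exact (hfc _).trans e.symm
    rw [← Nat.card_eq_of_bijective F hb, Nat.card_eq_fintype_card, Fintype.card_option, Fintype.card_coe]
  have hfix : ∀ i ∈ I, ∀ u ∈ S, Nat.testBit (fixMasks.getD i 0) (code u) = true := by
    intro i hi u hu
    obtain ⟨a, ha, e⟩ := (Finset.mem_filter.mp hi).2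
    have hmem : code u ∈ singL := by
      rw [← sing_ok, List.mem_filter]
      exact ⟨List.mem_range.mpr (code_lt' u), by rw [vec_code]; exact decide_eq_true (hS u hu).1⟩
    have h := List.all_eq_true.mp (fix_scan ⟨i, hI i hi⟩) _ hmem
    have e2 : bMap (invC i) (code u) = code u := by
      rw [← e, ← cols_apply (sylP_listed (hB ha)).1, (hS u hu).2 a ha]
    rwa [show ((⟨i, hI i hi⟩ : Fin 71) : ℕ) = i from rfl, e2,
      show Nat.beq (code u) (code u) = true from Nat.beq_refl _, cond_true] at h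
  have hcode : ∀ L : List ℕ, (∀ u ∈ S, code u ∈ L) → S.card ≤ L.length := fun L hL => by
    refine le_trans (le_of_eq (Finset.card_image_of_injective S (f := code) ?_).symm)
      ((Finset.card_le_card (t := L.toFinset) ?_).trans (List.toFinset_card_le L))
    · exact fun a b e => by rw [← vec_code a, e, vec_code]
    · intro n hn
      obtain ⟨u, hu, rfl⟩ := Finset.mem_image.mp hn
      exact List.mem_toFinset.mpr (hL u hu)
  have hone : ∀ i ∈ I, S.card ≤ 160 := fun i hi =>
    (hcode _ fun u hu => (maskOf_spec _ _).mp ((fix_ok ⟨i, hI i hi⟩).1 ▸ hfix i hi u hu)).trans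
      (fix_ok ⟨i, hI i hi⟩).2
  have hpair : ∀ i ∈ I, ∀ j ∈ I, i ≠ j → S.card ≤ 64 ∧ Nat.testBit (adjC.getD i 0) j = true ∧
      (Nat.testBit (adjW.getD i 0) j = true ∨ S.card ≤ 31) ∧ (Nat.testBit (adjV.getD i 0) j = true ∨ S.card ≤ 40) := by
    intro i hi j hj hij
    have hN : S.card ≤ pairN i j := hcode _ fun u hu => List.mem_filter.mpr
      ⟨(maskOf_spec _ _).mp ((fix_ok ⟨i, hI i hi⟩).1 ▸ hfix i hi u hu), hfix j hj u hu⟩
    obtain ⟨a, ha, ea⟩ := (Finset.mem_filter.mp hi).2
    obtain ⟨b, hb, eb⟩ := (Finset.mem_filter.mp hj).2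
    have hab : a * b = b * a := by
      have h1 := hsq _ (mul_mem ha hb)
      rw [mul_eq_one_iff_eq_inv, mul_inv_rev] at h1
      rwa [inv_eq_of_mul_eq_one_right (hsq a ha), inv_eq_of_mul_eq_one_right (hsq b hb)] at h1
    have hcom : bComp (invC i) (invC j) = bComp (invC j) (invC i) := by
      rw [← ea, ← eb, ← cols_mul (sylP_listed (hB ha)).1, ← cols_mul (sylP_listed (hB hb)).1, hab]
    have hbeq : Nat.beq i j = false := by
      rw [Bool.eq_false_iff]; exact fun e => hij (Nat.eq_of_beq_eq_true e)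
    have h := List.all_eq_true.mp (adj_ok ⟨i, hI i hi⟩) j (List.mem_range.mpr (hI j hj))
    simp only [hbeq, decide_eq_true hcom, Bool.not_false, Bool.and_true, cond_true, Bool.and_eq_true,
      Bool.or_eq_true, Nat.ble_eq] at h
    exact ⟨hN.trans h.1.1.2, h.1.1.1, h.1.2.imp_right hN.trans, h.2.imp_right hN.trans⟩
  have hdeg : ∀ (m : ℕ → ℕ) (i : ℕ), i ∈ I → (∀ j ∈ I, i ≠ j → Nat.testBit (m i) j = true) →
      I.card - 1 ≤ degN (m i) := by
    intro m i hi h
    rw [← Finset.card_erase_of_mem hi, degN, ← List.toFinset_card_of_nodup (List.nodup_range.filter _)]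
    refine Finset.card_le_card fun j hj => List.mem_toFinset.mpr (List.mem_filter.mpr ?_)
    obtain ⟨hji, hjI⟩ := Finset.mem_erase.mp hj
    exact ⟨List.mem_range.mpr (hI j hjI), h j hjI hji.symm⟩
  have hcount : ∀ (p : ℕ → Bool), (List.range 71).countP p ≤ 1 → (∀ i ∈ I, p i = true) → I.card ≤ 1 := by
    intro p hp h
    rw [List.countP_eq_length_filter, ← List.toFinset_card_of_nodup (List.nodup_range.filter _)] at hp
    exact (Finset.card_le_card fun i hi =>
      List.mem_toFinset.mpr (List.mem_filter.mpr ⟨List.mem_range.mpr (hI i hi), h i hi⟩)).trans hp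
  rw [hd] at hIc ⊢
  have hd0 : d ≠ 0 := fun e => hne (Subgroup.eq_bot_of_card_eq _ (by rw [hd, e, pow_zero]))
  have hpos : 2 ≤ 2 ^ d := Nat.le_self_pow hd0 2
  obtain ⟨i, hi⟩ := Finset.card_pos.mp (show 0 < I.card by omega)
  rcases (show d = 1 ∨ 2 ≤ d by omega) with rfl | hd2
  · left
    have := hone i hi
    norm_num at *
    omega
  have h4 : 4 ≤ 2 ^ d := le_trans (by norm_num) (Nat.pow_le_pow_right two_pos hd2)
  obtain ⟨j, hj, hji⟩ := Finset.exists_mem_ne (show 1 < I.card by omega) i
  have h64 := (hpair i hi j hj hji.symm).1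
  rcases (show d ≤ 3 ∨ 4 ≤ d by omega) with hd3 | hd4
  · left
    have : 2 ^ d ≤ 8 := le_trans (Nat.pow_le_pow_right two_pos hd3) (by norm_num)
    calc 2 ^ d * (2 * S.card) ≤ 8 * (2 * 64) := Nat.mul_le_mul this (by omega)
      _ < 2 ^ 11 := by norm_num
  rcases (show 6 ≤ d ∨ d = 5 ∨ d = 4 by omega) with hd6 | rfl | rfl
  · exfalso
    have h6 : 64 ≤ 2 ^ d := le_trans (by norm_num) (Nat.pow_le_pow_right two_pos hd6)
    have := hcount _ deg_ok.1 fun k hk => Nat.ble_eq.mpr (le_trans (by omega)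
      (hdeg (fun k => adjC.getD k 0) k hk fun l hl hkl => (hpair k hk l hl hkl).2.1))
    omega
  · left
    by_cases hW : ∀ k ∈ I, ∀ l ∈ I, k ≠ l → Nat.testBit (adjW.getD k 0) l = true
    · exfalso
      have := hcount _ deg_ok.2.1 fun k hk => Nat.ble_eq.mpr (le_trans (by omega)
        (hdeg (fun k => adjW.getD k 0) k hk (hW k hk)))
      omega
    · push Not at hW
      obtain ⟨k, hk, l, hl, hkl, hn⟩ := hW
      have := ((hpair k hk l hl hkl).2.2.1).resolve_left (by rw [Bool.not_eq_true]; simpa using hn)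
      norm_num
      omega
  · by_cases hV : ∀ k ∈ I, ∀ l ∈ I, k ≠ l → Nat.testBit (adjV.getD k 0) l = true
    · right
      have hsub : I ⊆ eIdx.toFinset := fun k hk => by
        have h := List.all_eq_true.mp deg_ok.2.2 k (List.mem_range.mpr (hI k hk))
        rw [Nat.ble_eq.mpr (le_trans (by omega) (hdeg (fun k => adjV.getD k 0) k hk (hV k hk))), cond_true,
          List.any_eq_true] at h
        obtain ⟨e, he, hke⟩ := h
        exact List.mem_toFinset.mpr (Nat.eq_of_beq_eq_true hke ▸ he)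
      have hIe : I = eIdx.toFinset := Finset.eq_of_subset_of_card_le hsub (by
        rw [List.toFinset_card_of_nodup eIdx_ok.2.1, eIdx_ok.1]; omega)
      have hBle : B ≤ e1Sub := fun a ha => by
        by_cases h1 : a = 1
        · rw [h1]; exact one_mem _
        obtain ⟨k, hk, e⟩ := inv_index (hB ha) (hsq a ha) h1
        refine mem_e1.mpr ⟨hB ha, Or.inr ⟨k, ?_, e⟩⟩
        exact List.mem_toFinset.mp (hIe ▸ Finset.mem_filter.mpr ⟨Finset.mem_range.mpr hk, a, ha, e⟩)
      have hu : ∀ u ∈ S, code u ∈ uList := by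
        intro u hu
        have hmem : code u ∈ singL := by
          rw [← sing_ok, List.mem_filter]
          exact ⟨List.mem_range.mpr (code_lt' u), by rw [vec_code]; exact decide_eq_true (hS u hu).1⟩
        have h := List.all_eq_true.mp u_ok.2.2.2.2.2 _ hmem
        rw [show eFour.all (fun k => Nat.testBit (fixMasks.getD k 0) (code u)) = true from
          List.all_eq_true.mpr fun k hk => by
            have := List.all_eq_true.mp eIdx_ok.2.2.2.1 k hk
            rw [List.any_eq_true] at this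
            obtain ⟨e, he, hke⟩ := this
            exact hfix k (hIe.ge (List.mem_toFinset.mpr (Nat.eq_of_beq_eq_true hke ▸ he))) u hu,
          cond_true, List.any_eq_true] at h
        obtain ⟨e, he, hke⟩ := h
        exact Nat.eq_of_beq_eq_true hke ▸ he
      exact ⟨Subgroup.eq_of_le_of_card_ge hBle (by rw [e1_card, hd]; norm_num),
        (hcode _ hu).trans (le_of_eq u_ok.1), hu⟩
    · left
      push Not at hV
      obtain ⟨k, hk, l, hl, hkl, hn⟩ := hV
      have := ((hpair k hk l hl hkl).2.2.2).resolve_left (by rw [Bool.not_eq_true]; simpa using hn)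
      norm_num
      omega

end CfsgLib.LargeFischer
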