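import Mathlib
import Cfsg.Agent.Lib.HePres.Sp4

/-!
A Sylow 3-subgroup of the general linear group of dimension ten over two elements has derived
subgroup of order at most nine.
-/

set_option autoImplicit false
set_option linter.style.haveILetI false

namespace CfsgLib.LargeFischer

open CfsgLib.HePres (K4)
open scoped commutatorElement

/-- the space of dimension ten -/
abbrev W10 : Type := Fin 10 → ZMod 2

/-- five coordinates over four elements -/
abbrev W5 : Type := Fin 5 → K4

/-- the units of the field with four elements -/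
abbrev U4 : Type := {a : K4 // a ≠ 0}

/-- a power of the three-cycle -/
def rot (k : Fin 3) : Equiv.Perm (Fin 5) := (Equiv.swap 0 1 * Equiv.swap 1 2) ^ (k : ℕ)

theorem rot_add : ∀ k l : Fin 3, rot (k + l) = rot k * rot l := by decide +kernel

theorem rot_fix : ∀ k : Fin 3, rot k 3 = 3 ∧ rot k 4 = 4 := by decide +kernel

theorem rot_zero : rot 0 = 1 := by decide +kernel

theorem rot_inj : ∀ k l : Fin 3, rot k = rot l → k = l := by decide +kernel

/-- the monomial permutations -/
def monGrp : Subgroup (Equiv.Perm W5) where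
  carrier := {g | ∃ (k : Fin 3) (c : W5), (∀ i, c i ≠ 0) ∧ ∀ v i, g v i = c i * v (rot k i)}
  one_mem' := ⟨0, fun _ => 1, fun _ => one_ne_zero, fun v i => by simp [rot_zero]⟩
  mul_mem' := by
    rintro g h ⟨k, c, hc, hg⟩ ⟨l, d, hd, hh⟩
    refine ⟨l + k, fun i => c i * d (rot k i), fun i => mul_ne_zero (hc i) (hd _), fun v i => ?_⟩
    rw [Equiv.Perm.mul_apply, hg, hh, rot_add, Equiv.Perm.mul_apply, mul_assoc]
  inv_mem' := by
    rintro g ⟨k, c, hc, hg⟩
    refine ⟨-k, fun i => (c (rot (-k) i))⁻¹, fun i => inv_ne_zero (hc _), fun v i => ?_⟩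
    have h := hg (g⁻¹ v) (rot (-k) i)
    rw [show g (g⁻¹ v) = v from g.apply_symm_apply v, ← Equiv.Perm.mul_apply, ← rot_add, add_neg_cancel, rot_zero,
      Equiv.Perm.one_apply] at h
    rw [h, ← mul_assoc, inv_mul_cancel₀ (hc _), one_mul]

theorem monGrp_add {g : Equiv.Perm W5} (hg : g ∈ monGrp) (u v : W5) : g (u + v) = g u + g v := by
  obtain ⟨k, c, -, h⟩ := hg
  funext i
  rw [Pi.add_apply, h, h, h, Pi.add_apply, mul_add]

theorem mon_unique {g : Equiv.Perm W5} {k l : Fin 3} {c d : W5} (hc : ∀ i, c i ≠ 0)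
    (hg : ∀ v i, g v i = c i * v (rot k i)) (hg' : ∀ v i, g v i = d i * v (rot l i)) : k = l ∧ c = d := by
  have hcd : c = d := funext fun i => by
    have h := (hg (fun _ => 1) i).symm.trans (hg' (fun _ => 1) i)
    rwa [mul_one, mul_one] at h
  subst hcd
  refine ⟨rot_inj _ _ (Equiv.ext fun i => ?_), rfl⟩
  by_contra hne
  have h := (hg (Pi.single (rot k i) 1) i).symm.trans (hg' (Pi.single (rot k i) 1) i)
  rw [Pi.single_eq_same, Pi.single_eq_of_ne (fun e => hne e.symm), mul_zero, mul_one] at h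
  exact hc i h

theorem units_card : Nat.card {c : W5 // ∀ i, c i ≠ 0} = 243 := by
  rw [Nat.card_eq_fintype_card]; decide +kernel

theorem monGrp_card : 729 = Nat.card monGrp := by
  classical
  have hex : ∀ p : Fin 3 × {c : W5 // ∀ i, c i ≠ 0}, ∃ g : monGrp, ∀ v i,
      (g : Equiv.Perm W5) v i = p.2.1 i * v (rot p.1 i) := by
    rintro ⟨k, c, hc⟩
    have hinj : Function.Injective fun (v : W5) i => c i * v (rot k i) := by
      intro u v h
      funext i
      obtain ⟨j, rfl⟩ := (rot k).surjective i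
      exact mul_left_cancel₀ (hc j) (congrFun h j)
    exact ⟨⟨Equiv.ofBijective _ (Finite.injective_iff_bijective.mp hinj), k, c, hc, fun _ _ => rfl⟩,
      fun _ _ => rfl⟩
  choose f hf using hex
  have hb : Function.Bijective f := by
    constructor
    · intro p q h
      obtain ⟨e1, e2⟩ := mon_unique p.2.2 (hf p) (by rw [h]; exact hf q)
      exact Prod.ext e1 (Subtype.ext e2)
    · rintro ⟨g, k, c, hc, hg⟩
      exact ⟨(k, ⟨c, hc⟩), Subtype.ext (Equiv.ext fun v => funext fun i => by rw [hf, hg])⟩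
  rw [← Nat.card_eq_of_bijective f hb, Nat.card_prod, units_card, Nat.card_fin]

/-- the commutators of monomial permutations lie in nine elements -/
theorem monGrp_derived : Nat.card (commutator monGrp) ≤ 9 := by
  classical
  choose k c hc hg using fun g : monGrp => g.2
  let N : Subgroup monGrp :=
    { carrier := {g | k g = 0 ∧ c g 3 = 1 ∧ c g 4 = 1 ∧ c g 0 * c g 1 * c g 2 = 1}
      one_mem' := by
        obtain ⟨e1, e2⟩ := mon_unique (hc 1) (hg 1) (k := k 1) (l := 0) (d := fun _ => 1)
          (fun v i => by simp [rot_zero])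
        simp [e1, e2]
      mul_mem' := by
        rintro a b ⟨a0, a3, a4, a2⟩ ⟨b0, b3, b4, b2⟩
        obtain ⟨e1, e2⟩ := mon_unique (hc (a * b)) (hg _) (l := k b + k a)
          (d := fun i => c a i * c b (rot (k a) i)) (fun v i => by
          rw [Subgroup.coe_mul, Equiv.Perm.mul_apply, hg, hg, rot_add, Equiv.Perm.mul_apply, mul_assoc])
        simp only [Set.mem_ofPred_eq, e1, e2, a0, b0, rot_zero, Equiv.Perm.one_apply, a3, a4, b3, b4]
        refine ⟨rfl, mul_one _, mul_one _, ?_⟩
        rw [← mul_one (1 : K4)]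
        nth_rw 1 [← a2]
        rw [← b2]; ring
      inv_mem' := by
        rintro a ⟨a0, a3, a4, a2⟩
        obtain ⟨e1, e2⟩ := mon_unique (hc a⁻¹) (hg _) (l := 0) (d := fun i => (c a i)⁻¹) (fun v i => by
          have h := hg a ((a⁻¹ : monGrp).1 v) i
          rw [← Equiv.Perm.mul_apply, ← Subgroup.coe_mul, mul_inv_cancel, Subgroup.coe_one,
            Equiv.Perm.one_apply, a0, rot_zero, Equiv.Perm.one_apply] at h
          rw [rot_zero, Equiv.Perm.one_apply, h, ← mul_assoc, inv_mul_cancel₀ (hc _ _), one_mul])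
        simp only [Set.mem_ofPred_eq, e1, e2, a3, a4, inv_one]
        refine ⟨trivial, trivial, trivial, ?_⟩
        rw [← mul_inv, ← mul_inv, a2, inv_one] }
  have hle : commutator monGrp ≤ N := by
    rw [commutator_def, Subgroup.commutator_le]
    intro a _ b _
    have hd : ∀ v i, ((a * b : monGrp) : Equiv.Perm W5) v i =
        c a i * c b (rot (k a) i) * v (rot (k b + k a) i) := fun v i => by
      rw [Subgroup.coe_mul, Equiv.Perm.mul_apply, hg, hg, rot_add, Equiv.Perm.mul_apply, mul_assoc]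
    have hd' : ∀ v i, ((b * a : monGrp) : Equiv.Perm W5) v i =
        c b i * c a (rot (k b) i) * v (rot (k a + k b) i) := fun v i => by
      rw [Subgroup.coe_mul, Equiv.Perm.mul_apply, hg, hg, rot_add, Equiv.Perm.mul_apply, mul_assoc]
    set w := ⁅a, b⁆ with hw
    have hwb : w * (b * a) = a * b := by rw [hw, commutatorElement_def]; group
    have hcomm : ∀ v i, ((a * b : monGrp) : Equiv.Perm W5) v i =
        c w i * (c b (rot (k w) i) * c a (rot (k b) (rot (k w) i))) * v (rot (k a + k b + k w) i) :=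
      fun v i => by
      rw [← hwb, Subgroup.coe_mul, Equiv.Perm.mul_apply, hg, hd', rot_add _ (k w), Equiv.Perm.mul_apply,
        mul_assoc]
      simp only [mul_assoc]
    obtain ⟨e1, e2⟩ := mon_unique (fun i => mul_ne_zero (hc a i) (hc b _)) hd hcomm
    have hkw : k w = 0 := by
      rw [add_comm (k b)] at e1
      exact add_eq_left.mp e1.symm
    simp only [hkw, rot_zero, Equiv.Perm.one_apply] at e2
    have hfix := fun i => congrFun e2 i
    have key : ∀ (p q x y : K4), x ≠ 0 → y ≠ 0 → p * q = x * y → ∀ r, r * (x * y) = p * q → r = 1 := by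
      decide +kernel
    refine ⟨hkw, ?_, ?_, ?_⟩
    · have h := hfix 3
      simp only [(rot_fix _).1] at h
      exact key _ _ _ _ (hc b 3) (hc a 3) (mul_comm _ _) _ h.symm
    · have h := hfix 4
      simp only [(rot_fix _).2] at h
      exact key _ _ _ _ (hc b 4) (hc a 4) (mul_comm _ _) _ h.symm
    · have hprod : ∀ (k : Fin 3) (d : W5), d (rot k 0) * d (rot k 1) * d (rot k 2) = d 0 * d 1 * d 2 := by
        intro k d
        have : ∀ k : Fin 3, (rot k 0 = 0 ∧ rot k 1 = 1 ∧ rot k 2 = 2) ∨ (rot k 0 = 1 ∧ rot k 1 = 2 ∧ rot k 2 = 0) ∨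
            (rot k 0 = 2 ∧ rot k 1 = 0 ∧ rot k 2 = 1) := by decide +kernel
        rcases this k with ⟨r0, r1, r2⟩ | ⟨r0, r1, r2⟩ | ⟨r0, r1, r2⟩ <;> rw [r0, r1, r2] <;> ring
      have h4 : c a 0 * c a 1 * c a 2 * (c b (rot (k a) 0) * c b (rot (k a) 1) * c b (rot (k a) 2)) =
          c w 0 * c w 1 * c w 2 * (c b 0 * c b 1 * c b 2) *
            (c a (rot (k b) 0) * c a (rot (k b) 1) * c a (rot (k b) 2)) := by
        calc _ = c a 0 * c b (rot (k a) 0) * (c a 1 * c b (rot (k a) 1)) * (c a 2 * c b (rot (k a) 2)) := by ac_rfl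
          _ = c w 0 * (c b 0 * c a (rot (k b) 0)) * (c w 1 * (c b 1 * c a (rot (k b) 1))) *
            (c w 2 * (c b 2 * c a (rot (k b) 2))) := by rw [← hfix 0, ← hfix 1, ← hfix 2]
          _ = _ := by ac_rfl
      rw [hprod, hprod] at h4
      have fin : ∀ A B W : K4, A ≠ 0 → B ≠ 0 → A * B = W * B * A → W = 1 := by decide +kernel
      exact fin _ _ _ (mul_ne_zero (mul_ne_zero (hc a 0) (hc a 1)) (hc a 2))
        (mul_ne_zero (mul_ne_zero (hc b 0) (hc b 1)) (hc b 2)) h4
  let D : Finset W5 := Finset.univ.filter fun d =>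
    d 3 = 1 ∧ d 4 = 1 ∧ d 0 * d 1 * d 2 = 1 ∧ ∀ i, d i ≠ 0
  have hD : D.card = 9 := by decide +kernel
  let f : commutator monGrp → D := fun g => ⟨c g.1, by
    obtain ⟨-, h3, h4, h2⟩ := hle g.2
    simp only [D, Finset.mem_filter, Finset.mem_univ, true_and]
    exact ⟨h3, h4, h2, hc _⟩⟩
  rw [← hD, ← Nat.card_eq_finsetCard D]
  refine Nat.card_le_card_of_injective f fun x y h => ?_
  have h' : c x.1 = c y.1 := congrArg Subtype.val h
  exact Subtype.ext (Subtype.ext (Equiv.ext fun v => funext fun i => by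
    rw [hg, hg, h', (hle x.2).1, (hle y.2).1]))

set_option maxRecDepth 8000 in
theorem gl_ten_nat : ¬ 3 ^ 7 ∣ (∏ i : Fin 10, (2 ^ 10 - 2 ^ (i : ℕ))) ∧
    3 ^ 6 ∣ (∏ i : Fin 10, (2 ^ 10 - 2 ^ (i : ℕ))) := by decide +kernel

/-- the linear automorphisms of the space of dimension ten -/
abbrev Aut10 : Type := W10 ≃ₗ[ZMod 2] W10

instance : Finite Aut10 := Finite.of_injective (fun g : Aut10 => (g : W10 → W10)) DFunLike.coe_injective

theorem aut10_card : Nat.card Aut10 = ∏ i : Fin 10, (2 ^ 10 - 2 ^ (i : ℕ)) := by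
  haveI : Fact (Nat.Prime 2) := ⟨Nat.prime_two⟩
  rw [← Nat.card_congr ((LinearMap.GeneralLinearGroup.generalLinearEquiv (ZMod 2) W10)).toEquiv,
    ← Nat.card_congr (Matrix.GeneralLinearGroup.toLin (n := Fin 10) (R := ZMod 2)).toEquiv,
    Matrix.card_GL_field, ZMod.card]

/-- the monomial group among the linear automorphisms -/
theorem exists_sylow : ∃ P : Subgroup Aut10, Nat.card P = 729 ∧ Nat.card (commutator P) ≤ 9 := by
  haveI : Fact (Nat.Prime 2) := ⟨Nat.prime_two⟩
  have h2 : ∀ w : W5, 2 • w = 0 := fun w => by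
    funext i
    rw [Pi.smul_apply, two_nsmul]
    have : ∀ a : K4, a + a = 0 := by decide +kernel
    exact this _
  letI : Module (ZMod 2) W5 := AddCommGroup.zmodModule h2
  have hd : Module.finrank (ZMod 2) W5 = 10 := by
    have h := Module.natCard_eq_pow_finrank (K := ZMod 2) (V := W5)
    rw [Nat.card_zmod, show Nat.card W5 = 2 ^ 10 by
      rw [Nat.card_eq_fintype_card, Fintype.card_fun, Fintype.card_fin, show Fintype.card K4 = 4 from K4.card_eq]
      norm_num] at h
    exact (Nat.pow_right_injective le_rfl h).symm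
  let e : W5 ≃ₗ[ZMod 2] W10 := LinearEquiv.ofFinrankEq _ _ (by rw [hd]; simp)
  let f : monGrp →* Aut10 :=
    { toFun := fun g => e.symm.trans ((({ g.1 with map_add' := monGrp_add g.2 } : W5 ≃+ W5).toLinearEquiv
        (fun c x => ZMod.map_smul (AddMonoidHom.mk' g.1 (monGrp_add g.2)) c x)).trans e)
      map_one' := LinearEquiv.ext fun x => by simp
      map_mul' := fun a b => LinearEquiv.ext fun x => by
        show e (a.1 (b.1 (e.symm x))) = e (a.1 (e.symm (e (b.1 (e.symm x)))))
        rw [e.symm_apply_apply] }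
  have hinj : Function.Injective f := fun a b h => Subtype.ext (Equiv.ext fun v => by
    have h2 : e (a.1 (e.symm (e v))) = e (b.1 (e.symm (e v))) := LinearEquiv.congr_fun h (e v)
    rwa [e.symm_apply_apply, e.injective.eq_iff] at h2)
  let E : monGrp ≃* f.range := MonoidHom.ofInjective hinj
  refine ⟨f.range, by rw [← Nat.card_congr E.toEquiv, ← monGrp_card], ?_⟩
  refine le_trans (le_of_eq ?_) monGrp_derived
  have h : (commutator monGrp).map E.toMonoidHom = commutator f.range := by
    rw [commutator_def, Subgroup.map_commutator, Subgroup.map_top_of_surjective E.toMonoidHom E.surjective]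
    rfl
  rw [← h]; exact (Nat.card_congr (Subgroup.equivMapOfInjective _ E.toMonoidHom E.injective).toEquiv).symm

/-- every subgroup of order 729 has derived subgroup of order at most nine -/
theorem derived_le (P : Subgroup Aut10) (hP : Nat.card P = 729) : Nat.card (commutator P) ≤ 9 := by
  haveI : Fact (Nat.Prime 3) := ⟨Nat.prime_three⟩
  obtain ⟨P₀, h0, hd⟩ := exists_sylow
  have hfac : 3 ^ (Nat.card Aut10).factorization 3 = 729 := by
    have hn : (Nat.card Aut10) ≠ 0 := Nat.card_pos.ne'
    have h6 : 6 ≤ (Nat.card Aut10).factorization 3 :=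
      (Nat.Prime.pow_dvd_iff_le_factorization Nat.prime_three hn).mp (aut10_card ▸ gl_ten_nat.2)
    have h7 : ¬ 7 ≤ (Nat.card Aut10).factorization 3 := fun h =>
      gl_ten_nat.1 (aut10_card ▸ (Nat.Prime.pow_dvd_iff_le_factorization Nat.prime_three hn).mpr h)
    rw [show (Nat.card Aut10).factorization 3 = 6 by omega]; rfl
  obtain ⟨g, hg⟩ := MulAction.exists_smul_eq Aut10 (Sylow.ofCard P₀ (h0.trans hfac.symm))
    (Sylow.ofCard P (hP.trans hfac.symm))
  have hg' : P₀.map (MulAut.conj g).toMonoidHom = P := congrArg Sylow.toSubgroup hg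
  let E : P₀ ≃* P := (P₀.equivMapOfInjective _ (MulAut.conj g).injective).trans (MulEquiv.subgroupCongr hg')
  refine le_trans (le_of_eq ?_) hd
  have h : (commutator P₀).map E.toMonoidHom = commutator P := by
    rw [commutator_def, Subgroup.map_commutator, Subgroup.map_top_of_surjective E.toMonoidHom E.surjective]
    rfl
  rw [← h]; exact (Nat.card_congr (Subgroup.equivMapOfInjective _ E.toMonoidHom E.injective).toEquiv).symm

end CfsgLib.LargeFischer
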