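import Cfsg.Agent.Lib.LargeFischer.ToddPairs

/-!
The largest elementary abelian group is its own centraliser.
-/

set_option autoImplicit false
set_option maxRecDepth 100000
set_option linter.style.haveILetI false

namespace CfsgLib.LargeFischer

open CfsgLib.Extraspecial
open CfsgLib.HePres (K4)
open CfsgLib.Fi22USix (V6 el code vec vec_code hval nrm)
open CfsgLib.USixUFour (mv act coreK)

namespace Co

variable {G : Type*} [Group G] [Finite G] {z : G} {Q : Subgroup (CZ z)} {v : CZ z → V6}
  {ρ : CZ z →* Equiv.Perm V6} (C : Co z Q v ρ 2)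
include C

/-- a permutation of the image fixing the singular subspace is an involution -/
theorem fixU_sq {h : CZ z} (hfix : ∀ u, code u ∈ uList → ρ h u = u) (w : V6) : ρ h (ρ h w) = w := by
  have hK : ρ h ∈ KKp := by
    refine (C.kkp_or rfl h).resolve_right fun h2 => ?_
    have hu : code (vec 85) ∈ uList := by decide +kernel
    have hu' : code (el 2 • vec 85) ∈ uList := uList_el hu
    have e1 := kkp_smul h2 (el 2) (vec 85)
    rw [Equiv.Perm.mul_apply, Equiv.Perm.mul_apply, hfix _ hu, hfix _ hu', o2_turn] at e1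
    revert e1
    simp only [oP_apply]
    decide +kernel
  obtain ⟨c, -, ec⟩ := hK
  have hperp : code (ρ h w + w) ∈ uList := by
    have hp0 := List.all_eq_true.mp u_perp (code (ρ h w + w)) (List.mem_range.mpr (code_lt' _))
    have hall : uBase.all (fun u => decide (hval (vec u) (vec (code (ρ h w + w))) +
        hval (vec u) (vec (code (ρ h w + w))) * hval (vec u) (vec (code (ρ h w + w))) = 0)) = true := by
      refine List.all_eq_true.mpr fun u hu => decide_eq_true ?_
      have hu' := List.all_eq_true.mp u_ok.2.2.2.2.1 u hu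
      rw [List.any_eq_true] at hu'
      obtain ⟨u', hu', hue⟩ := hu'
      obtain rfl := Nat.eq_of_beq_eq_true hue
      have hlt : u < 4096 := by
        have h' := List.all_eq_true.mp u_ok.2.2.1 u hu'
        simp only [Bool.and_eq_true, Nat.blt_eq] at h'
        exact h'.1.1.1
      have hfu := hfix (vec u) (by rw [show code (vec u) = u from USixUFour.code_vec ⟨u, hlt⟩]; exact hu')
      have hpres : hval (vec u) (ρ h w) = hval (vec u) w := by
        conv_lhs => rw [← hfu, ← ec, act_apply, act_apply]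
        exact USixUFour.mv_hval c _ _
      have hadd : ∀ a b e : V6, hval a (b + e) = hval a b + hval a e := fun a b e => by
        have h2 : ∀ p q : K4, (p + q) * (p + q) = p * p + q * q := by decide +kernel
        unfold Fi22USix.hval
        simp only [Pi.add_apply, h2]
        ring
      rw [vec_code, hadd, hpres]
      have h4 : ∀ a : K4, a + a + (a + a) * (a + a) = 0 := by decide +kernel
      exact h4 _
    rw [hall, cond_true, List.any_eq_true] at hp0
    obtain ⟨e, he, hqe⟩ := hp0
    exact Nat.eq_of_beq_eq_true hqe ▸ he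
  have h1 := hfix _ hperp
  rw [← ec, act_apply, USixUFour.mv_add, ← act_apply, ← act_apply, ec] at h1
  exact add_right_cancel (h1.trans (add_comm _ _))

/-- an element centralising the largest group lies in it -/
theorem aSub_self_cent [Q.Normal] {h : CZ z} (hh : ∀ a ∈ C.aSub, h * a = a * h) : h ∈ C.aSub := by
  classical
  haveI := Fact.mk Nat.prime_two
  refine ⟨?_, Subgroup.mem_centralizer_iff.mpr fun p hp => (hh p (C.uSub_le_aSub hp)).symm⟩
  show ρ h ∈ e1Sub
  let P : Subgroup (CZ z) :=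
    { carrier := {m | ∀ u, code u ∈ uList → ρ m u = u}
      one_mem' := fun u _ => by rw [map_one]; rfl
      mul_mem' := fun {a b} ha hb u hu => by rw [map_mul, Equiv.Perm.mul_apply, hb u hu, ha u hu]
      inv_mem' := fun {a} ha u hu => by
        rw [map_inv]; exact (Equiv.Perm.inv_eq_iff_eq (f := ρ a)).mpr (ha u hu).symm }
  have hP : h ∈ P := fun u hu => by
    obtain ⟨p, hp, ep⟩ := C.vsurj u
    have hpU : p ∈ C.uSub := ⟨hp, by rw [ep]; exact hu⟩
    have := C.vconj h p hp
    rw [mul_inv_eq_iff_eq_mul.mpr (hh p (C.uSub_le_aSub hpU)), ep] at this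
    exact this.symm
  have hsq : ∀ m ∈ P, ρ m * ρ m = 1 := fun m hm => Equiv.ext fun w => C.fixU_sq hm w
  have hp2 : IsPGroup 2 P := fun m => ⟨3, by
    have h1 : (m : CZ z) * m ∈ Q := (C.ker _).mp (by rw [map_mul]; exact hsq m m.2)
    refine Subtype.ext (Subtype.ext ?_)
    show ((((m ^ 2 ^ 3 : P) : CZ z)) : G) = 1
    rw [show (2 : ℕ) ^ 3 = 2 * 2 * 2 from rfl, pow_mul, pow_mul, pow_two, pow_two, pow_two]
    simp only [Subgroup.coe_mul]
    rcases C.st.sq_cases (mem_QG h1) with e | e <;> simp only [Subgroup.coe_mul] at e <;> rw [e]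
    · simp
    · exact C.st.zz⟩
  obtain ⟨T, hT⟩ := hp2.exists_le_sylow
  have hc : Nat.card ↥(sylP.comap ρ) = 2 ^ (Nat.card (CZ z)).factorization 2 := by
    rw [C.syl_card rfl]
    congr 1
    rw [C.centraliser_card rfl, show 2 ^ 14 * 9797760 = 2 ^ 21 * 76545 by norm_num,
      Nat.factorization_mul (by norm_num) (by norm_num), Finsupp.add_apply, Nat.prime_two.factorization_pow,
      Finsupp.single_eq_same, Nat.factorization_eq_zero_of_not_dvd (by norm_num : ¬ 2 ∣ 76545)]
  obtain ⟨g, hg⟩ := MulAction.exists_smul_eq (CZ z) T (Sylow.ofCard _ hc)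
  let F : Subgroup (Equiv.Perm V6) := P.map ρ
  let F' : Subgroup (Equiv.Perm V6) := F.map (MulAut.conj (ρ g)).toMonoidHom
  have hF' : F' ≤ sylP := by
    rintro _ ⟨_, ⟨m, hm, rfl⟩, rfl⟩
    have h1 : g * m * g⁻¹ ∈ sylP.comap ρ := by
      rw [← Sylow.coe_ofCard (sylP.comap ρ) hc, ← hg, Sylow.coe_subgroup_smul,
        Subgroup.mem_pointwise_smul_iff_inv_smul_mem]
      show (MulAut.conj g)⁻¹ (g * m * g⁻¹) ∈ _
      rw [MulAut.conj_inv_apply]
      simpa [mul_assoc] using hT hm
    have h2 : ρ (g * m * g⁻¹) ∈ sylP := h1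
    rw [map_mul, map_mul, map_inv] at h2
    exact h2
  have he1P : e1Sub ≤ F := fun f hf => by
    obtain ⟨m, rfl⟩ := C.kkp_le (C.e1_kkp rfl hf)
    exact ⟨m, fun u hu => e1_fix hf hu, rfl⟩
  have hF'c : Nat.card F' = Nat.card F := Subgroup.card_map_of_injective (MulAut.conj (ρ g)).injective
  have hge : 16 ≤ Nat.card F := e1_card ▸ Subgroup.card_le_of_le he1P
  have hne : F' ≠ ⊥ := fun e => by
    rw [e, Subgroup.card_bot] at hF'c
    omega
  have hsq' : ∀ a ∈ F', a * a = 1 := by
    rintro _ ⟨_, ⟨m, hm, rfl⟩, rfl⟩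
    rw [← map_mul, hsq m hm, map_one]
  haveI : Fintype V6 := Fintype.ofFinite _
  let S : Finset V6 := (Finset.univ.filter fun u => code u ∈ uList).image (ρ g)
  have hS : S.card = 64 := by
    rw [Finset.card_image_of_injective _ (ρ g).injective, ← uList_card, Nat.card_eq_fintype_card, Fintype.card_subtype]
  have hSfix : ∀ u ∈ S, nrm u = 0 ∧ ∀ a ∈ F', a u = u := by
    intro u hu
    obtain ⟨u0, hu0, rfl⟩ := Finset.mem_image.mp hu
    have hu0' := (Finset.mem_filter.mp hu0).2
    refine ⟨?_, ?_⟩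
    · obtain ⟨p, hp, ep⟩ := C.vsurj u0
      have hpU : p ∈ C.uSub := ⟨hp, by rw [ep]; exact hu0'⟩
      have hgp := (inferInstance : Q.Normal).conj_mem p hp g
      rw [← ep, ← C.vconj g p hp]
      refine (C.vsq _ hgp).mp (congrArg Subtype.val (show g * p * g⁻¹ * (g * p * g⁻¹) = 1 from ?_))
      calc g * p * g⁻¹ * (g * p * g⁻¹) = g * (p * p) * g⁻¹ := by group
        _ = 1 := by rw [C.uSub_sq hpU]; group
    · rintro _ ⟨_, ⟨m, hm, rfl⟩, rfl⟩
      show ρ g (ρ m ((ρ g)⁻¹ (ρ g u0))) = ρ g u0
      rw [Equiv.Perm.coe_inv, Equiv.symm_apply_apply, hm u0 hu0']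
  rcases elem_bound hF' hsq' hne S hSfix with hlt | ⟨hbe, -, -⟩
  · rw [hS, hF'c] at hlt
    omega
  · have hc16 : Nat.card F = 16 := by rw [← hF'c, hbe, e1_card]
    exact (Subgroup.eq_of_le_of_card_ge he1P (by rw [hc16, e1_card])).ge ⟨h, hP, rfl⟩

end Co

end CfsgLib.LargeFischer
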