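import Cfsg.Agent.Lib.LargeFischer.ToddClasses
import Cfsg.Agent.Lib.LargeFischer.ToddCentral
import Cfsg.Agent.Lib.LargeFischer.ToddPerm
import Cfsg.Agent.Lib.LargeFischer.FusionThompson
import Cfsg.Agent.Lib.Golay.MathieuFacts

/-!
The normaliser of the largest group acts as the Mathieu group on the points behind the pairs.
-/

set_option autoImplicit false
set_option maxRecDepth 100000
set_option linter.style.haveILetI false

namespace CfsgLib.LargeFischer

open CfsgLib.Extraspecial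
open CfsgLib.Fi22USix (V6 code vec)
open Cfsg (GolayPt M24)
open CfsgLib.Golay (natCard_M24 isSimpleGroup_M24)

theorem five_word : bComp (bComp (nC 0) (bComp (nC 0) (nC 1))) (bComp (bComp (nC 0) (bComp (nC 0) (nC 1)))
      (bComp (bComp (nC 0) (bComp (nC 0) (nC 1))) (bComp (bComp (nC 0) (bComp (nC 0) (nC 1)))
        (bComp (nC 0) (bComp (nC 0) (nC 1)))))) = bId ∧
    bComp (nC 0) (bComp (nC 0) (nC 1)) ≠ bId ∧ bComp (nC 0) (bComp (nC 0) (nC 0)) = bId ∧ nC 0 ≠ bId := by
  decide +kernel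

namespace Co

variable {G : Type*} [Group G] [Finite G] {z : G} {Q : Subgroup (CZ z)} {v : CZ z → V6}
  {ρ : CZ z →* Equiv.Perm V6} (C : Co z Q v ρ 2)

/-- conjugation after the inclusion -/
def incl (z : G) (g : G) : CZ z →* G := (MulAut.conj g).toMonoidHom.comp (CZ z).subtype

theorem incl_apply (g : G) (a : CZ z) : incl z g a = g * (a : G) * g⁻¹ := rfl

theorem incl_inj (g : G) : Function.Injective (incl z g) :=
  (MulAut.conj g).injective.comp Subtype.val_injective

/-- the largest group inside the whole group -/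
noncomputable def bigA (g : G) : Subgroup G := C.aSub.map (incl z g)

variable {C} {x : CZ z} {kb : Fin 4 → CZ z}

theorem bigA_cent [Q.Normal] (g : G) {y : G} (hy : ∀ a ∈ bigA C g, y * a = a * y) : y ∈ bigA C g := by
  obtain ⟨zc', hzc', ezc⟩ : ∃ w ∈ C.aSub, (w : G) = z :=
    ⟨zc C, C.uSub_le_aSub ⟨C.zc_mem, by rw [C.zc_v]; exact uList_zero⟩, rfl⟩
  have h1 : y * (g * z * g⁻¹) = (g * z * g⁻¹) * y := hy _ ⟨zc', hzc', by rw [incl_apply, ezc]⟩
  have hmem : g⁻¹ * y * g ∈ CZ z := Subgroup.mem_centralizer_singleton_iff.mpr (by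
    calc g⁻¹ * y * g * z = g⁻¹ * (y * (g * z * g⁻¹)) * g := by group
      _ = z * (g⁻¹ * y * g) := by rw [h1]; group)
  refine ⟨⟨_, hmem⟩, C.aSub_self_cent fun a ha => Subtype.ext ?_, by rw [incl_apply]; group⟩
  have h2 := hy _ ⟨a, ha, rfl⟩
  rw [incl_apply] at h2
  show g⁻¹ * y * g * (a : G) = a * (g⁻¹ * y * g)
  calc g⁻¹ * y * g * (a : G) = g⁻¹ * (y * (g * a * g⁻¹)) * g := by group
    _ = (a : G) * (g⁻¹ * y * g) := by rw [h2]; group

/-- the element with given coordinates in the whole group -/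
noncomputable def Frame.evAt (_F : Frame C x kb) (g : G) (n : ℕ) : G := incl z g (ev C x kb n)

variable [Q.Normal] (F : Frame C x kb) (g : G)
include F

theorem Frame.evAt_mem (n : ℕ) : F.evAt g n ∈ bigA C g := ⟨_, F.ev_mem n, rfl⟩

theorem Frame.evAt_xor (a b : ℕ) : F.evAt g (a ^^^ b) = F.evAt g a * F.evAt g b := by
  unfold Frame.evAt
  rw [F.ev_xor, map_mul]

theorem Frame.evAt_inj {a b : ℕ} (ha : a < 2048) (hb : b < 2048) (h : F.evAt g a = F.evAt g b) : a = b :=
  F.ev_inj ha hb (incl_inj g h)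

theorem Frame.evAt_surj {a : G} (ha : a ∈ bigA C g) : ∃ n, n < 2048 ∧ F.evAt g n = a := by
  obtain ⟨a', ha', rfl⟩ := ha
  obtain ⟨n, hn, rfl⟩ := F.ev_surj ha'
  exact ⟨n, hn, rfl⟩

theorem Frame.nz_iff {n : ℕ} (hn : n < 2048) : F.Nz n ↔ F.evAt g n ≠ 1 ∧ ¬ IsConj z (F.evAt g n) := by
  have h1 : (n ≠ 0) ↔ F.evAt g n ≠ 1 := by
    refine not_congr ⟨fun e => by rw [e, Frame.evAt, F.ev_zero, map_one], fun e => ?_⟩
    refine F.evAt_inj g hn (by norm_num) (e.trans ?_)
    rw [Frame.evAt, F.ev_zero, map_one]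
  have h2 : IsConj ((ev C x kb n : CZ z) : G) (F.evAt g n) := isConj_iff.mpr ⟨g, rfl⟩
  exact and_congr h1 (not_congr ⟨fun e => e.trans h2, fun e => e.trans h2.symm⟩)

/-- the map on coordinates of a normalising element -/
theorem Frame.exists_map {m : G} (hm : m ∈ Subgroup.normalizer (bigA C g : Set G)) :
    ∃ L : ℕ → ℕ, (∀ n, n < 2048 → L n < 2048 ∧ m * F.evAt g n * m⁻¹ = F.evAt g (L n)) ∧
      (∀ a < 2048, ∀ b < 2048, L (a ^^^ b) = L a ^^^ L b) ∧
      (∀ a < 2048, ∀ b < 2048, L a = L b → a = b) ∧ (∀ n < 2048, F.Nz n ↔ F.Nz (L n)) := by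
  have hex : ∀ n, ∃ k, k < 2048 ∧ F.evAt g k = m * F.evAt g n * m⁻¹ := fun n =>
    F.evAt_surj g ((Subgroup.mem_normalizer_iff.mp hm _).mp (F.evAt_mem g n))
  choose L hL hLe using hex
  refine ⟨L, fun n _ => ⟨hL n, (hLe n).symm⟩, fun a ha b hb => ?_, fun a ha b hb e => ?_, fun n hn => ?_⟩
  · refine F.evAt_inj g (hL _) (Nat.xor_lt_two_pow (n := 11) (hL a) (hL b)) ?_
    rw [hLe, F.evAt_xor, F.evAt_xor, hLe, hLe]
    group
  · refine F.evAt_inj g ha hb ?_
    have h := congrArg (F.evAt g) e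
    rw [hLe, hLe] at h
    exact mul_left_cancel (mul_right_cancel h)
  · rw [F.nz_iff g hn, F.nz_iff g (hL n), hLe]
    have hc : IsConj (F.evAt g n) (m * F.evAt g n * m⁻¹) := isConj_iff.mpr ⟨m, rfl⟩
    refine and_congr (not_congr conj_eq_one_iff.symm) (not_congr ⟨fun e => e.trans hc, fun e => e.trans hc.symm⟩)

/-- no other prime divides the order of an automorphism moving the group -/
theorem Frame.no_prime {q : ℕ} (hq : q.Prime) (hbad : ∀ i, 0 < i → i ≤ 11 → (2 ^ i - 1) % q ≠ 0) (hq2 : q ≠ 2) :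
    ¬ q ∣ Nat.card ↥(Subgroup.normalizer (bigA C g : Set G)) := by
  intro hdvd
  haveI := Fact.mk hq
  obtain ⟨⟨y, hy⟩, hord⟩ := exists_prime_orderOf_dvd_card' q hdvd
  have hord' : orderOf y = q := by
    rw [← hord]; exact (Subgroup.orderOf_coe ⟨y, hy⟩)
  have hP : IsPGroup q (Subgroup.zpowers y) := IsPGroup.of_card (n := 1) (by rw [Nat.card_zpowers, hord', pow_one])
  have hn : ∀ p : Subgroup.zpowers y, (p : G) ∈ Subgroup.normalizer (bigA C g : Set G) := fun p =>
    (Subgroup.zpowers_le.mpr hy) p.2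
  letI : MulAction (Subgroup.zpowers y) (bigA C g) :=
    { smul := fun p a => ⟨(p : G) * a * (p : G)⁻¹, (Subgroup.mem_normalizer_iff.mp (hn p) _).mp a.2⟩
      one_smul := fun a => Subtype.ext (by show (1 : G) * a * (1 : G)⁻¹ = a; group)
      mul_smul := fun p r a => Subtype.ext (by
        show ((p : G) * r) * a * ((p : G) * r)⁻¹ = (p : G) * ((r : G) * a * (r : G)⁻¹) * (p : G)⁻¹
        group) }
  have hmod := hP.card_modEq_card_fixedPoints (bigA C g)
  let K : Subgroup G := bigA C g ⊓ Subgroup.centralizer ({y} : Set G)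
  have hfix : Nat.card (MulAction.fixedPoints (Subgroup.zpowers y) (bigA C g)) = Nat.card K := by
    refine Nat.card_congr
      { toFun := fun a => ⟨(a.1 : G), a.1.2, Subgroup.mem_centralizer_singleton_iff.mpr ?_⟩
        invFun := fun a => ⟨⟨a.1, a.2.1⟩, fun p => Subtype.ext ?_⟩
        left_inv := fun a => rfl
        right_inv := fun a => rfl }
    · have h : (y : G) * a.1 * y⁻¹ = a.1 := congrArg Subtype.val (a.2 ⟨y, Subgroup.mem_zpowers y⟩)
      exact (mul_inv_eq_iff_eq_mul.mp h).symm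
    · show (p : G) * a.1 * (p : G)⁻¹ = a.1
      obtain ⟨k, hk⟩ := Subgroup.mem_zpowers_iff.mp p.2
      rw [← hk, mul_inv_eq_iff_eq_mul]
      exact ((show Commute y (a : G) from (Subgroup.mem_centralizer_singleton_iff.mp a.2.2).symm).zpow_left k).eq
  rw [hfix] at hmod
  have hA : Nat.card (bigA C g) = 2 ^ 11 := (Subgroup.card_map_of_injective (incl_inj g)).trans C.aSub_facts.2
  obtain ⟨k, hk, ek⟩ := (Nat.dvd_prime_pow Nat.prime_two).mp (hA ▸ Subgroup.card_dvd_of_le (inf_le_left : K ≤ bigA C g))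
  rcases lt_or_eq_of_le hk with hlt | rfl
  · rw [hA, ek] at hmod
    have h1 : q ∣ 2 ^ k * (2 ^ (11 - k) - 1) := by
      rw [Nat.mul_sub, mul_one, ← pow_add, show k + (11 - k) = 11 by omega]
      exact (Nat.modEq_iff_dvd' (Nat.pow_le_pow_right two_pos hk)).mp hmod.symm
    rcases (Nat.Prime.dvd_mul hq).mp h1 with h2 | h2
    · exact hq2 ((Nat.prime_dvd_prime_iff_eq hq Nat.prime_two).mp (hq.dvd_of_dvd_pow h2))
    · exact hbad (11 - k) (by omega) (by omega) (Nat.dvd_iff_mod_eq_zero.mp h2)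
  · have hK : K = bigA C g := Subgroup.eq_of_le_of_card_ge inf_le_left (by rw [hA, ek])
    have hyA : y ∈ bigA C g := bigA_cent g fun a ha =>
      (Subgroup.mem_centralizer_singleton_iff.mp (hK.ge ha).2).symm
    obtain ⟨a', ha', rfl⟩ := hyA
    have h2 : incl z g a' * incl z g a' = 1 := by rw [← map_mul, C.aSub_sq ha', map_one]
    have h3 : orderOf (incl z g a') ∣ 2 := orderOf_dvd_of_pow_eq_one (by rw [pow_two]; exact h2)
    rw [hord'] at h3
    exact hq2 ((Nat.prime_dvd_prime_iff_eq hq Nat.prime_two).mp h3)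

/-- the class of the central involution is one orbit -/
theorem Frame.orbit_dvd (hfus : ∀ a ∈ bigA C g, ∀ y : G, y * a * y⁻¹ ∈ bigA C g →
      ∃ m ∈ Subgroup.normalizer (bigA C g : Set G), m * a * m⁻¹ = y * a * y⁻¹)
    {a0 : G} (ha0 : a0 ∈ bigA C g) :
    Nat.card {n : Fin 2048 // IsConj a0 (F.evAt g n)} ∣
      Nat.card ↥(Subgroup.normalizer (bigA C g : Set G)) := by
  classical
  set M := Subgroup.normalizer (bigA C g : Set G) with hM
  letI : MulAction M G := MulAction.compHom G (MulAut.conj.comp M.subtype)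
  have hsmul : ∀ (m : M) (a : G), m • a = (m : G) * a * (m : G)⁻¹ := fun m a => rfl
  have horb : Nat.card (MulAction.orbit M a0) ∣ Nat.card M := by
    rw [Nat.card_congr (MulAction.orbitEquivQuotientStabilizer M a0)]
    exact Dvd.intro _ (Subgroup.card_eq_card_quotient_mul_card_subgroup (MulAction.stabilizer M a0)).symm
  refine (Nat.card_eq_of_bijective
    (fun n : {n : Fin 2048 // IsConj a0 (F.evAt g n)} => (⟨F.evAt g n.1, by
      obtain ⟨y, hy⟩ := isConj_iff.mp n.2
      obtain ⟨m, hm, em⟩ := hfus a0 ha0 y (hy ▸ F.evAt_mem g n.1)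
      exact ⟨⟨m, hm⟩, (hsmul _ _).trans (em.trans hy)⟩⟩ : MulAction.orbit M a0)) ?_).symm ▸ horb
  constructor
  · rintro ⟨⟨a, ha⟩, _⟩ ⟨⟨b, hb⟩, _⟩ e
    exact Subtype.ext (Fin.ext (F.evAt_inj g ha hb (congrArg Subtype.val e)))
  · rintro ⟨a, m, rfl⟩
    obtain ⟨n, hn, en⟩ := F.evAt_surj g ((Subgroup.mem_normalizer_iff.mp m.2 a0).mp ha0)
    refine ⟨⟨⟨n, hn⟩, isConj_iff.mpr ⟨(m : G), en.symm⟩⟩, Subtype.ext ?_⟩
    exact en.trans (hsmul m a0).symm

/-- sizes of the two classes -/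
theorem Frame.sizes (hex : ∃ y : G, y * z * y⁻¹ ∈ QG Q ∧ y * z * y⁻¹ ≠ z)
    (hfus : ∀ a ∈ bigA C g, ∀ y : G, y * a * y⁻¹ ∈ bigA C g →
      ∃ m ∈ Subgroup.normalizer (bigA C g : Set G), m * a * m⁻¹ = y * a * y⁻¹) :
    F.pN 1 0 ∧ ¬ F.pN 1 4 ∧ 1771 ∣ Nat.card ↥(Subgroup.normalizer (bigA C g : Set G)) := by
  classical
  obtain ⟨a, b, ha, hb, hcount⟩ := F.nz_count hex
  have hz : g * z * g⁻¹ ∈ bigA C g :=
    ⟨zc C, C.uSub_le_aSub ⟨C.zc_mem, by rw [C.zc_v]; exact uList_zero⟩, rfl⟩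
  have hd := F.orbit_dvd g hfus hz
  have hsplit : Nat.card {n : Fin 2048 // IsConj (g * z * g⁻¹) (F.evAt g n)} +
      Nat.card {n : Fin 2048 // F.Nz n} = 2047 := by
    have hc : IsConj z (g * z * g⁻¹) := isConj_iff.mpr ⟨g, rfl⟩
    rw [Nat.card_eq_fintype_card, Nat.card_eq_fintype_card, Fintype.card_subtype, Fintype.card_subtype,
      ← Finset.card_union_of_disjoint]
    · rw [show (2047 : ℕ) = (Finset.univ.erase (0 : Fin 2048)).card by
        rw [Finset.card_erase_of_mem (Finset.mem_univ _), Finset.card_univ, Fintype.card_fin]]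
      congr 1
      ext n
      simp only [Finset.mem_union, Finset.mem_filter, Finset.mem_univ, true_and, Finset.mem_erase, and_true,
        F.nz_iff g n.2]
      constructor
      · rintro (h | ⟨h, -⟩) rfl
        · refine C.st.ne_one ((isConj_one_left).mp ?_)
          rw [show F.evAt g (((0 : Fin 2048)) : ℕ) = 1 by rw [Fin.val_zero, Frame.evAt, F.ev_zero, map_one]] at h
          exact hc.trans h
        · exact h (by rw [Fin.val_zero, Frame.evAt, F.ev_zero, map_one])
      · intro h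
        have h1 : F.evAt g n ≠ 1 := fun e => h (Fin.ext (F.evAt_inj g n.2 (by norm_num)
          (e.trans (by rw [Fin.val_zero, Frame.evAt, F.ev_zero, map_one]))))
        by_cases hzc : IsConj z (F.evAt g n)
        · exact Or.inl (hc.symm.trans hzc)
        · exact Or.inr ⟨h1, hzc⟩
    · rw [Finset.disjoint_filter]
      intro n _ h hN
      exact ((F.nz_iff g n.2).mp hN).2 ((isConj_iff.mpr ⟨g, rfl⟩ : IsConj z (g * z * g⁻¹)).trans h)
  have hbadq : ∀ q ∈ [2011, 1291, 1051], q.Prime ∧ q ≠ 2 ∧ ∀ i, 0 < i → i ≤ 11 → (2 ^ i - 1) % q ≠ 0 := by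
    intro q hq
    simp only [List.mem_cons, List.not_mem_nil, or_false] at hq
    refine ⟨by rcases hq with rfl | rfl | rfl <;> norm_num, by rcases hq with rfl | rfl | rfl <;> norm_num,
      fun i h0 h11 => ?_⟩
    have h := (bad_primes ⟨i, by omega⟩).resolve_left (Nat.pos_iff_ne_zero.mp h0)
    rcases hq with rfl | rfl | rfl
    · exact h.1
    · exact h.2.1
    · exact h.2.2
  have hno : ∀ q ∈ [2011, 1291, 1051], ¬ q ∣ Nat.card ↥(Subgroup.normalizer (bigA C g : Set G)) := fun q hq =>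
    F.no_prime g (hbadq q hq).1 (hbadq q hq).2.2 (hbadq q hq).2.1
  rw [hcount] at hsplit
  rcases Bool.eq_false_or_eq_true a with hA | hA <;> rcases Bool.eq_false_or_eq_true b with hB | hB <;>
    subst hA <;> subst hB <;> simp only [cond_true, cond_false] at hsplit
  · exact absurd ((show Nat.card {n : Fin 2048 // IsConj (g * z * g⁻¹) (F.evAt g n)} = 1051 by omega) ▸ hd)
      (hno 1051 (by simp))
  · exact ⟨ha.mpr rfl, fun h => Bool.noConfusion (hb.mp h),
      (show Nat.card {n : Fin 2048 // IsConj (g * z * g⁻¹) (F.evAt g n)} = 1771 by omega) ▸ hd⟩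
  · exact absurd ((show Nat.card {n : Fin 2048 // IsConj (g * z * g⁻¹) (F.evAt g n)} = 1291 by omega) ▸ hd)
      (hno 1291 (by simp))
  · exact absurd ((show Nat.card {n : Fin 2048 // IsConj (g * z * g⁻¹) (F.evAt g n)} = 2011 by omega) ▸ hd)
      (hno 2011 (by simp))

omit F in
/-- coordinates in which the second class is the set of pairs -/
theorem exists_pairs (C : Co z Q v ρ 2) (g : G) (hex : ∃ y : G, y * z * y⁻¹ ∈ QG Q ∧ y * z * y⁻¹ ≠ z)
    (hfus : ∀ a ∈ bigA C g, ∀ y : G, y * a * y⁻¹ ∈ bigA C g →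
      ∃ m ∈ Subgroup.normalizer (bigA C g : Set G), m * a * m⁻¹ = y * a * y⁻¹) :
    ∃ (x : CZ z) (kb : Fin 4 → CZ z) (F : Frame C x kb),
      ∀ n, n < 2048 → (F.Nz n ↔ pairMask.testBit n = true) := by
  classical
  obtain ⟨x, kb0, F0⟩ := C.exists_frame'
  obtain ⟨kb, F, hbase⟩ := F0.exists_good (F0.sizes g hex hfus).1
  obtain ⟨ha, hb, -⟩ := F.sizes g hex hfus
  obtain ⟨s, hs, heqv, hmask⟩ := F.exists_sign hex ha hb hbase
  refine ⟨x, kb, F, fun n hn => ?_⟩
  suffices hsf : s = 93 by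
    subst hsf
    rw [hmask n hn, beq_iff_eq.mp (List.all_eq_true.mp mask_ok n (List.mem_range.mpr hn))]
  -- an element of the class of the central involution above the extraspecial group
  have ht : IsConj z (F.evAt g 192) := by
    by_contra hh
    refine F.le_one hex (fb := 1) (j := 0) (by norm_num) (by norm_num) (by norm_num)
      ⟨hbase 0, (F.nz_iff g (by norm_num)).mpr ⟨fun e => ?_, hh⟩⟩
    have := F.evAt_inj g (a := 192) (b := 0) (by norm_num) (by norm_num)
      (e.trans (by rw [Frame.evAt, F.ev_zero, map_one]))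
    omega
  have hz64 : F.evAt g 64 = g * z * g⁻¹ := by rw [Frame.evAt, F.ev_zc]; rfl
  obtain ⟨y, hy⟩ := isConj_iff.mp ((isConj_iff.mpr ⟨g, rfl⟩ : IsConj z (g * z * g⁻¹)).symm.trans ht)
  obtain ⟨m, hm, em⟩ := hfus _ (hz64 ▸ F.evAt_mem g 64) y (hy ▸ F.evAt_mem g 192)
  obtain ⟨L, hL, hadd, hinj, hN⟩ := F.exists_map g hm
  have hL64 : L 64 = 192 := F.evAt_inj g (hL 64 (by norm_num)).1 (by norm_num) (by
    rw [← (hL 64 (by norm_num)).2, hz64, em, hy])
  have hL' : Set.BijOn L (Set.Iio 2048) (Set.Iio 2048) := by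
    refine ⟨fun n hn => (hL n hn).1, fun a ha' b hb' e => hinj a ha' b hb' e, fun k hk => ?_⟩
    obtain ⟨n, hn⟩ := (Finite.injective_iff_surjective (f := fun n : Fin 2048 => (⟨L n, (hL n n.2).1⟩ : Fin 2048))).mp
      (fun a b e => Fin.ext (hinj a a.2 b b.2 (congrArg Fin.val e))) ⟨k, hk⟩
    exact ⟨n, n.2, congrArg Fin.val hn⟩
  have hmeet : meetN s 64 = meetN s 192 := by
    unfold meetN
    rw [List.countP_eq_length_filter, List.countP_eq_length_filter,
      ← List.toFinset_card_of_nodup (List.nodup_range.filter _),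
      ← List.toFinset_card_of_nodup (List.nodup_range.filter _)]
    refine Finset.card_bij (fun n _ => L n) (fun n hn => ?_) (fun a ha' b hb' e => ?_) (fun k hk => ?_)
    · obtain ⟨hn1, hn2⟩ := List.mem_filter.mp (List.mem_toFinset.mp hn)
      rw [List.mem_range] at hn1
      rw [Bool.and_eq_true] at hn2
      have hx : n ^^^ 64 < 2048 := Nat.xor_lt_two_pow (n := 11) hn1 (by norm_num)
      refine List.mem_toFinset.mpr (List.mem_filter.mpr ⟨List.mem_range.mpr (hL n hn1).1, ?_⟩)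
      have e2 : L (n ^^^ 64) = L n ^^^ 192 := by rw [hadd n hn1 64 (by norm_num), hL64]
      rw [Bool.and_eq_true, ← hmask _ (hL n hn1).1, ← e2, ← hmask _ (hL _ hx).1, ← hN n hn1, ← hN _ hx,
        hmask n hn1, hmask _ hx]
      exact hn2
    · exact hinj a (List.mem_range.mp (List.mem_filter.mp (List.mem_toFinset.mp ha')).1) b
        (List.mem_range.mp (List.mem_filter.mp (List.mem_toFinset.mp hb')).1) e
    · obtain ⟨hk1, hk2⟩ := List.mem_filter.mp (List.mem_toFinset.mp hk)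
      obtain ⟨n, hn1, rfl⟩ := hL'.surjOn (List.mem_range.mp hk1 : k ∈ Set.Iio 2048)
      have hn1' : n < 2048 := hn1
      have hx : n ^^^ 64 < 2048 := Nat.xor_lt_two_pow (n := 11) hn1' (by norm_num)
      have e2 : L (n ^^^ 64) = L n ^^^ 192 := by rw [hadd n hn1' 64 (by norm_num), hL64]
      refine ⟨n, List.mem_toFinset.mpr (List.mem_filter.mpr ⟨List.mem_range.mpr hn1', ?_⟩), rfl⟩
      rw [Bool.and_eq_true, ← hmask _ (hL n hn1').1, ← e2, ← hmask _ (hL _ hx).1, ← hN n hn1', ← hN _ hx,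
        hmask n hn1', hmask _ hx] at hk2
      rw [Bool.and_eq_true]; exact hk2
  have h := List.all_eq_true.mp sign_ok s (List.mem_range.mpr hs)
  rw [heqv, hmeet, Nat.beq_refl] at h
  exact Nat.eq_of_beq_eq_true (by simpa using h)

/-- the action on the points -/
theorem Frame.exists_hom (hpairs : ∀ n, n < 2048 → (F.Nz n ↔ pairMask.testBit n = true)) :
    ∃ φ : ↥(Subgroup.normalizer (bigA C g : Set G)) →* ↥M24,
      φ.ker = (bigA C g).subgroupOf (Subgroup.normalizer (bigA C g : Set G)) ∧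
        ∀ (m : ↥(Subgroup.normalizer (bigA C g : Set G))) p q, (m : G) * F.evAt g (dp p q) * (m : G)⁻¹ =
          F.evAt g (dp ((φ m : Equiv.Perm GolayPt) p) ((φ m : Equiv.Perm GolayPt) q)) := by
  classical
  set M := Subgroup.normalizer (bigA C g : Set G) with hM
  have hex : ∀ m : M, ∃ σ : M24, ∀ p q, (m : G) * F.evAt g (dp p q) * (m : G)⁻¹ =
      F.evAt g (dp ((σ : Equiv.Perm GolayPt) p) ((σ : Equiv.Perm GolayPt) q)) := by
    intro m
    obtain ⟨L, hL, hadd, hinj, hN⟩ := F.exists_map g m.2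
    obtain ⟨σ, hσ, e⟩ := exists_perm L (fun n hn => (hL n hn).1) hadd hinj fun n hn h =>
      (hpairs _ (hL n hn).1).mp ((hN n hn).mp ((hpairs n hn).mpr h))
    exact ⟨⟨σ, hσ⟩, fun p q => by rw [(hL _ (dp_lt p q)).2, e]⟩
  choose f hf using hex
  have huniq : ∀ {σ τ : Equiv.Perm GolayPt}, (∀ p q, F.evAt g (dp (σ p) (σ q)) = F.evAt g (dp (τ p) (τ q))) → σ = τ :=
    fun h => perm_unique fun p q => F.evAt_inj g (dp_lt _ _) (dp_lt _ _) (h p q)
  let φ : M →* M24 := MonoidHom.mk' f fun a b => Subtype.ext (huniq fun p q => by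
    rw [← hf (a * b) p q]
    simp only [Subgroup.coe_mul, Equiv.Perm.mul_apply]
    rw [← hf a, ← hf b]
    group)
  refine ⟨φ, ?_, hf⟩
  ext m
  rw [MonoidHom.mem_ker, Subgroup.mem_subgroupOf]
  constructor
  · intro h1
    obtain ⟨L, hL, hadd, -, -⟩ := F.exists_map g m.2
    have hid := eq_id_of_pairs L hadd fun p q => F.evAt_inj g (hL _ (dp_lt p q)).1 (dp_lt p q) (by
      rw [← (hL _ (dp_lt p q)).2, hf m p q, show f m = 1 from h1]
      rfl)
    refine bigA_cent g fun a ha => ?_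
    obtain ⟨n, hn, rfl⟩ := F.evAt_surj g ha
    have := (hL n hn).2
    rw [hid n hn] at this
    exact mul_inv_eq_iff_eq_mul.mp this
  · intro hmA
    refine Subtype.ext (huniq fun p q => ?_)
    rw [show φ m = f m from rfl, show (((1 : M24) : M24) : Equiv.Perm GolayPt) p = p from rfl, show (((1 : M24) : M24) : Equiv.Perm GolayPt) q = q from rfl,
      ← hf m p q]
    obtain ⟨a, ha, ea⟩ := hmA
    have ha' := F.ev_mem (dp p q)
    rw [← ea, Frame.evAt, ← map_mul, ← map_inv, ← map_mul, C.aSub_comm ha ha', mul_inv_cancel_right]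

/-- the action reaches the whole Mathieu group -/
theorem Frame.hom_top (hex : ∃ y : G, y * z * y⁻¹ ∈ QG Q ∧ y * z * y⁻¹ ≠ z)
    (hfus : ∀ a ∈ bigA C g, ∀ y : G, y * a * y⁻¹ ∈ bigA C g →
      ∃ m ∈ Subgroup.normalizer (bigA C g : Set G), m * a * m⁻¹ = y * a * y⁻¹)
    (h21 : 2 ^ 21 ∣ Nat.card ↥(Subgroup.normalizer (bigA C g : Set G)))
    (φ : ↥(Subgroup.normalizer (bigA C g : Set G)) →* ↥M24)
    (hker : φ.ker = (bigA C g).subgroupOf (Subgroup.normalizer (bigA C g : Set G))) :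
    Function.Surjective φ := by
  classical
  have hA : Nat.card ↥φ.ker = 2 ^ 11 := by
    rw [hker, Nat.card_congr (Subgroup.subgroupOfEquivOfLe (Subgroup.le_normalizer)).toEquiv]
    exact (Subgroup.card_map_of_injective (incl_inj g)).trans C.aSub_facts.2
  have hs := Subgroup.card_eq_card_quotient_mul_card_subgroup φ.ker
  rw [Nat.card_congr (QuotientGroup.quotientKerEquivRange φ).toEquiv, hA] at hs
  have h1771 := (F.sizes g hex hfus).2.2
  -- lifts of the two normalising elements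
  have hnorm : ∀ k : Fin 2, ∃ m : CZ z, colsOf (ρ m) = nC k ∧ ρ m ∈ KKp ∧ incl z g m ∈ (Subgroup.normalizer (bigA C g : Set G)) := by
    intro k
    obtain ⟨m, hm, em, hmK⟩ := F.exists_norm k
    refine ⟨m, em, hmK, ?_⟩
    have hev : ∀ n, n < 2048 → m * ev C x kb n * m⁻¹ ∈ C.aSub := by
      intro n hn
      have hj : n % 64 < 64 := Nat.mod_lt _ (by norm_num)
      have h1 := (F.norm_parts hm em hmK (fb := n / 128) (by omega) hj).1
      rcases split_coord hn with ⟨e, -⟩ | ⟨e, -⟩ <;> rw [e]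
      · exact h1
      · rw [(F.ev_low hj).2, show m * (ev C x kb (128 * (n / 128) + n % 64) * zc C) * m⁻¹ =
          (m * ev C x kb (128 * (n / 128) + n % 64) * m⁻¹) * (m * zc C * m⁻¹) by group]
        refine mul_mem h1 ?_
        rw [C.zc_comm, mul_inv_cancel_right]
        exact C.uSub_le_aSub ⟨C.zc_mem, by rw [C.zc_v]; exact uList_zero⟩
    refine Subgroup.mem_normalizer_fintype (S := (bigA C g : Set G)) fun a ha => ?_
    obtain ⟨a', ha', rfl⟩ := ha
    obtain ⟨n, hn, rfl⟩ := F.ev_surj ha'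
    exact ⟨_, hev n hn, by rw [map_mul, map_mul, map_inv]⟩
  have hdvd : ∀ {p : ℕ} (w : CZ z), p.Prime → incl z g w ∈ (Subgroup.normalizer (bigA C g : Set G)) → ρ w ≠ 1 → ρ w ^ p = 1 → p ∣ Nat.card (Subgroup.normalizer (bigA C g : Set G)) := by
    intro p w hp hw h1 hpw
    haveI := Fact.mk hp
    have h2 : orderOf (ρ w) = p := orderOf_eq_prime hpw h1
    have h3 : orderOf (ρ w) ∣ orderOf w := orderOf_map_dvd ρ w
    rw [h2, ← orderOf_injective (incl z g) (incl_inj g) w] at h3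
    exact h3.trans ((Subgroup.orderOf_coe (⟨_, hw⟩ : (Subgroup.normalizer (bigA C g : Set G)))).symm ▸ orderOf_dvd_natCard _)
  obtain ⟨m0, e0, hK0, hM0⟩ := hnorm 0
  obtain ⟨m1, e1, hK1, hM1⟩ := hnorm 1
  have h3 : 3 ∣ Nat.card (Subgroup.normalizer (bigA C g : Set G)) := by
    refine hdvd m0 Nat.prime_three hM0 (fun e => five_word.2.2.2 ?_) ?_
    · rw [← cols_one, ← e]; exact e0.symm
    · have hA := kkp_addPerm hK0
      refine cols_inj (by rw [pow_succ, pow_succ, pow_one]; exact add_mul' (add_mul' hA hA) hA) (fun _ _ => rfl) ?_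
      rw [show ρ m0 ^ 3 = ρ m0 * (ρ m0 * ρ m0) by rw [pow_succ', pow_two], cols_mul hA, cols_mul hA, e0, cols_one]
      exact five_word.2.2.1
  have h5 : 5 ∣ Nat.card (Subgroup.normalizer (bigA C g : Set G)) := by
    set w := m0 * (m0 * m1) with hw
    have hwM : incl z g w ∈ (Subgroup.normalizer (bigA C g : Set G)) := by rw [hw, map_mul, map_mul]; exact mul_mem hM0 (mul_mem hM0 hM1)
    have hwK : ρ w ∈ KKp := by rw [hw, map_mul, map_mul]; exact mul_mem hK0 (mul_mem hK0 hK1)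
    have ew : colsOf (ρ w) = bComp (nC 0) (bComp (nC 0) (nC 1)) := by
      rw [hw, map_mul, map_mul, cols_mul (kkp_addPerm hK0), cols_mul (kkp_addPerm hK0), e0, e1]
      rfl
    refine hdvd w Nat.prime_five hwM (fun e => five_word.2.1 ?_) ?_
    · rw [← cols_one, ← e, ew]
    · have hA := kkp_addPerm hwK
      refine cols_inj (kkp_addPerm (pow_mem hwK 5)) (fun _ _ => rfl) ?_
      rw [show ρ w ^ 5 = ρ w * (ρ w * (ρ w * (ρ w * ρ w))) by simp only [pow_succ', pow_zero, mul_one],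
        cols_mul hA, cols_mul hA, cols_mul hA, cols_mul hA, ew, cols_one]
      exact five_word.1
  have hcop : ∀ d : ℕ, Nat.Coprime d (2 ^ 11) → d ∣ Nat.card (Subgroup.normalizer (bigA C g : Set G)) → d ∣ Nat.card φ.range :=
    fun d hd h => hd.dvd_of_dvd_mul_right (hs ▸ h)
  have h2 : 2 ^ 10 ∣ Nat.card φ.range := by
    rw [hs, show (2 : ℕ) ^ 21 = 2 ^ 10 * 2 ^ 11 by norm_num] at h21
    exact Nat.dvd_of_mul_dvd_mul_right (by norm_num) h21
  have hodd : 15 * 1771 ∣ Nat.card φ.range := by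
    refine hcop _ (by norm_num) ?_
    refine Nat.Coprime.mul_dvd_of_dvd_of_dvd (by norm_num) ?_ h1771
    exact Nat.Coprime.mul_dvd_of_dvd_of_dvd (m := 3) (n := 5) (by norm_num) h3 h5
  have hall : 2 ^ 10 * (15 * 1771) ∣ Nat.card φ.range :=
    Nat.Coprime.mul_dvd_of_dvd_of_dvd (by norm_num) h2 hodd
  obtain ⟨k, hk⟩ := hall
  have hidx := φ.range.card_mul_index
  rw [hk, natCard_M24] at hidx
  have hk9 : φ.range.index ≤ 9 := by
    have h9 : k * φ.range.index = 9 := by
      have : 2 ^ 10 * (15 * 1771) * (k * φ.range.index) = 2 ^ 10 * (15 * 1771) * 9 := by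
        rw [← mul_assoc, hidx]; norm_num
      exact Nat.eq_of_mul_eq_mul_left (by norm_num) this
    exact Nat.le_of_dvd (by norm_num) ⟨k, by rw [mul_comm]; exact h9.symm⟩
  haveI := isSimpleGroup_M24
  rw [← MonoidHom.range_eq_top]
  rcases (Subgroup.normalCore_normal φ.range).eq_bot_or_eq_top with hbot | htop
  · exfalso
    have hinj : Function.Injective (MulAction.toPermHom M24 (M24 ⧸ φ.range)) := by
      rw [← MonoidHom.ker_eq_bot_iff, ← Subgroup.normalCore_eq_ker, hbot]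
    have h := Nat.card_le_card_of_injective _ hinj
    rw [natCard_M24, Nat.card_perm, ← Subgroup.index] at h
    exact absurd (h.trans (Nat.factorial_le hk9)) (by decide +kernel)
  · exact eq_top_iff.mpr (htop ▸ Subgroup.normalCore_le φ.range)

end Co

end CfsgLib.LargeFischer
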