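import Cfsg.Agent.Lib.LargeFischer.ToddCoord

/-!
The two classes in coordinates.
-/

set_option autoImplicit false
set_option maxRecDepth 100000
set_option linter.style.haveILetI false

namespace CfsgLib.LargeFischer

open CfsgLib.Extraspecial
open CfsgLib.HePres (K4)
open CfsgLib.Fi22USix (V6 el code vec vec_code hval nrm)
open CfsgLib.USixUFour (InP isOff mv act coreK)

theorem split_coord {n : ℕ} (hn : n < 2048) :
    n = 128 * (n / 128) + n % 64 ∧ n.testBit 6 = false ∨ n = 128 * (n / 128) + 64 + n % 64 ∧ n.testBit 6 = true := by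
  rw [Nat.testBit_eq_decide_div_mod_eq]
  rcases Nat.mod_two_eq_zero_or_one (n / 2 ^ 6) with h | h <;> rw [h] <;> norm_num at h ⊢ <;> omega

theorem com_entry {fb : ℕ} (h0 : fb ≠ 0) (hfb : fb < 16) {e : ℕ × ℕ × ℕ} (he : e ∈ comOf fb) :
    e.1 < 64 ∧ e.2.1 < 4096 ∧ bMap (fC fb) e.2.1 ^^^ e.2.1 = uC e.1 ∧
      hbB (el 2 • vec (uC e.1)) (vec e.2.1) = Nat.beq e.2.2 1 := by
  obtain ⟨i, rfl⟩ : ∃ i, fb = i + 1 := ⟨fb - 1, by omega⟩
  have h := List.all_eq_true.mp (com_ok ⟨i, by omega⟩).2.2.1 e he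
  simp only [Bool.and_eq_true, Nat.blt_eq, beq_iff_eq] at h
  exact ⟨h.1.1.1, h.1.1.2, Nat.eq_of_beq_eq_true h.1.2, h.2⟩

theorem rep_entry {fb : ℕ} (h0 : fb ≠ 0) (hfb : fb < 16) {j : ℕ} (hj : j < 64) :
    (∃ e ∈ comOf fb, repOf fb j = j ^^^ e.1) ∧ (repOf fb j = 0 → ∃ e ∈ comOf fb, j = e.1) ∧
      ∃ q ∈ clTree, q.1 = fb ∧ q.2.1 = repOf fb j := by
  obtain ⟨i, rfl⟩ : ∃ i, fb = i + 1 := ⟨fb - 1, by omega⟩
  have h := List.all_eq_true.mp (com_ok ⟨i, by omega⟩).2.2.2 j (List.mem_range.mpr hj)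
  simp only [Bool.and_eq_true, Nat.blt_eq] at h
  obtain ⟨⟨⟨hk, hr⟩, hc⟩, ht⟩ := h
  refine ⟨⟨_, ?_, Nat.eq_of_beq_eq_true hr⟩, fun e => ?_, ?_⟩
  · rw [List.getD_eq_getElem _ _ (hk.trans_eq (com_ok ⟨i, by omega⟩).1.symm)]
    exact List.getElem_mem _
  · rw [show repOf (i + 1) j = 0 from e, Nat.beq_refl, cond_true, List.any_eq_true] at hc
    obtain ⟨e', he', h'⟩ := hc
    exact ⟨e', he', Nat.eq_of_beq_eq_true h'⟩
  · rw [List.any_eq_true] at ht
    obtain ⟨q, hq, h'⟩ := ht
    rw [Bool.and_eq_true] at h'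
    exact ⟨q, hq, Nat.eq_of_beq_eq_true h'.1, Nat.eq_of_beq_eq_true h'.2⟩

theorem lm_entry (k : Fin 2) {fb j : ℕ} (hfb : fb < 16) (hj : j < 64) :
    lOf k fb < 16 ∧ (fb ≠ 0 → lOf k fb ≠ 0) ∧ bComp (nC k) (fC fb) = bComp (fC (lOf k fb)) (nC k) ∧
      mOf k j < 64 ∧ bMap (nC k) (uC j) = uC (mOf k j) := by
  have h1 := List.all_eq_true.mp (lm_ok k).1 fb (List.mem_range.mpr hfb)
  have h2 := List.all_eq_true.mp (lm_ok k).2 j (List.mem_range.mpr hj)
  simp only [Bool.and_eq_true, Nat.blt_eq, Bool.or_eq_true, decide_eq_true_eq] at h1 h2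
  refine ⟨h1.1.1, fun h e => ?_, h1.2, h2.1, Nat.eq_of_beq_eq_true h2.2⟩
  rcases h1.1.2 with h' | h'
  · exact h (Nat.eq_of_beq_eq_true h')
  · rw [e, Nat.beq_refl] at h'
    exact Bool.noConfusion h'

theorem foldr_bits (τ : ℕ → Bool) (h : ∀ a < 16, ∀ b < 16, τ (a ^^^ b) = (τ a ^^ τ b)) :
    ∀ (l : List ℕ), (∀ i ∈ l, i < 4) → ∀ s : Bool,
      l.foldr (fun i b => τ (2 ^ i) ^^ b) s = (τ (l.foldr (fun i b => 2 ^ i ^^^ b) 0) ^^ s) ∧
        l.foldr (fun i b => 2 ^ i ^^^ b) 0 < 16 := by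
  intro l
  induction l with
  | nil =>
    intro _ s
    have h0 := h 0 (by norm_num) 0 (by norm_num)
    rw [Nat.xor_self] at h0
    refine ⟨?_, by norm_num⟩
    show s = (τ 0 ^^ s)
    rw [h0]; cases τ 0 <;> simp
  | cons i l ih =>
    intro hl s
    obtain ⟨e, hlt⟩ := ih (fun x hx => hl x (List.mem_cons_of_mem _ hx)) s
    have hi : 2 ^ i < 16 := Nat.pow_lt_pow_right (by norm_num : 1 < 2) (hl i List.mem_cons_self)
    refine ⟨?_, Nat.xor_lt_two_pow (n := 4) hi hlt⟩
    simp only [List.foldr_cons, e, h _ hi _ hlt]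
    cases τ (2 ^ i) <;> simp

theorem bits_fold : ∀ fb : Fin 16, ((List.range 4).filter fun i => (fb : ℕ).testBit i).foldr
    (fun i b => 2 ^ i ^^^ b) 0 = (fb : ℕ) := by decide +kernel

namespace Co

variable {G : Type*} [Group G] [Finite G] {z : G} {Q : Subgroup (CZ z)} {v : CZ z → V6}
  {ρ : CZ z →* Equiv.Perm V6} {C : Co z Q v ρ 2} {x : CZ z} {kb : Fin 4 → CZ z}

/-- the second class -/
def Frame.Nz (_F : Frame C x kb) (n : ℕ) : Prop := n ≠ 0 ∧ ¬ IsConj z ((ev C x kb n : CZ z) : G)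

theorem Frame.sLift_zero [Q.Normal] (F : Frame C x kb) : sLift C x (vec (uC 0)) = 1 := by
  have h := C.sLift_add F.hx (u := vec (uC 0)) (u' := vec (uC 0)) (by rw [code_uC (by norm_num)]; exact (uC_mem (by norm_num)).1)
    (by rw [code_uC (by norm_num)]; exact (uC_mem (by norm_num)).1)
  rw [← vec_xor, Nat.xor_self] at h
  have h0 : uC 0 = 0 := by
    have h := uC_xor (a := 0) (b := 0) (by norm_num) (by norm_num)
    rwa [Nat.xor_self, Nat.xor_self] at h
  rw [h0] at h ⊢
  exact mul_eq_left.mp h.symm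

theorem Frame.ev_low [Q.Normal] (_F : Frame C x kb) {fb j : ℕ} (hj : j < 64) :
    ev C x kb (128 * fb + j) = kLift C kb fb * sLift C x (vec (uC j)) ∧
      ev C x kb (128 * fb + 64 + j) = ev C x kb (128 * fb + j) * zc C := by
  have e1 : ev C x kb (128 * fb + j) = kLift C kb fb * sLift C x (vec (uC j)) := by
    rw [ev, show (128 * fb + j) / 128 = fb by omega, show (128 * fb + j) % 64 = j by omega,
      Nat.testBit_eq_decide_div_mod_eq, show (128 * fb + j) / 2 ^ 6 % 2 = 0 by norm_num; omega]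
    rw [show decide ((0 : ℕ) = 1) = false from rfl, cond_false, mul_one]
  refine ⟨e1, ?_⟩
  rw [e1, ev, show (128 * fb + 64 + j) / 128 = fb by omega, show (128 * fb + 64 + j) % 64 = j by omega,
    Nat.testBit_eq_decide_div_mod_eq, show (128 * fb + 64 + j) / 2 ^ 6 % 2 = 1 by norm_num; omega]
  rw [show decide ((1 : ℕ) = 1) = true from rfl, cond_true, mul_assoc]

theorem Frame.ev_zero [Q.Normal] (F : Frame C x kb) : ev C x kb 0 = 1 := by
  have h := F.ev_xor 0 0
  rw [Nat.xor_self] at h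
  exact mul_eq_left.mp h.symm

theorem Frame.ev_top [Q.Normal] (F : Frame C x kb) (fb : ℕ) : ev C x kb (128 * fb) = kLift C kb fb := by
  have h := (F.ev_low (fb := fb) (j := 0) (by norm_num)).1
  rwa [F.sLift_zero, mul_one, Nat.add_zero] at h

theorem Frame.ev_zc [Q.Normal] (F : Frame C x kb) : ev C x kb 64 = zc C := by
  have h := (F.ev_low (fb := 0) (j := 0) (by norm_num)).2
  rwa [show 128 * 0 + 64 + 0 = 64 from rfl, show 128 * 0 + 0 = 0 from rfl, F.ev_zero, one_mul] at h

theorem Frame.not_Q [Q.Normal] (F : Frame C x kb) {n : ℕ} (hn : n < 2048) (h : 128 ≤ n) : ev C x kb n ∉ Q := by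
  intro hq
  have h1 := (F.ev_parts hn).1
  rw [(C.ker _).mpr hq, cols_one, ← f_ok.2.2.1] at h1
  have := fC_inj (a := 0) (b := n / 128) (by norm_num) (by omega) h1
  omega

/-- inside the extraspecial group the class follows the kind of the vector -/
theorem Frame.nz_low [Q.Normal] (F : Frame C x kb) (hex : ∃ g : G, g * z * g⁻¹ ∈ QG Q ∧ g * z * g⁻¹ ≠ z) {n : ℕ}
    (hn : n < 128) : F.Nz n ↔ (n % 64 ≠ 0 ∧ InP 0 (vec (uC (n % 64)))) := by
  obtain ⟨-, hv, hq⟩ := F.ev_parts (n := n) (by omega)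
  rw [show n / 128 = 0 by omega, show kLift C kb 0 = 1 from evG_zero _, inv_one, one_mul] at hv hq
  have hj : n % 64 < 64 := Nat.mod_lt _ (by norm_num)
  rcases Nat.eq_zero_or_pos (n % 64) with h0 | h0
  · rw [h0]
    refine iff_of_false (fun h => ?_) (fun h => h.1 rfl)
    rcases (show n = 0 ∨ n = 64 by omega) with rfl | rfl
    · exact h.1 rfl
    · exact h.2 (by rw [F.ev_zc]; exact IsConj.refl z)
  have hne : v (ev C x kb n) ≠ 0 := by
    rw [hv]
    intro e
    have h00 : vec (uC 0) = 0 := by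
      have h := uC_xor (a := 0) (b := 0) (by norm_num) (by norm_num)
      rw [Nat.xor_self, Nat.xor_self] at h
      rw [h]; decide +kernel
    have := uC_inj hj (by norm_num) (e.trans h00.symm)
    omega
  have h1 : ((ev C x kb n : CZ z) : G) ≠ 1 := fun e => hne ((C.vzero _ hq).mpr (Or.inl e))
  have hz : ((ev C x kb n : CZ z) : G) ≠ z := fun e => hne ((C.vzero _ hq).mpr (Or.inr e))
  rw [← hv]
  refine ⟨fun h => ⟨by omega, (C.kinds hq (congrArg Subtype.val (C.aSub_sq (F.ev_mem n))) h1 hz).resolve_right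
    fun hoff => h.2 ?_⟩, fun h => ⟨by omega, fun hc => ?_⟩⟩
  · obtain ⟨g, ⟨y, hy, ey⟩, hgne⟩ := hex
    have hoy := C.off_of_conj (x := y) hy ey fun e => hgne (ey.symm.trans e)
    obtain ⟨m, em⟩ := C.one_orbit hy hq hoy hoff
    refine isConj_iff.mpr ⟨(m : G) * g, ?_⟩
    rw [← show (m : G) * y * (m : G)⁻¹ = _ from congrArg Subtype.val em, show (y : G) = g * z * g⁻¹ from ey]
    group
  · have hoff := C.off_of_isConj hq hc hz
    rw [USixUFour.isOff, decide_eq_true_eq, vec_code] at hoff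
    exact hoff.2.2 h.2

/-- above the extraspecial group at most one of two partners -/
theorem Frame.le_one [Q.Normal] (F : Frame C x kb) (hex : ∃ g : G, g * z * g⁻¹ ∈ QG Q ∧ g * z * g⁻¹ ≠ z) {fb j : ℕ}
    (h0 : fb ≠ 0) (hfb : fb < 16) (hj : j < 64) :
    ¬ (F.Nz (128 * fb + j) ∧ F.Nz (128 * fb + 64 + j)) := by
  rintro ⟨h1, h2⟩
  rcases C.aSub_or hex (F.ev_mem (128 * fb + j)) (F.not_Q (by omega) (by omega)) with h | h
  · exact h1.2 h
  · exact h2.2 (by rw [(F.ev_low hj).2, Subgroup.coe_mul]; exact h)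

/-- some element over given parts is in the second class -/
def Frame.pN (F : Frame C x kb) (fb j : ℕ) : Prop := F.Nz (128 * fb + j) ∨ F.Nz (128 * fb + 64 + j)

theorem Frame.pN_iff [Q.Normal] (F : Frame C x kb) {a : CZ z} (ha : a ∈ C.aSub) {fb j : ℕ} (h0 : fb ≠ 0)
    (hfb : fb < 16) (hj : j < 64) (ef : colsOf (ρ a) = fC fb) (ev' : v ((kLift C kb fb)⁻¹ * a) = vec (uC j)) :
    F.pN fb j ↔ (¬ IsConj z (a : G) ∨ ¬ IsConj z ((a * zc C : CZ z) : G)) := by
  have hne : 128 * fb + j ≠ 0 ∧ 128 * fb + 64 + j ≠ 0 := by omega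
  simp only [Frame.pN, Frame.Nz, hne.1, hne.2, ne_eq, not_false_eq_true, true_and]
  rcases F.ev_of ha hfb hj ef ev' with e | e <;> rw [e, (F.ev_low hj).2]
  rw [mul_assoc, C.zc_sq, mul_one]
  exact Or.comm

theorem Frame.pN_self [Q.Normal] (F : Frame C x kb) {fb j : ℕ} (h0 : fb ≠ 0) (hfb : fb < 16) (hj : j < 64) :
    F.pN fb j ↔ (¬ IsConj z ((ev C x kb (128 * fb + j) : CZ z) : G) ∨
      ¬ IsConj z ((ev C x kb (128 * fb + j) * zc C : CZ z) : G)) := by
  obtain ⟨h1, h2, -⟩ := F.ev_parts (n := 128 * fb + j) (by omega)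
  rw [show (128 * fb + j) / 128 = fb by omega] at h1 h2
  rw [show (128 * fb + j) % 64 = j by omega] at h2
  exact F.pN_iff (F.ev_mem _) h0 hfb hj h1 h2

theorem Frame.conj_pair [Q.Normal] (_F : Frame C x kb) (m a : CZ z) :
    (¬ IsConj z ((m * a * m⁻¹ : CZ z) : G) ∨ ¬ IsConj z ((m * a * m⁻¹ * zc C : CZ z) : G)) ↔
      (¬ IsConj z (a : G) ∨ ¬ IsConj z ((a * zc C : CZ z) : G)) := by
  have e : m * a * m⁻¹ * zc C = m * (a * zc C) * m⁻¹ := by
    rw [← mul_assoc m, mul_assoc (m * a) (zc C), ← C.zc_comm m⁻¹, ← mul_assoc]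
  rw [e, C.isConj_conj_iff, C.isConj_conj_iff]

theorem Frame.pN_shift [Q.Normal] (F : Frame C x kb) {fb j : ℕ} (h0 : fb ≠ 0) (hfb : fb < 16) (hj : j < 64)
    {e : ℕ × ℕ × ℕ} (he : e ∈ comOf fb) : F.pN fb j ↔ F.pN fb (j ^^^ e.1) := by
  obtain ⟨hc, hp, ec, -⟩ := com_entry h0 hfb he
  obtain ⟨r, hr, er⟩ := C.vsurj (vec e.2.1)
  have hcode : code (vec e.2.1) = e.2.1 := USixUFour.code_vec ⟨_, hp⟩
  set q := 128 * fb + (bif hbB (el 2 • vec (uC e.1)) (vec e.2.1) then 64 else 0) + e.1 with hq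
  have hrot : r * kLift C kb fb * r⁻¹ = ev C x kb q := F.rot hfb hr hc er (by rw [hcode]; exact ec)
  have hqlt : q < 2048 ∧ q / 128 = fb ∧ q % 64 = e.1 := by
    rw [hq]
    cases hbB (el 2 • vec (uC e.1)) (vec e.2.1) <;> simp only [cond_true, cond_false] <;> omega
  obtain ⟨q1, q2, q3⟩ := F.ev_parts hqlt.1
  rw [hqlt.2.1] at q1 q2 q3
  rw [hqlt.2.2] at q2
  obtain ⟨hsU, hsv⟩ := C.sLift_spec F.hx (u := vec (uC j)) (by rw [code_uC hj]; exact (uC_mem hj).1)
  have hru : r * sLift C x (vec (uC j)) * r⁻¹ ∈ C.uSub ∧ v (r * sLift C x (vec (uC j)) * r⁻¹) = vec (uC j) := by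
    have h1 := (inferInstance : Q.Normal).conj_mem _ hsU.1 r
    have h2 : v (r * sLift C x (vec (uC j)) * r⁻¹) = vec (uC j) := by
      rw [C.vconj r _ hsU.1, (C.ker r).mpr hr, hsv]; rfl
    exact ⟨⟨h1, by rw [h2, code_uC hj]; exact (uC_mem hj).1⟩, h2⟩
  have ea : r * ev C x kb (128 * fb + j) * r⁻¹ = ev C x kb q * (r * sLift C x (vec (uC j)) * r⁻¹) := by
    rw [(F.ev_low hj).1, ← hrot]; group
  rw [F.pN_self h0 hfb hj, ← F.conj_pair r]
  refine (F.pN_iff ?_ h0 hfb (Nat.xor_lt_two_pow (n := 6) hj hc) ?_ ?_).symm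
  · rw [ea]; exact mul_mem (F.ev_mem q) (C.uSub_le_aSub hru.1)
  · rw [ea, map_mul, (C.ker _).mpr hru.1.1, mul_one, q1]
  · rw [ea, ← mul_assoc, C.vmul _ q3 _ hru.1.1, q2, hru.2, uC_xor hj hc, vec_xor, add_comm]

/-- the normalising lifts -/
theorem Frame.exists_norm [Q.Normal] (F : Frame C x kb) (k : Fin 2) :
    ∃ m : CZ z, x * m = m * x ∧ colsOf (ρ m) = nC k ∧ ρ m ∈ KKp := by
  obtain ⟨c, hc, ec⟩ := nC_lift k
  obtain ⟨h, rfl⟩ := C.kkp_le hc
  obtain ⟨q, hq, e⟩ := C.lift_comm (by decide +kernel : el 2 ≠ 0) (by decide +kernel : el 2 ≠ 1) F.hx3 F.hx h hc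
  have he : ρ (q * h) = ρ h := by rw [map_mul, (C.ker q).mpr hq, one_mul]
  exact ⟨q * h, e, he ▸ ec, he ▸ hc⟩

/-- the action of a normalising lift on the parts -/
theorem Frame.norm_parts [Q.Normal] (F : Frame C x kb) {k : Fin 2} {m : CZ z} (hm : x * m = m * x)
    (em : colsOf (ρ m) = nC k) (hmK : ρ m ∈ KKp) {fb j : ℕ} (hfb : fb < 16) (hj : j < 64) :
    m * ev C x kb (128 * fb + j) * m⁻¹ ∈ C.aSub ∧
      colsOf (ρ (m * ev C x kb (128 * fb + j) * m⁻¹)) = fC (lOf k fb) ∧
      v ((kLift C kb (lOf k fb))⁻¹ * (m * ev C x kb (128 * fb + j) * m⁻¹)) = vec (uC (mOf k j)) := by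
  obtain ⟨hL, -, hcomp, hM, hMe⟩ := lm_entry k hfb hj
  obtain ⟨hkx, ek, mk⟩ := F.kLift_spec hfb
  obtain ⟨hkx', ek', mk'⟩ := F.kLift_spec hL
  have hf : ρ (m * kLift C kb fb * m⁻¹) = ρ (kLift C kb (lOf k fb)) := by
    rw [map_mul, map_mul, map_inv, mul_inv_eq_iff_eq_mul]
    refine cols_inj (add_mul' (kkp_addPerm hmK) (sylP_listed (e1_le mk)).1)
      (add_mul' (sylP_listed (e1_le mk')).1 (kkp_addPerm hmK)) ?_
    rw [cols_mul (kkp_addPerm hmK), cols_mul (sylP_listed (e1_le mk')).1, em, ek, ek']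
    exact hcomp
  have hkA : m * kLift C kb fb * m⁻¹ ∈ C.aSub :=
    F.lift_mem (((show Commute x m from hm).mul_right hkx).mul_right (show Commute x m from hm).inv_right)
      (hf ▸ mk')
  set d := (kLift C kb (lOf k fb))⁻¹ * (m * kLift C kb fb * m⁻¹) with hd
  have hdQ : d ∈ Q := (C.ker d).mp (by rw [hd, map_mul, map_inv, hf, inv_mul_cancel])
  have hdv : v d = 0 := (C.vzero d hdQ).mpr (C.q_meet (by decide +kernel : el 2 ≠ 1) F.hx hdQ
    ((show Commute x _ from hkx').inv_right.mul_right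
      (((show Commute x m from hm).mul_right hkx).mul_right (show Commute x m from hm).inv_right)))
  obtain ⟨hsU, hsv⟩ := C.sLift_spec F.hx (u := vec (uC j)) (by rw [code_uC hj]; exact (uC_mem hj).1)
  have hsm := (inferInstance : Q.Normal).conj_mem _ hsU.1 m
  have hsmv : v (m * sLift C x (vec (uC j)) * m⁻¹) = vec (uC (mOf k j)) := by
    rw [C.vconj m _ hsU.1, hsv, ← hMe, ← em, ← code_uC hj, ← cols_apply (kkp_addPerm hmK), vec_code, vec_code]
  have ea : m * ev C x kb (128 * fb + j) * m⁻¹ =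
      m * kLift C kb fb * m⁻¹ * (m * sLift C x (vec (uC j)) * m⁻¹) := by
    rw [(F.ev_low hj).1]; group
  refine ⟨?_, ?_, ?_⟩
  · rw [ea]; exact mul_mem hkA (C.uSub_le_aSub ⟨hsm, by rw [hsmv, code_uC hM]; exact (uC_mem hM).1⟩)
  · rw [ea, map_mul, (C.ker _).mpr hsm, mul_one, hf, ek']
  · rw [ea, ← mul_assoc, ← hd, C.vmul _ hdQ _ hsm, hdv, zero_add, hsmv]

theorem Frame.pN_norm [Q.Normal] (F : Frame C x kb) (k : Fin 2) {fb j : ℕ} (h0 : fb ≠ 0) (hfb : fb < 16)
    (hj : j < 64) : F.pN fb j ↔ F.pN (lOf k fb) (mOf k j) := by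
  obtain ⟨hL, hL0, -, hM, -⟩ := lm_entry k hfb hj
  obtain ⟨m, hm, em, hmK⟩ := F.exists_norm k
  obtain ⟨h1, h2, h3⟩ := F.norm_parts hm em hmK hfb hj
  rw [F.pN_self h0 hfb hj, ← F.conj_pair m]
  exact (F.pN_iff h1 (hL0 h0) hL hM h2 h3).symm

theorem Frame.pN_class [Q.Normal] (F : Frame C x kb) {fb j : ℕ} (h0 : fb ≠ 0) (hfb : fb < 16) (hj : j < 64) :
    F.pN fb j ↔ (if repOf fb j = 0 then F.pN 1 0 else F.pN 1 4) := by
  have hrep : ∀ {fb j : ℕ}, fb ≠ 0 → fb < 16 → j < 64 → (F.pN fb j ↔ F.pN fb (repOf fb j)) :=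
    fun {fb j} h0 hfb hj => by
      obtain ⟨⟨e, he, hre⟩, -, -⟩ := rep_entry h0 hfb hj
      rw [hre]; exact F.pN_shift h0 hfb hj he
  have key : ∀ i, i < 60 → ∀ q, q = clTree.getD i (0, 0, 0, 0) →
      (F.pN q.1 q.2.1 ↔ (if q.2.1 = 0 then F.pN 1 0 else F.pN 1 4)) := by
    intro i
    induction i using Nat.strong_induction_on with
    | _ i ih =>
      intro hi q hq
      subst hq
      have h := List.all_eq_true.mp tree_cl.2.2.2 i (List.mem_range.mpr hi)
      simp only [Bool.and_eq_true, Bool.or_eq_true, Nat.blt_eq] at h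
      obtain ⟨⟨⟨hq0, hq16⟩, hr⟩, h | ⟨⟨⟨⟨hk, hp⟩, hl⟩, hr'⟩, hz⟩⟩ := h
      · rcases (show i = 0 ∨ i = 1 by omega) with rfl | rfl
        · rw [tree_cl.2.1]; simp
        · rw [tree_cl.2.2.1]; simp
      · have hP := List.all_eq_true.mp tree_cl.2.2.2 (clTree.getD i (0, 0, 0, 0)).2.2.2
          (List.mem_range.mpr (by omega))
        simp only [Bool.and_eq_true, Nat.blt_eq] at hP
        obtain ⟨⟨⟨hp0, hp16⟩, hpr⟩, -⟩ := hP
        have hih := ih _ hp (by omega) _ rfl
        generalize clTree.getD (clTree.getD i (0, 0, 0, 0)).2.2.2 (0, 0, 0, 0) = P at hl hr' hz hp0 hp16 hpr hih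
        generalize clTree.getD i (0, 0, 0, 0) = q at hq0 hq16 hr hk hl hr' hz
        have hp0' : P.1 ≠ 0 := by omega
        obtain ⟨hLlt, -, -, hMlt, -⟩ := lm_entry ⟨q.2.2.1, hk⟩ hp16 hpr
        rw [F.pN_norm ⟨q.2.2.1, hk⟩ hp0' hp16 hpr, Nat.eq_of_beq_eq_true hl,
          hrep (by omega) hq16 hMlt, Nat.eq_of_beq_eq_true hr'] at hih
        rw [hih]
        have hz' : q.2.1 = 0 ↔ P.2.1 = 0 := by
          have e := beq_iff_eq.mp hz
          exact ⟨fun h => Nat.eq_of_beq_eq_true (by rw [← e, h]; rfl),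
            fun h => Nat.eq_of_beq_eq_true (by rw [e, h]; rfl)⟩
        simp only [hz']
  obtain ⟨-, -, q, hq, eq1, eq2⟩ := rep_entry h0 hfb hj
  obtain ⟨i, hi, rfl⟩ := List.getElem_of_mem hq
  have h := key i (hi.trans_eq tree_cl.1) _ (List.getD_eq_getElem clTree (0, 0, 0, 0) hi).symm
  rw [eq1, eq2] at h
  rw [hrep h0 hfb hj]
  exact h

/-- the size of the second class -/
theorem Frame.nz_count [Q.Normal] (F : Frame C x kb) (hex : ∃ g : G, g * z * g⁻¹ ∈ QG Q ∧ g * z * g⁻¹ ≠ z) :
    ∃ a b : Bool, (F.pN 1 0 ↔ a = true) ∧ (F.pN 1 4 ↔ b = true) ∧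
      Nat.card {n : Fin 2048 // F.Nz n} = 36 + (bif a then 240 else 0) + (bif b then 720 else 0) := by
  classical
  refine ⟨decide (F.pN 1 0), decide (F.pN 1 4), decide_eq_true_iff.symm, decide_eq_true_iff.symm, ?_⟩
  set a := decide (F.pN 1 0) with ha
  set b := decide (F.pN 1 4) with hb
  let key : ℕ → ℕ := fun n => if n < 128 then n else 128 * (n / 128) + n % 64
  have hkey : ∀ n, n < 2048 → F.Nz n → keyP a b (key n) = true ∧ key n < 2048 := by
    intro n hn h
    by_cases hlo : n < 128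
    · obtain ⟨h1, h2⟩ := (F.nz_low hex hlo).mp h
      simp only [key, if_pos hlo, keyP, Nat.blt_eq.mpr hlo, cond_true]
      exact ⟨by rw [Bool.and_eq_true, Bool.not_eq_true', decide_eq_true_eq, Bool.eq_false_iff]
                exact ⟨fun e => h1 (Nat.eq_of_beq_eq_true e), h2⟩, hn⟩
    · have hp : F.pN (n / 128) (n % 64) := by
        rcases split_coord hn with ⟨e, -⟩ | ⟨e, -⟩
        · exact Or.inl (e ▸ h)
        · exact Or.inr (e ▸ h)
      rw [F.pN_class (by omega) (by omega) (Nat.mod_lt _ (by norm_num))] at hp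
      simp only [key, if_neg hlo, keyP, show Nat.blt (128 * (n / 128) + n % 64) 128 = false from
        Bool.eq_false_iff.mpr fun e => by rw [Nat.blt_eq] at e; omega, cond_false,
        show (128 * (n / 128) + n % 64) / 64 % 2 = 0 by omega, Nat.beq_refl, Bool.true_and,
        show (128 * (n / 128) + n % 64) / 128 = n / 128 by omega,
        show (128 * (n / 128) + n % 64) % 64 = n % 64 by omega]
      refine ⟨?_, by omega⟩
      by_cases hr : repOf (n / 128) (n % 64) = 0
      · rw [if_pos hr] at hp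
        rw [hr, Nat.beq_refl, cond_true, ha]; exact decide_eq_true hp
      · rw [if_neg hr] at hp
        rw [show Nat.beq (repOf (n / 128) (n % 64)) 0 = false from
          Bool.eq_false_iff.mpr fun e => hr (Nat.eq_of_beq_eq_true e), cond_false, hb]
        exact decide_eq_true hp
  have hf : Function.Bijective (fun n : {n : Fin 2048 // F.Nz n} =>
      (⟨key (n.1 : ℕ), List.mem_toFinset.mpr (List.mem_filter.mpr
        ⟨List.mem_range.mpr (hkey n.1 n.1.2 n.2).2, (hkey n.1 n.1.2 n.2).1⟩)⟩ :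
          {m // m ∈ ((List.range 2048).filter (keyP a b)).toFinset})) := by
    constructor
    · rintro ⟨⟨n, hn⟩, h⟩ ⟨⟨m, hm⟩, h'⟩ e
      have e' : key n = key m := congrArg Subtype.val e
      refine Subtype.ext (Fin.ext ?_)
      show n = m
      simp only [key] at e'
      by_cases hn' : n < 128 <;> by_cases hm' : m < 128
      · simpa [hn', hm'] using e'
      · simp only [hn', hm', if_true, if_false] at e'; omega
      · simp only [hn', hm', if_true, if_false] at e'; omega
      · simp only [hn', hm', if_false] at e'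
        have hle := F.le_one hex (fb := n / 128) (j := n % 64) (by omega) (by omega) (by omega)
        rcases split_coord hn with ⟨e1, -⟩ | ⟨e1, -⟩ <;> rcases split_coord hm with ⟨e2, -⟩ | ⟨e2, -⟩
        · omega
        · exact absurd ⟨e1 ▸ h, by
            rw [show 128 * (n / 128) + 64 + n % 64 = m by omega]; exact h'⟩ hle
        · exact absurd ⟨by rw [show 128 * (n / 128) + n % 64 = m by omega]; exact h', e1 ▸ h⟩ hle
        · omega
    · rintro ⟨m, hm⟩
      obtain ⟨hm1, hm2⟩ := List.mem_filter.mp (List.mem_toFinset.mp hm)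
      rw [List.mem_range] at hm1
      simp only [keyP] at hm2
      by_cases hlo : m < 128
      · rw [Nat.blt_eq.mpr hlo, cond_true, Bool.and_eq_true, Bool.not_eq_true', decide_eq_true_eq,
          Bool.eq_false_iff] at hm2
        refine ⟨⟨⟨m, hm1⟩, (F.nz_low hex hlo).mpr ⟨fun e => hm2.1 (by rw [e]; rfl), hm2.2⟩⟩, Subtype.ext ?_⟩
        show key m = m
        simp [key, hlo]
      · rw [show Nat.blt m 128 = false from Bool.eq_false_iff.mpr fun e => hlo (Nat.blt_eq.mp e), cond_false,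
          Bool.and_eq_true] at hm2
        have hbit := Nat.eq_of_beq_eq_true hm2.1
        have hp : F.pN (m / 128) (m % 64) := by
          rw [F.pN_class (by omega) (by omega) (Nat.mod_lt _ (by norm_num))]
          by_cases hr : repOf (m / 128) (m % 64) = 0
          · rw [if_pos hr]
            have := hm2.2
            rw [hr, Nat.beq_refl, cond_true, ha] at this
            exact of_decide_eq_true this
          · rw [if_neg hr]
            have := hm2.2
            rw [show Nat.beq (repOf (m / 128) (m % 64)) 0 = false from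
              Bool.eq_false_iff.mpr fun e => hr (Nat.eq_of_beq_eq_true e), cond_false, hb] at this
            exact of_decide_eq_true this
        rcases hp with h | h
        · refine ⟨⟨⟨128 * (m / 128) + m % 64, by omega⟩, h⟩, Subtype.ext ?_⟩
          show key (128 * (m / 128) + m % 64) = m
          simp only [key]
          rw [if_neg (by omega)]; omega
        · refine ⟨⟨⟨128 * (m / 128) + 64 + m % 64, by omega⟩, h⟩, Subtype.ext ?_⟩
          show key (128 * (m / 128) + 64 + m % 64) = m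
          simp only [key]
          rw [if_neg (by omega)]; omega
  rw [Nat.card_eq_of_bijective _ hf, Nat.card_eq_finsetCard, List.toFinset_card_of_nodup
    (List.nodup_range.filter _), ← List.countP_eq_length_filter, key_count]

/-- lifts in the second class can be chosen -/
theorem Frame.exists_good [Q.Normal] (F : Frame C x kb) (ha : F.pN 1 0) :
    ∃ kb' : Fin 4 → CZ z, ∃ F' : Frame C x kb', ∀ i : Fin 4, F'.Nz (128 * 2 ^ (i : ℕ)) := by
  classical
  have hpn : ∀ i : Fin 4, ¬ IsConj z (kb i : G) ∨ ¬ IsConj z ((kb i * zc C : CZ z) : G) := by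
    intro i
    have hfb : 2 ^ (i : ℕ) < 16 := Nat.pow_lt_pow_right (by norm_num : 1 < 2) i.2
    have h0 : 2 ^ (i : ℕ) ≠ 0 := by positivity
    have hr : repOf (2 ^ (i : ℕ)) 0 = 0 := by
      have h : ∀ i : Fin 4, repOf (2 ^ (i : ℕ)) 0 = 0 := by decide +kernel
      exact h i
    have h := (F.pN_class h0 hfb (j := 0) (by norm_num)).mpr (by rw [if_pos hr]; exact ha)
    rw [F.pN_self h0 hfb (by norm_num), Nat.add_zero, F.ev_top, C.kLift_two] at h
    exact h
  let kb' : Fin 4 → CZ z := fun i => if IsConj z (kb i : G) then kb i * zc C else kb i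
  have hzx : Commute x (zc C) := C.zc_comm x
  have hkb : ∀ i, kb' i = kb i ∨ kb' i = kb i * zc C := fun i => by
    simp only [kb']; split_ifs <;> simp
  have F' : Frame C x kb' := by
    refine ⟨F.hx3, F.hx, fun i => ?_, fun i => ?_⟩
    · rcases hkb i with e | e <;> rw [e]
      · exact F.comm i
      · exact (show Commute x (kb i) from F.comm i).mul_right hzx
    · rcases hkb i with e | e <;> rw [e]
      · exact F.cols i
      · rw [map_mul, (C.ker (zc C)).mpr C.zc_mem, mul_one]; exact F.cols i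
  refine ⟨kb', F', fun i => ⟨by positivity, ?_⟩⟩
  rw [F'.ev_top, C.kLift_two]
  simp only [kb']
  split_ifs with h
  · exact (hpn i).resolve_left (not_not.mpr h)
  · exact h

/-- the second class is a mask given by signs kept by the normalising lifts -/
theorem Frame.exists_sign [Q.Normal] (F : Frame C x kb) (hex : ∃ g : G, g * z * g⁻¹ ∈ QG Q ∧ g * z * g⁻¹ ≠ z)
    (ha : F.pN 1 0) (hb : ¬ F.pN 1 4) (hbase : ∀ i : Fin 4, F.Nz (128 * 2 ^ (i : ℕ))) :
    ∃ s, s < 2048 ∧ eqvS s = true ∧ ∀ n, n < 2048 → (F.Nz n ↔ maskP s n = true) := by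
  classical
  let σ : ℕ → Bool := fun fb => decide (F.Nz (128 * fb + 64))
  obtain ⟨s, hs, hσ⟩ : ∃ s, s < 2048 ∧ ∀ fb, fb ≠ 0 → fb < 16 → sOf s fb = σ fb := by
    let L : List ℕ := [3, 5, 6, 7, 9, 10, 11, 12, 13, 14, 15]
    have hbits : ∀ (n : ℕ) (g : ℕ → Bool), ∃ s, s < 2 ^ n ∧ ∀ i, s.testBit i = (decide (i < n) && g i) := by
      intro n
      induction n with
      | zero => exact fun g => ⟨0, by norm_num, fun i => by simp⟩
      | succ n ih =>
        intro g
        obtain ⟨s, hs, hsb⟩ := ih g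
        refine ⟨s ||| (bif g n then 2 ^ n else 0), ?_, fun i => ?_⟩
        · refine Nat.or_lt_two_pow (hs.trans_le (Nat.pow_le_pow_right two_pos n.le_succ)) ?_
          cases g n <;> simp [Nat.pow_lt_pow_right]
        · rw [Nat.testBit_or, hsb]
          rcases lt_trichotomy i n with h | rfl | h
          · cases g n <;> simp [h, Nat.testBit_two_pow, (Nat.ne_of_lt h).symm, show i < n + 1 by omega]
          · cases hg : g i <;> simp [hg, Nat.testBit_two_pow]
          · cases g n <;> simp [Nat.testBit_two_pow, Nat.ne_of_lt h, show ¬ i < n by omega, show ¬ i < n + 1 by omega]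
    obtain ⟨s, hs, hsb⟩ := hbits 11 fun i => σ (L.getD i 0)
    refine ⟨s, hs, fun fb h0 hfb => ?_⟩
    show s.testBit (L.findIdx (Nat.beq fb)) = σ fb
    rw [hsb]
    have hL : ∀ fb : Fin 16, (fb : ℕ) ≠ 0 →
        (L.findIdx (Nat.beq fb) < 11 ∧ L.getD (L.findIdx (Nat.beq fb)) 0 = fb) ∨
          (L.findIdx (Nat.beq fb) = 11 ∧ ∃ i : Fin 4, (fb : ℕ) = 2 ^ (i : ℕ)) := by decide +kernel
    rcases hL ⟨fb, hfb⟩ h0 with ⟨h1, h2⟩ | ⟨h1, i, hi⟩
    · rw [decide_eq_true h1, Bool.true_and]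
      exact congrArg σ h2
    · rw [show L.findIdx (Nat.beq fb) = 11 from h1, decide_eq_false (lt_irrefl 11), Bool.false_and]
      symm
      simp only [σ, decide_eq_false_iff_not]
      intro h
      exact F.le_one hex h0 hfb (j := 0) (by norm_num) ⟨by
        rw [Nat.add_zero, show fb = 2 ^ (i : ℕ) from hi]; exact hbase i, by rwa [Nat.add_zero]⟩
  -- the chosen element over each top part
  let d : ℕ → CZ z := fun fb => ev C x kb (128 * fb + (bif σ fb then 64 else 0))
  have hd : ∀ fb, fb ≠ 0 → fb < 16 → F.Nz (128 * fb + (bif σ fb then 64 else 0)) := by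
    intro fb h0 hfb
    have hr : ∀ fb : Fin 15, repOf ((fb : ℕ) + 1) 0 = 0 := by decide +kernel
    obtain ⟨i, rfl⟩ : ∃ i, fb = i + 1 := ⟨fb - 1, by omega⟩
    have h := (F.pN_class h0 hfb (j := 0) (by norm_num)).mpr (by rw [if_pos (hr ⟨i, by omega⟩)]; exact ha)
    simp only [Frame.pN, Nat.add_zero] at h
    by_cases hN : F.Nz (128 * (i + 1) + 64)
    · rw [show σ (i + 1) = true from decide_eq_true hN, cond_true]; exact hN
    · rw [show σ (i + 1) = false from decide_eq_false hN, cond_false, Nat.add_zero]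
      exact h.resolve_right hN
  have hentry : ∀ fb, fb ≠ 0 → fb < 16 → ∀ e ∈ comOf fb,
      F.Nz (128 * fb + (bif (σ fb ^^ Nat.beq e.2.2 1) then 64 else 0) + e.1) := by
    intro fb h0 hfb e he
    obtain ⟨hc, hp, ec, hfl⟩ := com_entry h0 hfb he
    obtain ⟨r, hr, er⟩ := C.vsurj (vec e.2.1)
    have hrot := F.rot hfb hr hc er (by rw [show code (vec e.2.1) = e.2.1 from USixUFour.code_vec ⟨_, hp⟩]; exact ec)
    rw [hfl] at hrot
    have hd0 := (hd fb h0 hfb).2
    rw [← C.isConj_conj_iff r] at hd0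
    refine ⟨by omega, fun h => hd0 ?_⟩
    have hlow : ∀ b : Bool, ∀ j < 64, ev C x kb (128 * fb + (bif b then 64 else 0) + j) =
        ev C x kb (128 * fb + j) * (bif b then zc C else 1) := by
      intro b j hj
      cases b
      · rw [cond_false, cond_false, Nat.add_zero, mul_one]
      · rw [cond_true, cond_true, (F.ev_low hj).2]
    have h2 := hlow (σ fb) 0 (by norm_num)
    rw [Nat.add_zero, Nat.add_zero, F.ev_top] at h2
    have h3 : r * (bif σ fb then zc C else 1) * r⁻¹ = (bif σ fb then zc C else 1) := by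
      cases σ fb
      · rw [cond_false, mul_one, mul_inv_cancel]
      · rw [cond_true, C.zc_comm, mul_inv_cancel_right]
    rw [h2, show r * (kLift C kb fb * (bif σ fb then zc C else 1)) * r⁻¹ =
      (r * kLift C kb fb * r⁻¹) * (r * (bif σ fb then zc C else 1) * r⁻¹) by group, hrot, h3,
      hlow _ _ hc]
    rw [hlow _ _ hc] at h
    convert h using 2
    rw [mul_assoc]
    congr 1
    cases σ fb <;> cases Nat.beq e.2.2 1 <;> simp [C.zc_sq]
  refine ⟨s, hs, ?_, fun n hn => ?_⟩
  · -- equivariance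
    rw [eqvS, List.all_eq_true]
    intro k hk
    rw [List.all_eq_true]
    intro fb hfb
    rw [List.mem_range] at hk hfb
    by_cases h0 : fb = 0
    · subst h0; rfl
    rw [Bool.or_eq_true, beq_iff_eq]
    refine Or.inr ?_
    obtain ⟨m, hm, em, hmK⟩ := F.exists_norm ⟨k, hk⟩
    let τ : ℕ → Bool := fun a => if a = 0 then false else sOf s (lOf k a) ^^ sOf s a
    have hτ : ∀ a < 16, ∃ t, t = 128 * lOf k a + (bif τ a then 64 else 0) ∧ lOf k a < 16 ∧
        m * kLift C kb a * m⁻¹ = ev C x kb t := by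
      intro a ha'
      obtain ⟨hL, hL0, -, -, -⟩ := lm_entry ⟨k, hk⟩ ha' (j := 0) (by norm_num)
      refine ⟨_, rfl, hL, ?_⟩
      have hM0 : mOf k 0 = 0 := by
        have h : ∀ k : Fin 2, mOf k 0 = 0 := by decide +kernel
        exact h ⟨k, hk⟩
      obtain ⟨q1, q2, q3⟩ := F.norm_parts hm em hmK ha' (j := 0) (by norm_num)
      rw [Nat.add_zero, F.ev_top] at q1 q2 q3
      rw [show mOf ((⟨k, hk⟩ : Fin 2) : ℕ) 0 = 0 from hM0] at q3
      by_cases h00 : a = 0
      · subst h00
        rw [show kLift C kb 0 = 1 from evG_zero _, mul_one, mul_inv_cancel, show τ 0 = false from rfl, cond_false,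
          Nat.add_zero, show lOf k 0 = 0 from by
            have h : ∀ k : Fin 2, lOf k 0 = 0 := by decide +kernel
            exact h ⟨k, hk⟩, Nat.mul_zero, F.ev_zero]
      have hσa := hσ a h00 ha'
      have hσL := hσ (lOf k a) (hL0 h00) hL
      have hd1 : ∀ b : Bool, ∀ a', ev C x kb (128 * a' + (bif b then 64 else 0)) =
          kLift C kb a' * (bif b then zc C else 1) := by
        intro b a'
        cases b
        · rw [cond_false, cond_false, Nat.add_zero, F.ev_top, mul_one]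
        · have := (F.ev_low (fb := a') (j := 0) (by norm_num)).2
          simp only [Nat.add_zero] at this
          rw [F.ev_top] at this
          rw [cond_true, cond_true, this]
      have hz2 : ∀ b : Bool, m * (bif b then zc C else 1) * m⁻¹ = (bif b then zc C else 1) := by
        intro b
        cases b
        · rw [cond_false, mul_one, mul_inv_cancel]
        · rw [cond_true, C.zc_comm, mul_inv_cancel_right]
      -- the image of the chosen element is the chosen element
      have himg : m * d a * m⁻¹ = d (lOf k a) := by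
        have hna := (hd a h00 ha').2
        rw [← C.isConj_conj_iff m] at hna
        have hsplit : m * d a * m⁻¹ = m * kLift C kb a * m⁻¹ * (bif σ a then zc C else 1) := by
          simp only [d, hd1]
          rw [show m * (kLift C kb a * (bif σ a then zc C else 1)) * m⁻¹ =
            m * kLift C kb a * m⁻¹ * (m * (bif σ a then zc C else 1) * m⁻¹) by group, hz2]
        have hA : m * d a * m⁻¹ ∈ C.aSub := by
          rw [hsplit]
          refine mul_mem q1 ?_
          cases σ a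
          · exact one_mem _
          · exact C.uSub_le_aSub ⟨C.zc_mem, by rw [cond_true, C.zc_v]; exact uList_zero⟩
        have hzq : ∀ b : Bool, (bif b then zc C else 1) ∈ Q ∧ v (bif b then zc C else 1) = 0 := by
          intro b; cases b
          · exact ⟨one_mem _, C.v_one⟩
          · exact ⟨C.zc_mem, C.zc_v⟩
        rcases F.ev_of hA hL (j := 0) (by norm_num) (by
          rw [hsplit, map_mul, (C.ker _).mpr (hzq _).1, mul_one]; exact q2) (by
          rw [hsplit, ← mul_assoc, C.vmul _ ?_ _ (hzq _).1, q3, (hzq _).2, add_zero]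
          exact (C.ker _).mp (by
            rw [map_mul, map_inv, cols_inj (sylP_listed (e1_le (F.kLift_spec hL).2.2)).1 (sylP_listed (e1_le q1.1)).1
              ((F.kLift_spec hL).2.1.trans q2.symm), inv_mul_cancel])) with e | e
        · rw [e, Nat.add_zero]
          have hN : F.Nz (128 * lOf k a) := ⟨Nat.mul_ne_zero (by norm_num) (hL0 h00), fun h => hna (by
            show IsConj z ((m * d a * m⁻¹ : CZ z) : G)
            rw [e, Nat.add_zero]; exact h)⟩
          have hσ0 : σ (lOf k a) = false := decide_eq_false fun h =>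
            F.le_one hex (hL0 h00) hL (j := 0) (by norm_num) ⟨by rwa [Nat.add_zero], by rwa [Nat.add_zero]⟩
          simp only [d, hσ0, cond_false, Nat.add_zero]
        · rw [e, Nat.add_zero]
          have hN : F.Nz (128 * lOf k a + 64) := ⟨by omega, fun h => hna (by
            show IsConj z ((m * d a * m⁻¹ : CZ z) : G)
            rw [e, Nat.add_zero]; exact h)⟩
          simp only [d, show σ (lOf k a) = true from decide_eq_true hN, cond_true]
      simp only [d, hd1] at himg
      rw [show m * (kLift C kb a * (bif σ a then zc C else 1)) * m⁻¹ =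
        m * kLift C kb a * m⁻¹ * (m * (bif σ a then zc C else 1) * m⁻¹) by group, hz2] at himg
      rw [hd1, show τ a = (σ (lOf k a) ^^ σ a) by simp only [τ, if_neg h00, hσa, hσL]]
      have h := eq_mul_inv_of_mul_eq himg
      rw [h, mul_assoc]
      congr 1
      cases σ a <;> cases σ (lOf k a) <;> simp [inv_eq_of_mul_eq_one_right C.zc_sq, C.zc_sq]
    have hadd : ∀ a < 16, ∀ b < 16, τ (a ^^^ b) = (τ a ^^ τ b) := by
      intro a ha' b hb'
      have hab : a ^^^ b < 16 := Nat.xor_lt_two_pow (n := 4) ha' hb'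
      obtain ⟨t1, e1, l1, h1⟩ := hτ a ha'
      obtain ⟨t2, e2, l2, h2⟩ := hτ b hb'
      obtain ⟨t3, e3, l3, h3⟩ := hτ _ hab
      have hlt : ∀ (l : ℕ) (c : Bool), l < 16 → 128 * l + (bif c then 64 else 0) < 2048 := fun l c hl => by
        cases c <;> simp <;> omega
      have h := h3
      rw [F.kLift_xor, show m * (kLift C kb a * kLift C kb b) * m⁻¹ =
        (m * kLift C kb a * m⁻¹) * (m * kLift C kb b * m⁻¹) by group, h1, h2, ← F.ev_xor] at h
      have := F.ev_inj (Nat.xor_lt_two_pow (n := 11) (e1 ▸ hlt _ _ l1) (e2 ▸ hlt _ _ l2)) (e3 ▸ hlt _ _ l3) h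
      have hb6 : ∀ (l : ℕ) (c : Bool), (128 * l + (bif c then 64 else 0)).testBit 6 = c := by
        intro l c
        rw [Nat.testBit_eq_decide_div_mod_eq]
        cases c <;> simp <;> omega
      have h6 := congrArg (fun t => Nat.testBit t 6) this
      simp only [Nat.testBit_xor, e1, e2, e3, hb6] at h6
      exact h6.symm
    obtain ⟨hfold, -⟩ := foldr_bits τ hadd ((List.range 4).filter fun i => fb.testBit i)
      (fun i hi => List.mem_range.mp (List.mem_filter.mp hi).1) (sOf s fb)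
    have hfb' := bits_fold ⟨fb, hfb⟩
    simp only [] at hfb'
    replace hfold := hfold.trans (congrArg (fun t => (τ t ^^ sOf s fb)) hfb')
    have hbase' : ∀ i ∈ (List.range 4).filter (fun i => fb.testBit i), sOf s (lOf k (2 ^ i)) = τ (2 ^ i) := by
      intro i hi
      have hi4 := List.mem_range.mp (List.mem_filter.mp hi).1
      have h2 : sOf s (2 ^ i) = false := by
        rw [hσ _ (by positivity) (Nat.pow_lt_pow_right (by norm_num : 1 < 2) hi4)]
        refine decide_eq_false fun h => F.le_one hex (fb := 2 ^ i) (by positivity)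
          (Nat.pow_lt_pow_right (by norm_num : 1 < 2) hi4) (j := 0) (by norm_num) ⟨?_, by rwa [Nat.add_zero]⟩
        rw [Nat.add_zero]; exact hbase ⟨i, hi4⟩
      simp only [τ, if_neg (show (2 : ℕ) ^ i ≠ 0 by positivity), h2, Bool.xor_false]
    have hcongr : ∀ (l : List ℕ), (∀ i ∈ l, sOf s (lOf k (2 ^ i)) = τ (2 ^ i)) → ∀ c : Bool,
        l.foldr (fun i b => sOf s (lOf k (2 ^ i)) ^^ b) c = l.foldr (fun i b => τ (2 ^ i) ^^ b) c := by
      intro l
      induction l with
      | nil => intros; rfl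
      | cons i l ih =>
        intro hl c
        simp only [List.foldr_cons, hl i List.mem_cons_self, ih (fun x hx => hl x (List.mem_cons_of_mem _ hx))]
    rw [hcongr _ hbase', hfold]
    simp only [τ, if_neg h0]
    cases sOf s fb <;> simp
  · by_cases hlo : n < 128
    · rw [F.nz_low hex hlo, maskP, Nat.blt_eq.mpr hlo, cond_true, Bool.and_eq_true, Bool.not_eq_true',
        decide_eq_true_eq, Bool.eq_false_iff]
      exact and_congr_left fun _ => ⟨fun h e => h (Nat.eq_of_beq_eq_true e), fun h e => h (by rw [e]; rfl)⟩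
    · have hfb0 : n / 128 ≠ 0 := by omega
      have hfb : n / 128 < 16 := by omega
      rw [maskP, show Nat.blt n 128 = false from Bool.eq_false_iff.mpr fun e => hlo (Nat.blt_eq.mp e), cond_false,
        List.any_eq_true]
      constructor
      · intro h
        have hp : F.pN (n / 128) (n % 64) := by
          rcases split_coord hn with ⟨e, -⟩ | ⟨e, -⟩
          · exact Or.inl (e ▸ h)
          · exact Or.inr (e ▸ h)
        rw [F.pN_class hfb0 hfb (Nat.mod_lt _ (by norm_num))] at hp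
        obtain ⟨e, he, hje⟩ := (rep_entry hfb0 hfb (j := n % 64) (Nat.mod_lt _ (by norm_num))).2.1
          (by by_contra hr; rw [if_neg hr] at hp; exact hb hp)
        refine ⟨e, he, ?_⟩
        have hN := hentry _ hfb0 hfb e he
        rw [Bool.and_eq_true, beq_iff_eq, hσ _ hfb0 hfb]
        refine ⟨by rw [hje]; exact Nat.beq_refl _, ?_⟩
        rcases split_coord hn with ⟨e1, -⟩ | ⟨e1, -⟩
        · rw [show n / 64 % 2 = 0 by omega]
          cases hc : σ (n / 128) ^^ Nat.beq e.2.2 1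
          · rfl
          · exfalso
            rw [hc, cond_true, ← hje] at hN
            exact F.le_one hex hfb0 hfb (Nat.mod_lt _ (by norm_num)) ⟨e1 ▸ h, hN⟩
        · rw [show n / 64 % 2 = 1 by omega]
          cases hc : σ (n / 128) ^^ Nat.beq e.2.2 1
          · exfalso
            rw [hc, cond_false, Nat.add_zero, ← hje] at hN
            exact F.le_one hex hfb0 hfb (Nat.mod_lt _ (by norm_num)) ⟨hN, e1 ▸ h⟩
          · rfl
      · rintro ⟨e, he, h⟩
        rw [Bool.and_eq_true, beq_iff_eq, hσ _ hfb0 hfb] at h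
        have hN := hentry _ hfb0 hfb e he
        rw [← Nat.eq_of_beq_eq_true h.1, ← h.2] at hN
        rcases split_coord hn with ⟨e1, -⟩ | ⟨e1, -⟩
        · rw [show n / 64 % 2 = 0 by omega, show ((0 : ℕ) == 1) = false from rfl, cond_false, Nat.add_zero] at hN
          exact e1 ▸ hN
        · rw [show n / 64 % 2 = 1 by omega, show ((1 : ℕ) == 1) = true from rfl, cond_true] at hN
          exact e1 ▸ hN

end Co

end CfsgLib.LargeFischer
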