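import Cfsg.Agent.Lib.LargeFischer.FusionClasses

/-!
Of two elements differing by the central involution, one is conjugate to it.
-/

set_option autoImplicit false
set_option maxRecDepth 100000
set_option linter.style.haveILetI false

namespace CfsgLib.LargeFischer

open CfsgLib.Extraspecial
open CfsgLib.Fi22USix (V6 code vec vec_code hval nrm)
open CfsgLib.USixUFour (InP isOff)

theorem shift_s0 : (List.range 4096).all (fun c =>
    bif decide (InP 0 (vec c)) && decide (InP 0 (vec c + s0)) then inW (vec c) else true) = true := by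
  decide +kernel

namespace Co

variable {G : Type*} [Group G] [Finite G] {z : G} {Q : Subgroup (CZ z)} {v : CZ z → V6}
  {ρ : CZ z →* Equiv.Perm V6} (C : Co z Q v ρ 2)
include C

theorem aSub_facts [Q.Normal] : (∀ a ∈ C.aSub, a * a = 1) ∧ Nat.card C.aSub = 2 ^ 11 := by
  obtain ⟨A, rfl, -, h2, h11, -⟩ := C.exists_largest rfl (T := sylP.comap ρ) rfl
  exact ⟨h2, h11⟩

theorem aSub_sq [Q.Normal] {a : CZ z} (ha : a ∈ C.aSub) : a * a = 1 := C.aSub_facts.1 a ha

theorem aSub_comm [Q.Normal] {a b : CZ z} (ha : a ∈ C.aSub) (hb : b ∈ C.aSub) : a * b = b * a := by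
  have hinv : ∀ r ∈ C.aSub, r⁻¹ = r := fun r hr => inv_eq_of_mul_eq_one_right (C.aSub_sq hr)
  calc a * b = (a * b)⁻¹ := (hinv _ (mul_mem ha hb)).symm
    _ = b * a := by rw [mul_inv_rev, hinv a ha, hinv b hb]

/-- conjugation inside the centraliser keeps the class -/
theorem isConj_conj_iff (h a : CZ z) : IsConj z ((h * a * h⁻¹ : CZ z) : G) ↔ IsConj z (a : G) := by
  have : IsConj (a : G) ((h * a * h⁻¹ : CZ z) : G) := isConj_iff.mpr ⟨h, by simp⟩
  exact ⟨fun e => e.trans this.symm, fun e => e.trans this⟩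

/-- one of two elements of a trace differing by the central involution is conjugate to it -/
theorem ph_or [Q.Normal] {g : G} {t b : CZ z} (c : Pair (QG Q) z g) (ht : t ∈ Q) (et : (t : G) = g * z * g⁻¹)
    (hvt : v t = s0) (hb : b ∈ PH Q g) (hbQ : b ∉ Q) (hb2 : b * b = 1) :
    IsConj z (b : G) ∨ IsConj z ((b : G) * z) := by
  by_contra hh
  push Not at hh
  obtain ⟨n, hn, hσ⟩ := c.exists_perm (Equiv.swap 0 1)
  have hsp := c.permHom_spec ⟨n, c.X_le_normalizer hn⟩
  have hnz : n * z * n⁻¹ = (t : G) := by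
    have h := hsp 0
    rw [hσ, Equiv.swap_apply_left] at h
    exact h.symm.trans et.symm
  have hnt : n * t * n⁻¹ = z := by
    have h := hsp 1
    rw [hσ, Equiv.swap_apply_right] at h
    rw [et]; exact h.symm
  have hQn : (QG Q).map (MulAut.conj n).toMonoidHom = (QG Q).map (MulAut.conj g).toMonoidHom :=
    C.st.map_eq (hnz.trans et)
  have hz : Commute (b : G) z := Subgroup.mem_centralizer_singleton_iff.mp b.2
  have htb : Commute (b : G) t := congrArg Subtype.val (ph_comm c.s' et hb)
  have hqQ : n * (b : G) * n⁻¹ ∈ QG Q := by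
    obtain ⟨d, hd, ed⟩ := hb.1
    have h1 : ((QG Q).map (MulAut.conj (n * g)).toMonoidHom) = QG Q := by
      refine C.st.map_eq_of_mem (C.st.cz (Subgroup.mem_centralizer_singleton_iff.mpr ?_))
      refine mul_inv_eq_iff_eq_mul.mp ?_
      calc n * g * z * (n * g)⁻¹ = n * (g * z * g⁻¹) * n⁻¹ := by group
        _ = z := by rw [← et]; exact hnt
    rw [← h1, show (b : G) = g * d * g⁻¹ from ed.symm]
    exact ⟨d, hd, by simp [mul_assoc]⟩
  obtain ⟨q, hq, eq⟩ := hqQ
  have eq' : (q : G) = n * b * n⁻¹ := eq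
  have hqt : (t : G) * q = q * t := by
    have h := (Commute.conj_iff n).mpr hz
    rw [hnz] at h
    rw [eq']; exact h.symm
  have hq2 : (q : G) * q = 1 := by
    rw [eq']
    calc n * (b : G) * n⁻¹ * (n * b * n⁻¹) = n * ((b * b : CZ z) : G) * n⁻¹ := by
          rw [Subgroup.coe_mul]; group
      _ = 1 := by rw [hb2, Subgroup.coe_one]; group
  have ht2 : (t : G) * t = 1 := et ▸ c.s'.zz
  have hqc : ¬ IsConj z (q : G) := fun h => hh.1 (h.trans (isConj_iff.mpr ⟨n⁻¹, by rw [eq']; group⟩))
  have hqtc : ¬ IsConj z (((q * t : CZ z)) : G) := fun h => hh.2 (h.trans (isConj_iff.mpr ⟨n⁻¹, by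
    rw [Subgroup.coe_mul, eq', ← hnz]; group⟩))
  have hP1 : InP 0 (v q) := by
    refine (C.kinds hq hq2 (fun e => hbQ ?_) fun e => hqc (by rw [e])).resolve_right fun hoff => ?_
    · have : (b : G) = 1 := conj_eq_one_iff.mp (eq'.symm.trans e)
      rw [show b = 1 from Subtype.ext this]; exact one_mem Q
    · have hox : isOff (code (v t)) = true := by rw [hvt]; exact C.off_s0
      obtain ⟨h, eh⟩ := C.one_orbit ht hq hox hoff
      refine hqc (isConj_iff.mpr ⟨(h : G) * g, ?_⟩)
      rw [← show (h : G) * t * (h : G)⁻¹ = q from congrArg Subtype.val eh, et]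
      group
  have hP2 : InP 0 (v (q * t)) := by
    refine (C.kinds (mul_mem hq ht) ?_ (fun e => hbQ ?_) fun e => hqtc (by rw [e])).resolve_right
      fun hoff => ?_
    · rw [Subgroup.coe_mul]
      calc (q : G) * t * (q * t) = q * ((t : G) * q) * t := by simp only [mul_assoc]
        _ = 1 := by rw [hqt, ← mul_assoc, hq2, one_mul, ht2]
    · have h1 : (q : G) = t := by
        rw [Subgroup.coe_mul] at e
        exact (eq_inv_of_mul_eq_one_left e).trans (inv_eq_of_mul_eq_one_right ht2)
      obtain ⟨w, hw, ew⟩ := C.st.z_mem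
      have : (b : G) = w := by
        rw [show (w : G) = z from ew]
        have h2 : n * (b : G) * n⁻¹ = n * z * n⁻¹ := by rw [hnz, ← h1, eq']
        exact mul_left_cancel (mul_right_cancel h2)
      rw [show b = w from Subtype.ext this]; exact hw
    · have hox : isOff (code (v t)) = true := by rw [hvt]; exact C.off_s0
      obtain ⟨h, eh⟩ := C.one_orbit ht (mul_mem hq ht) hox hoff
      refine hqtc (isConj_iff.mpr ⟨(h : G) * g, ?_⟩)
      rw [← show (h : G) * t * (h : G)⁻¹ = ((q * t : CZ z) : G) from congrArg Subtype.val eh, et]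
      group
  rw [C.vmul q hq t ht, hvt] at hP2
  have h := List.all_eq_true.mp shift_s0 (code (v q)) (List.mem_range.mpr (code_lt' _))
  rw [vec_code, decide_eq_true hP1, decide_eq_true hP2, Bool.and_self, cond_true] at h
  obtain ⟨p, hp, hp', ep⟩ := (C.trace_inW c ht et hvt _).mp h
  have hmem : (q : G) ∈ (QG Q).map (MulAut.conj g).toMonoidHom := by
    rcases C.eq_cases hp hq ep with e | e
    · rw [e]; exact hp'
    · rw [e]; exact Subgroup.mul_mem _ c.mem' hp'
  rw [← hQn] at hmem
  obtain ⟨w, hw, ew⟩ := hmem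
  refine hbQ (of_mem_QG ?_)
  rwa [show (b : G) = w from ((MulAut.conj n).injective (ew.trans eq')).symm]

/-- of two elements differing by the central involution one is conjugate to it -/
theorem aSub_or [Q.Normal] (hex : ∃ g : G, g * z * g⁻¹ ∈ QG Q ∧ g * z * g⁻¹ ≠ z) {a : CZ z} (ha : a ∈ C.aSub)
    (haQ : a ∉ Q) : IsConj z (a : G) ∨ IsConj z ((a : G) * z) := by
  obtain ⟨g, t, b, h, ht, et, hvt, c, hb, hbQ, rfl⟩ := C.aSub_form hex ha haQ
  have hb2 : b * b = 1 := by
    calc b * b = h⁻¹ * ((h * b * h⁻¹) * (h * b * h⁻¹)) * h := by group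
      _ = 1 := by rw [C.aSub_sq ha]; group
  refine (C.ph_or c ht et hvt hb hbQ hb2).imp (fun e => e.trans (isConj_iff.mpr ⟨h, by simp⟩)) fun e =>
    e.trans (isConj_iff.mpr ⟨h, ?_⟩)
  have hz : (h : G) * z = z * h := Subgroup.mem_centralizer_singleton_iff.mp h.2
  have hz' : z * (h : G)⁻¹ = (h : G)⁻¹ * z := (Commute.inv_left hz).symm
  simp only [Subgroup.coe_mul, Subgroup.coe_inv, mul_assoc, hz']

end Co

end CfsgLib.LargeFischer
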