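import Cfsg.Agent.Lib.LargeFischer.ToddData
import Cfsg.Agent.Lib.Golay.Code

/-!
The pairs of points inside the group of order 2048, and the permutation group preserving them.
-/

set_option autoImplicit false
set_option Elab.async false
set_option maxRecDepth 100000

namespace CfsgLib.LargeFischer

open Cfsg CfsgLib.Golay

/-- the element of a pair of points -/
def dp (p q : GolayPt) : ℕ := pairD.getD (idx p) 0 ^^^ pairD.getD (idx q) 0

/-- all pairs of positions -/
def pairs24 : List (ℕ × ℕ) :=
  (List.range 24).flatMap fun j => (List.range j).map fun i => (i, j)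

/-- the element of a mask of points -/
def sumD (l : List ℕ) (m : ℕ) : ℕ := comb l m

theorem pairs_ok : pairD.length = 24 ∧ pairD.all (fun d => Nat.blt d 2048) = true ∧
    pairs24.all (fun a => Nat.testBit pairMask (pairD.getD a.1 0 ^^^ pairD.getD a.2 0)) = true ∧
    (List.range 2048).all (fun n => bif Nat.testBit pairMask n then
      pairs24.any fun a => Nat.beq n (pairD.getD a.1 0 ^^^ pairD.getD a.2 0) else true) = true ∧
    pairs24.all (fun a => pairs24.all fun b =>
      bif Nat.beq a.1 b.1 || Nat.beq a.1 b.2 || Nat.beq a.2 b.1 || Nat.beq a.2 b.2 then true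
      else !Nat.testBit pairMask (pairD.getD a.1 0 ^^^ pairD.getD a.2 0 ^^^ (pairD.getD b.1 0 ^^^ pairD.getD b.2 0))) =
      true := by decide +kernel

theorem pairs_nodup : (pairs24.map fun a => pairD.getD a.1 0 ^^^ pairD.getD a.2 0).Nodup := by decide +kernel

theorem code_ok : rows.all (fun r => Nat.beq (pop 24 r % 2) 0 && Nat.beq (sumD pairD r) 0) = true ∧
    (List.range 4096).all (fun t => Nat.beq t 0 || !Nat.beq (pop 24 (t * 4096) % 2) 0 ||
      !Nat.beq (sumD pairD (t * 4096)) 0) = true := by decide +kernel

end CfsgLib.LargeFischer
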