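import Cfsg.Agent.Lib.LargeFischer.ToddAction
import Cfsg.Agent.Lib.LargeFischer.FusionClasses
import Cfsg.Agent.Lib.LargeFischer.FusionThompson

/-!
The Thompson subgroup with its coordinates, and the map onto the Mathieu group.
-/

set_option autoImplicit false
set_option linter.style.haveILetI false

namespace CfsgLib.LargeFischer

open Cfsg (GolayPt M24)

/-- the action of the normaliser of the Thompson subgroup on the 24 points, with the meaning of the pairs -/
theorem exists_todd {G : Type*} [Group G] [Finite G] (z : G) (Q : Subgroup (Subgroup.centralizer ({z} : Set G)))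
    [Q.Normal] (hF : Cfsg.IsOfLargeFischerTypeAt z Q) (T : Sylow 2 G) (A : Subgroup G)
    (hA : A = Cfsg.thompsonSubgroupOf 2 (T : Subgroup G)) :
    (∀ a ∈ A, a * a = 1) ∧ Nat.card A = 2 ^ 11 ∧
      ∃ φ : ↥(Subgroup.normalizer (A : Set G)) →* ↥M24,
        φ.ker = A.subgroupOf (Subgroup.normalizer (A : Set G)) ∧ Function.Surjective φ ∧
          ∀ t ∈ A, t ≠ 1 → ¬ IsConj z t → ∃ p q : GolayPt, p ≠ q ∧ ∀ m : ↥(Subgroup.normalizer (A : Set G)),
            ((m : G) * t = t * (m : G) ↔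
              ((φ m : Equiv.Perm GolayPt) p = p ∧ (φ m : Equiv.Perm GolayPt) q = q) ∨
                ((φ m : Equiv.Perm GolayPt) p = q ∧ (φ m : Equiv.Perm GolayPt) q = p)) := by
  classical
  haveI := Fact.mk Nat.prime_two
  have hex := exists_conjugate hF
  obtain ⟨v, ρ, o, C⟩ := exists_coords hF
  obtain rfl := C.outer_two hex
  obtain ⟨TH⟩ : Nonempty (Sylow 2 ↥(Subgroup.centralizer ({z} : Set G))) := inferInstance
  obtain ⟨v', ρ', C', hTH⟩ := C.sylow_coords rfl TH
  obtain ⟨A0, rfl, hAT, hA2, hA11, -, -, hmax⟩ := C'.exists_largest rfl hTH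
  have hQT : Q ≤ TH := fun q hq => by
    rw [hTH, Subgroup.mem_comap, (C'.ker q).mpr hq]; exact one_mem _
  obtain ⟨S, hS⟩ := C'.sylow_top TH hQT
  obtain ⟨g, hg⟩ := MulAction.exists_smul_eq G S T
  have hTe : (T : Subgroup G) = (TH : Subgroup ↥(Subgroup.centralizer ({z} : Set G))).map (Co.incl z g) := by
    rw [← hg, Sylow.coe_subgroup_smul, hS, Subgroup.pointwise_smul_def]
    exact Subgroup.map_map _ _ _
  have he := Co.incl_inj (z := z) g
  have hbound := largest_map (Co.incl z g) he hmax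
  have hAe2 : ∀ a ∈ Co.bigA C' g, a * a = 1 := by
    rintro _ ⟨a, ha, rfl⟩
    rw [← map_mul, hA2 a ha, map_one]
  have hcard : Nat.card ↥(Co.bigA C' g) = 2 ^ 11 := (Subgroup.card_map_of_injective he).trans hA11
  have hle : Co.bigA C' g ≤ (T : Subgroup G) := hTe ▸ Subgroup.map_mono hAT
  have hAeq : A = Co.bigA C' g := by
    rw [hA]
    exact thompson_eq hle hAe2 fun B hB hB2 => by rw [hcard]; exact hbound B (hTe ▸ hB) hB2
  clear hA
  subst hAeq
  have huni : ∀ B ≤ (T : Subgroup G), (∀ a ∈ B, a * a = 1) → Nat.card B = Nat.card (Co.bigA C' g) → B = Co.bigA C' g :=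
    fun B hB hB2 hBc => (hbound B (hTe ▸ hB) hB2).2 (hBc.trans hcard)
  have hfus : ∀ a ∈ Co.bigA C' g, ∀ y : G, y * a * y⁻¹ ∈ Co.bigA C' g →
      ∃ m ∈ Subgroup.normalizer (Co.bigA C' g : Set G), m * a * m⁻¹ = y * a * y⁻¹ :=
    fun a ha y hy => normalizer_fusion T hAe2 huni ha y hy
  have hTN : (T : Subgroup G) ≤ Subgroup.normalizer (Co.bigA C' g : Set G) := by
    intro t ht
    refine Subgroup.mem_normalizer_fintype (S := (Co.bigA C' g : Set G)) fun a ha => ?_
    have h1 : (Co.bigA C' g).map (MulAut.conj t).toMonoidHom = Co.bigA C' g := by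
      refine huni _ ?_ ?_ (Subgroup.card_map_of_injective (MulAut.conj t).injective)
      · rintro _ ⟨b, hb, rfl⟩
        exact mul_mem (mul_mem ht (hle hb)) (inv_mem ht)
      · rintro _ ⟨b, hb, rfl⟩
        rw [← map_mul, hAe2 b hb, map_one]
    exact h1.le ⟨a, ha, rfl⟩
  have h21 : 2 ^ 21 ∣ Nat.card ↥(Subgroup.normalizer (Co.bigA C' g : Set G)) := by
    refine (dvd_of_eq ?_).trans (Subgroup.card_dvd_of_le hTN)
    rw [hTe, Subgroup.card_map_of_injective he, hTH, C'.syl_card rfl]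
  obtain ⟨x, kb, F, hpairs⟩ := Co.exists_pairs C' g hex hfus
  obtain ⟨φ, hker, hφ⟩ := F.exists_hom g hpairs
  refine ⟨hAe2, hcard, φ, hker, F.hom_top g hex hfus h21 φ hker, fun t ht ht1 htz => ?_⟩
  obtain ⟨n, hn, rfl⟩ := F.evAt_surj g ht
  obtain ⟨p, q, hpq, rfl⟩ := exists_dp hn ((hpairs n hn).mp ((F.nz_iff g hn).mpr ⟨ht1, htz⟩))
  refine ⟨p, q, hpq, fun m => ?_⟩
  rw [← mul_inv_eq_iff_eq_mul, hφ m p q]
  constructor
  · intro h
    rcases dp_inj hpq (F.evAt_inj g (dp_lt _ _) (dp_lt _ _) h).symm with h | h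
    · exact Or.inl ⟨h.1.symm, h.2.symm⟩
    · exact Or.inr ⟨h.2.symm, h.1.symm⟩
  · rintro (⟨h1, h2⟩ | ⟨h1, h2⟩) <;> rw [h1, h2]
    rw [dp_comm]

end CfsgLib.LargeFischer
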